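import Groth.Agent.Cube.Global
import Groth.Agent.CBC.NoethThms
import Groth.Agent.ProperFin.Descend
import Groth.Agent.VBLib.Basic
import Groth.Agent.VBLib.Line
import Groth.Agent.S0002
import Mathlib.AlgebraicGeometry.AlgClosed.Basic

/-!
# Ingredients of the seesaw principle

Semicontinuity of `h⁰` on the fibres, invertible modules with nonzero sections in both directions,
gluing of local trivialisations along a section.
-/

set_option autoImplicit false
universe u

open CategoryTheory CategoryTheory.Limits AlgebraicGeometry TopologicalSpace Opposite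

noncomputable section

namespace Groth.Agent.Cube.Seesaw

open Groth.Agent.QCoh Groth.Agent.Props.GenLocus Groth.Agent.Props.GenTensor Groth.Agent.Props.GenPull

variable {W Z : Scheme.{u}}

/-! ### Invertible modules -/

theorem isCoh_of_invertible {L : W.Modules} (hL : PicF.IsInvertible L) : Coh.IsCoh L :=
  VBLib.isCoh_of_ofRank (VBLib.ofRank_one_of_invertible hL)

theorem isFlatOver_of_invertible (π : W ⟶ Z) [Flat π] {L : W.Modules} (hL : PicF.IsInvertible L) :
    FlatMod.IsFlatOver π L := by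
  intro x
  obtain ⟨U, e, hx, he⟩ := exists_isGen hL x
  let E := LinearEquiv.ofBijective _ (PicLaw.bijective_toSpanSingleton_germ he x hx)
  unfold FlatMod.IsFlatOverAt
  let := (π.stalkMap x).hom.toAlgebra
  let := FlatMod.moduleStalkOver π L x
  have : IsScalarTower (Z.presheaf.stalk (π x)) (W.presheaf.stalk x) (L.presheaf.stalk x) :=
    ⟨fun a b m => mul_smul _ b m⟩
  have : Module.Flat (Z.presheaf.stalk (π x)) (W.presheaf.stalk x) := Flat.stalkMap π x
  exact Module.Flat.of_linearEquiv (E.restrictScalars (Z.presheaf.stalk (π x))).symm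

/-! ### Semicontinuity -/

theorem finCoh : CBC.FinCoh.{u} := fun A _ _ Z _ _ M hM n => Groth.Agent.S0002.result A Z M hM n

section semicont

variable (π : W ⟶ Z) [IsProper π] [Flat π] [IsLocallyNoetherian Z] {L : W.Modules}

/-- The points where a fibre has a nonzero section form a closed set. -/
theorem isClosed_fiberRank_pos (hL : PicF.IsInvertible L) :
    IsClosed {z : Z | 1 ≤ CohIII.fiberRank π L 0 z} := by
  have hC := isCoh_of_invertible hL
  have : L.IsQuasicoherent := hC.1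
  rw [← isOpen_compl_iff, isOpen_iff_mem_nhds]
  refine CBC.isOpen_eq_of_nhds fun V hV z hz h => ?_
  obtain ⟨D, hD⟩ := CBC.exists_model_win hC (isFlatOver_of_invertible π hL) finCoh hV
  obtain ⟨w⟩ := hD 0
  have := w.fp
  have h1 := CBC.kerRank_le_eventually w.u (hV.primeIdealOf ⟨z, hz⟩)
  have h2 : hV.fromSpec (hV.primeIdealOf ⟨z, hz⟩) = z := hV.fromSpec_primeIdealOf ⟨z, hz⟩
  rw [← h2, ← hV.fromSpec.isOpenEmbedding.map_nhds_eq]
  refine Filter.mem_map.2 (h1.mono fun x hx => ?_)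
  rw [CBC.kerRank_pt hV D w, CBC.kerRank_pt hV D w] at hx
  simp only [Set.mem_compl_iff, Set.mem_setOf_eq, not_le, Nat.lt_one_iff, Set.mem_preimage] at h ⊢
  have h3 : CohIII.fiberRank π L 0 (CBC.pt hV (hV.primeIdealOf ⟨z, hz⟩)) = 0 := by
    rw [show CBC.pt hV (hV.primeIdealOf ⟨z, hz⟩) = z from h2]; exact h
  exact Nat.le_zero.mp (hx.trans h3.le)

/-- A fibre has positive `h⁰` iff it has a nonzero section. -/
theorem one_le_fiberRank_iff (hL : PicF.IsInvertible L) (z : Z) :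
    1 ≤ CohIII.fiberRank π L 0 z ↔ Nontrivial Γ(CohIII.fiberMod π L z, ⊤) := by
  have hC := isCoh_of_invertible hL
  have : L.IsQuasicoherent := hC.1
  obtain ⟨V, hV, hz, -⟩ := exists_isAffineOpen_mem_and_subset (U := (⊤ : Z.Opens)) (Opens.mem_top z)
  obtain ⟨D, hD⟩ := CBC.exists_model_win hC (isFlatOver_of_invertible π hL) finCoh hV
  obtain ⟨w⟩ := hD 0
  have h1 := CBC.subsingleton_fiberH_iff hV z hz D w
  rw [← not_subsingleton_iff_nontrivial, ← Equiv.subsingleton_congr (ProperFin.h0Sec _).toEquiv, h1]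
  omega

end semicont

/-! ### Sections -/

theorem iso_of_gen {L : W.Modules} (t : Γ(L, ⊤)) (ht : IsGen L ⊤ t) :
    Nonempty (L ≅ Coh.structureModule W) :=
  PicLaw.nonempty_iso_of_transition (fun _ : PUnit.{1} => (⊤ : W.Opens))
    (fun _ => ⟨⟨⟩, trivial⟩) (fun _ => t) (fun _ => ht) (fun _ => one' ⊤) (fun _ => isGen_one _)
    (fun _ _ _ _ _ => ⟨1, (one_smul _ _).symm, (one_smul _ _).symm⟩)

theorem isGen_map {L M : W.Modules} (φ : L ≅ M) {U : W.Opens} {e : Γ(L, U)} (he : IsGen L U e) :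
    IsGen M U (φ.hom.app U e) := fun V hV => by
  have hfun : sm (φ.hom.app U e) hV = φ.hom.app V ∘ sm e hV := by
    funext a
    simp only [sm, Function.comp_apply, Scheme.Modules.Hom.app_smul, ← app_res]
  rw [hfun]
  exact Function.Bijective.comp (ConcreteCategory.bijective_of_isIso (φ.hom.app V)) (he V hV)

theorem nontrivial_of_iso [Nonempty W] {L : W.Modules} (h : Nonempty (L ≅ Coh.structureModule W)) :
    Nontrivial Γ(L, ⊤) := by
  obtain ⟨t, ht⟩ := exists_gen_of_iso h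
  have : Nonempty (⊤ : W.Opens) := ⟨⟨Classical.arbitrary W, trivial⟩⟩
  refine ⟨t, 0, fun h0 => one_ne_zero (α := Γ(W, ⊤)) (ht.injective le_rfl ?_)⟩
  rw [res_self, h0, smul_zero, smul_zero]

theorem eq_zero_of_res_eq_zero [IsIntegral W] {L : W.Modules} (hL : PicF.IsInvertible L) (s : Γ(L, ⊤))
    {V : W.Opens} [Nonempty V] (h : res L (le_top : V ≤ ⊤) s = 0) : s = 0 := by
  choose U e hxU he using fun x : W => exists_isGen hL x
  refine QCoh.eq_of_locally_eq L (U := U) (V := ⊤) (fun _ => le_top) (fun p _ => Opens.mem_iSup.mpr ⟨p, hxU p⟩) s 0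
    fun x => ?_
  obtain ⟨a, ha, -⟩ := (he x).exists_eq le_rfl (res L (le_top : U x ≤ ⊤) s)
  rw [res_self] at ha
  obtain ⟨y⟩ := ‹Nonempty V›
  have hne : ((U x : Set W) ∩ (V : Set W)).Nonempty :=
    nonempty_preirreducible_inter (U x).2 V.2 ⟨x, hxU x⟩ ⟨y.1, y.2⟩
  have : Nonempty (U x ⊓ V : W.Opens) := let ⟨p, hp⟩ := hne; ⟨⟨p, hp⟩⟩
  have h1 := congrArg (res L (inf_le_left : U x ⊓ V ≤ U x)) ha
  rw [res_res, res_smul, ← res_res L (le_top : V ≤ ⊤) inf_le_right, h, map_zero] at h1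
  have h2 : rres (inf_le_left : U x ⊓ V ≤ U x) a = 0 :=
    (he x).injective inf_le_left (h1.symm.trans (zero_smul _ _).symm)
  have h3 : a = 0 := by
    refine map_injective_of_isIntegral W (homOfLE (inf_le_left : U x ⊓ V ≤ U x)) ?_
    exact h2.trans (map_zero _).symm
  rw [ha, h3, zero_smul, map_zero]

/-- An invertible module with a nonzero section, whose inverse has one too, is trivial on an integral
scheme whose global functions form a field. -/
theorem iso_of_sections [IsIntegral W] (hfield : IsField Γ(W, ⊤)) {L L' : W.Modules}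
    (hL : PicF.IsInvertible L) (hL' : PicF.IsInvertible L')
    (hi : Nonempty (CohB1.tensorMod L L' ≅ Coh.structureModule W))
    (hs : Nontrivial Γ(L, ⊤)) (ht : Nontrivial Γ(L', ⊤)) :
    Nonempty (L ≅ Coh.structureModule W) := by
  obtain ⟨φ⟩ := hi
  obtain ⟨s, hs⟩ := exists_ne (0 : Γ(L, ⊤))
  obtain ⟨t, ht⟩ := exists_ne (0 : Γ(L', ⊤))
  have hr1 : ∃ r : Γ(W, ⊤), φ.hom.app ⊤ (tmul s t) = r • one' ⊤ := by
    obtain ⟨r, hr, -⟩ := (isGen_one (⊤ : W.Opens)).exists_eq le_rfl (φ.hom.app ⊤ (tmul s t))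
    exact ⟨r, by rwa [res_self] at hr⟩
  obtain ⟨r, hr⟩ := hr1
  have key : ∀ x : W, ∃ (V : W.Opens) (e : Γ(L, V)) (a : Γ(W, V)), x ∈ V ∧ IsGen L V e ∧
      res L le_top s = a • e ∧ ∃ c, rres le_top r = a * c ∧ c ≠ 0 := by
    intro x
    obtain ⟨U, e₀, hxU, he₀⟩ := exists_isGen hL x
    obtain ⟨U', e₀', hxU', he₀'⟩ := exists_isGen hL' x
    let V := U ⊓ U'
    have : Nonempty V := ⟨⟨x, hxU, hxU'⟩⟩
    let e := res L (inf_le_left : V ≤ U) e₀
    let e' := res L' (inf_le_right : V ≤ U') e₀'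
    have he : IsGen L V e := he₀.restrict _
    have he' : IsGen L' V e' := he₀'.restrict _
    obtain ⟨a, ha, -⟩ := he.exists_eq le_rfl (res L (le_top : V ≤ ⊤) s)
    obtain ⟨b, hb, -⟩ := he'.exists_eq le_rfl (res L' (le_top : V ≤ ⊤) t)
    rw [res_self] at ha hb
    have hg := isGen_map φ (isGen_tmul he he')
    obtain ⟨v, hv, -⟩ := (isGen_one V).exists_eq le_rfl (φ.hom.app V (tmul e e'))
    rw [res_self] at hv
    refine ⟨V, e, a, ⟨hxU, hxU'⟩, he, ha, b * v, ?_, mul_ne_zero ?_ ?_⟩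
    · have h1 := congrArg (res (Coh.structureModule W) (le_top : V ≤ ⊤)) hr
      rw [← app_res, res_tmul, ha, hb, tmul_smul_left, tmul_smul_right, res_smul, res_one_eq,
        Scheme.Modules.Hom.app_smul, Scheme.Modules.Hom.app_smul, hv, smul_smul, smul_smul] at h1
      exact ((isGen_one V).injective le_rfl (by simpa only [res_self, mul_assoc] using h1)).symm
    · rintro rfl
      exact ht (eq_zero_of_res_eq_zero hL' t (V := V) (by rw [hb, zero_smul]))
    · rintro rfl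
      have h1 : (1 : Γ(W, V)) = 0 := hg.injective le_rfl (by rw [res_self, hv, zero_smul, smul_zero, smul_zero])
      exact one_ne_zero h1
  have hr0 : r ≠ 0 := by
    rintro rfl
    obtain ⟨V, e, a, hxV, he, ha, c, hc, hc0⟩ := key (Classical.arbitrary W)
    have : Nonempty V := ⟨⟨_, hxV⟩⟩
    rw [map_zero, eq_comm, mul_eq_zero, or_iff_left hc0] at hc
    exact hs (eq_zero_of_res_eq_zero hL s (V := V) (by rw [ha, hc, zero_smul]))
  let := hfield.toField
  have hru : IsUnit r := (Ne.isUnit hr0)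
  refine iso_of_gen s (IsGen.of_local fun x _ => ?_)
  obtain ⟨V, e, a, hxV, he, ha, c, hc, -⟩ := key x
  exact ⟨V, le_top, hxV, by rw [ha]; exact he.smul_unit (isUnit_of_mul_isUnit_left (y := c) (hc ▸ hru.map (rres (le_top : V ≤ ⊤)).hom))⟩

/-! ### Gluing along a section -/

theorem iso_of_locally (π : W ⟶ Z) (s : Z ⟶ W) (hs : s ≫ π = 𝟙 Z)
    (hfun : ∀ U : Z.Opens, IsAffineOpen U → Function.Bijective (π.app U))
    {L : W.Modules} (hsec : Nonempty ((Scheme.Modules.pullback s).obj L ≅ Coh.structureModule Z))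
    (hloc : ∀ z : Z, ∃ (V : Z.Opens) (_ : z ∈ V) (g : Γ(L, π ⁻¹ᵁ V)), IsGen L (π ⁻¹ᵁ V) g) :
    Nonempty (L ≅ Coh.structureModule W) := by
  choose V hzV g hg using hloc
  obtain ⟨r, hr⟩ := exists_gen_of_iso hsec
  have hsV : ∀ U : Z.Opens, s ⁻¹ᵁ (π ⁻¹ᵁ U) = U := fun U => by
    rw [← Scheme.Hom.comp_preimage, hs]; rfl
  have hsa : ∀ (U : Z.Opens) (b : Γ(Z, U)), s.app _ (π.app U b) = rres (hsV U).le b := fun U b => by
    rw [← CommRingCat.comp_apply, ← Scheme.Hom.comp_app, Scheme.Hom.congr_app hs]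
    rfl
  have hnorm : ∀ z, ∃ g' : Γ(L, π ⁻¹ᵁ V z), IsGen L (π ⁻¹ᵁ V z) g' ∧
      pb s g' = res _ (le_top : s ⁻¹ᵁ (π ⁻¹ᵁ V z) ≤ ⊤) r := by
    intro z
    obtain ⟨a, ha, -⟩ := (isGen_pb s (hg z)).exists_eq le_rfl (res _ (le_top : s ⁻¹ᵁ (π ⁻¹ᵁ V z) ≤ ⊤) r)
    rw [res_self] at ha
    have hau : IsUnit a := by
      obtain ⟨b, hb, -⟩ := hr.exists_eq (le_top : s ⁻¹ᵁ (π ⁻¹ᵁ V z) ≤ ⊤) (pb s (g z))
      refine IsUnit.of_mul_eq_one_right b ((hr.injective (le_top : s ⁻¹ᵁ (π ⁻¹ᵁ V z) ≤ ⊤) ?_).symm)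
      rw [one_smul, mul_comm, ← smul_smul, ← hb, ← ha]
    let a' : Γ(Z, V z) := rres (hsV (V z)).ge a
    refine ⟨π.app (V z) a' • g z, (hg z).smul_unit ((hau.map _).map _), ?_⟩
    rw [Cube.pb_smul, ha, hsa]
    congr 1
    exact (rres_rres (hsV (V z)).ge _ a).trans (rres_self _ _)
  choose g' hg' hg'r using hnorm
  have hcomp : ∀ z z', res L (inf_le_left : π ⁻¹ᵁ V z ⊓ π ⁻¹ᵁ V z' ≤ _) (g' z) =
      res L inf_le_right (g' z') := by
    intro z z'
    obtain ⟨a, ha, -⟩ := (hg' z).exists_eq (inf_le_left : π ⁻¹ᵁ V z ⊓ π ⁻¹ᵁ V z' ≤ _)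
      (res L inf_le_right (g' z'))
    suffices h : a = 1 by rw [ha, h, one_smul]
    choose U hUaff hxU hUle using fun x : (V z ⊓ V z' : Z.Opens) =>
      exists_isAffineOpen_mem_and_subset (U := V z ⊓ V z') x.2
    have hle : ∀ x, π ⁻¹ᵁ U x ≤ π ⁻¹ᵁ V z ⊓ π ⁻¹ᵁ V z' := fun x =>
      le_inf (π.preimage_mono (fun y hy => (hUle x hy).1)) (π.preimage_mono (fun y hy => (hUle x hy).2))
    refine eq_of_local_fun (U := fun x => π ⁻¹ᵁ U x) hle
      (fun p hp => ⟨⟨π p, hp⟩, hxU ⟨π p, hp⟩⟩) _ _ fun x => ?_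
    obtain ⟨b, hb⟩ := (hfun _ (hUaff x)).2 (rres (hle x) a)
    rw [map_one, ← hb]
    have h1 := congrArg (fun t => res _ (s.preimage_mono (hle x)) (pb s t)) ha
    simp only [Cube.pb_smul, Cube.pb_res, hg'r, res_smul, res_res] at h1
    have h2 : rres (s.preimage_mono (hle x)) (s.app _ a) = 1 :=
      (hr.injective le_top ((one_smul _ _).trans h1)).symm
    rw [← app_rres s (hle x), ← hb, hsa] at h2
    have h4 : b = 1 := (rres_bijective_of_eq (S := Z) (hsV (U x)).le (hsV (U x)).ge).1 (h2.trans (map_one _).symm)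
    rw [h4, map_one]
  obtain ⟨G, hG⟩ := QCoh.exists_glue L (U := fun z => π ⁻¹ᵁ V z) (V := ⊤) (fun _ => le_top)
    (fun p _ => Opens.mem_iSup.mpr ⟨π p, hzV (π p)⟩) g' hcomp
  exact iso_of_gen G (IsGen.of_local fun p _ =>
    ⟨π ⁻¹ᵁ V (π p), le_top, hzV (π p), by rw [hG]; exact hg' _⟩)

end Groth.Agent.Cube.Seesaw
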