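import Groth.Agent.PicLaw.Basic
import Groth.Agent.LimTop.PullSec
import Groth.Agent.ProjTwist.Invertible
import Mathlib.AlgebraicGeometry.Morphisms.ClosedImmersion

/-!
# Trivialisations and transition functions of invertible modules
-/

set_option autoImplicit false
universe u v

open CategoryTheory AlgebraicGeometry TopologicalSpace

noncomputable section

namespace Groth.Agent.Cube

open Groth.Agent.QCoh Groth.Agent.Props.GenLocus Groth.Agent.Props.GenTensor Groth.Agent.Props.GenPull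
  Groth.Agent.PullStalk.Sky

variable {W₀ W : Scheme.{u}} {L : W.Modules}

theorem pb_res (i : W₀ ⟶ W) {U V : W.Opens} (h : V ≤ U) (s : Γ(L, U)) :
    pb i (res L h s) = res _ (i.preimage_mono h) (pb i s) :=
  LFFrame.unitSec_res i L h s

theorem pb_smul (i : W₀ ⟶ W) {U : W.Opens} (a : Γ(W, U)) (s : Γ(L, U)) :
    pb i (a • s) = i.app U a • pb i s :=
  LFFrame.unitSec_smul i L U a s

/-- Sections over an affine open lift along closed immersions. -/
theorem exists_pb_eq (i : W₀ ⟶ W) [IsClosedImmersion i] (hL : PicF.IsInvertible L) {U : W.Opens}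
    (hU : IsAffineOpen U) (t : Γ((Scheme.Modules.pullback i).obj L, i ⁻¹ᵁ U)) :
    ∃ s : Γ(L, U), pb i s = t := by
  haveI : L.IsQuasicoherent := ProjTwist.isQCoh_of_isInvertible hL
  have hW : IsAffineOpen (i ⁻¹ᵁ U) := hU.preimage i
  letI := (i.appLE U (i ⁻¹ᵁ U) le_rfl).hom.toAlgebra
  letI := LimTop.secModule i L (le_refl (i ⁻¹ᵁ U))
  haveI : IsScalarTower Γ(W, U) Γ(W₀, i ⁻¹ᵁ U) Γ((Scheme.Modules.pullback i).obj L, i ⁻¹ᵁ U) :=
    IsScalarTower.of_algebraMap_smul fun _ _ => rfl
  have hb := LimTop.isBaseChange_unitSec i L le_rfl hU hW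
  have hsurj := i.app_surjective U hU
  have hpb : ∀ s : Γ(L, U), LimTop.unitSecLin i L le_rfl s = pb i s := fun s =>
    res_self ((Scheme.Modules.pullback i).obj L) le_rfl (pb i s)
  induction t using hb.inductionOn with
  | zero => exact ⟨0, map_zero _⟩
  | tmul m => exact ⟨m, (hpb m).symm⟩
  | smul a t ht =>
    obtain ⟨s, rfl⟩ := ht
    obtain ⟨b, rfl⟩ := hsurj a
    exact ⟨b • s, pb_smul i b s⟩
  | add t t' ht ht' =>
    obtain ⟨s, rfl⟩ := ht
    obtain ⟨s', rfl⟩ := ht'
    exact ⟨s + s', map_add _ s s'⟩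

/-- A section whose pullback generates, generates along the image. -/
theorem isGen_of_pb (i : W₀ ⟶ W) (hL : PicF.IsInvertible L) {U : W.Opens} {s : Γ(L, U)}
    (hs : IsGen ((Scheme.Modules.pullback i).obj L) (i ⁻¹ᵁ U) (pb i s))
    (hi : ∀ x ∈ U, ∃ y, i y = x) : IsGen L U s := by
  refine IsGen.of_local fun x hx => ?_
  obtain ⟨V, e, hxV, he⟩ := exists_isGen hL x
  obtain ⟨y, rfl⟩ := hi x hx
  let V' := U ⊓ V
  obtain ⟨a, ha, -⟩ := he.exists_eq (inf_le_right : V' ≤ V) (res L inf_le_left s)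
  have h1 : res _ (i.preimage_mono (inf_le_left : V' ≤ U)) (pb i s) =
      i.app V' a • res _ (i.preimage_mono (inf_le_right : V' ≤ V)) (pb i e) := by
    rw [← pb_res i (inf_le_left : V' ≤ U), ← pb_res i (inf_le_right : V' ≤ V), ha, pb_smul]
  obtain ⟨b, hb, -⟩ := hs.exists_eq (i.preimage_mono (inf_le_left : V' ≤ U))
    (res _ (i.preimage_mono (inf_le_right : V' ≤ V)) (pb i e))
  rw [h1, smul_smul] at hb
  have h2 : (1 : Γ(W₀, i ⁻¹ᵁ V')) = b * i.app V' a :=
    (isGen_pb i he).injective _ ((one_smul _ _).trans hb)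
  have hu : IsUnit (i.app V' a) := IsUnit.of_mul_eq_one_right b h2.symm
  have hy : y ∈ i ⁻¹ᵁ V' := ⟨hx, hxV⟩
  have hu' : IsUnit (W.presheaf.germ V' (i y) hy a) := by
    have h5 := hu.map (W₀.presheaf.germ (i ⁻¹ᵁ V') y hy).hom
    have h6 : IsUnit ((i.stalkMap y).hom (W.presheaf.germ V' (i y) hy a)) :=
      (Scheme.Hom.germ_stalkMap_apply i V' y hy a).symm ▸ h5
    exact (isUnit_map_iff (i.stalkMap y).hom _).mp h6
  have hxb : i y ∈ W.basicOpen a := (W.mem_basicOpen a (i y) hy).mpr hu'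
  have hle : W.basicOpen a ≤ V' := W.basicOpen_le a
  refine ⟨W.basicOpen a, hle.trans inf_le_left, hxb, ?_⟩
  have h3 := (he.restrict (hle.trans inf_le_right)).smul_unit
    (c := rres hle a) (RingedSpace.isUnit_res_basicOpen _ a)
  have h4 := congrArg (res L hle) ha
  rw [res_res, res_smul, res_res] at h4
  rwa [← h4] at h3

theorem res_one_eq {U V : W.Opens} (h : V ≤ U) : res (Coh.structureModule W) h (one' U) = one' V :=
  PicLaw.res_one' h

/-- A trivialisation gives a global generator. -/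
theorem exists_gen_of_iso (h : Nonempty (L ≅ Coh.structureModule W)) :
    ∃ t : Γ(L, ⊤), IsGen L ⊤ t := by
  obtain ⟨φ⟩ := h
  refine ⟨φ.inv.app ⊤ (one' ⊤), fun V hV => ?_⟩
  have hfun : sm (φ.inv.app ⊤ (one' ⊤)) hV = φ.inv.app V ∘ sm (L := Coh.structureModule W) (one' ⊤) hV := by
    funext a
    simp only [sm, Function.comp_apply, Scheme.Modules.Hom.app_smul, ← app_res]
  rw [hfun]
  exact Function.Bijective.comp (ConcreteCategory.bijective_of_isIso (φ.inv.app V))
    ((isGen_one (⊤ : W.Opens)) V hV)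

variable {ι : Type v} {U : ι → W.Opens}

/-- Frames whose transition functions are a coboundary give a trivialisation. -/
theorem nonempty_iso_of_coboundary (hU : ∀ x, ∃ p, x ∈ U p) {s : ∀ p, Γ(L, U p)} (hs : ∀ p, IsGen L (U p) (s p))
    (u : ∀ p q, Γ(W, U p ⊓ U q))
    (hu : ∀ p q, res L inf_le_left (s p) = u p q • res L inf_le_right (s q))
    (h : ∀ p, Γ(W, U p)) (hh : ∀ p, IsUnit (h p))
    (hc : ∀ p q, rres inf_le_left (h p) * u p q = rres inf_le_right (h q)) :
    Nonempty (L ≅ Coh.structureModule W) := by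
  refine PicLaw.nonempty_iso_of_transition U hU (fun p => h p • s p) (fun p => (hs p).smul_unit (hh p))
    (fun p => one' (U p)) (fun p => isGen_one _) ?_
  intro p q V hp hq
  refine ⟨1, ?_, ?_⟩
  · have e := congrArg (res L (le_inf hp hq)) (congrArg (fun z : Γ(L, U p ⊓ U q) => (rres inf_le_left (h p) : Γ(W, U p ⊓ U q)) • z) (hu p q))
    simp only [smul_smul, hc, res_smul, res_res, rres_rres] at e
    rw [one_smul, res_smul, res_smul, e]
  · rw [one_smul, res_one_eq, res_one_eq]

/-- If the pullback is trivial, the transition functions pull back to a coboundary. -/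
theorem exists_coboundary_of_iso (f : W₀ ⟶ W) {s : ∀ p, Γ(L, U p)} (hs : ∀ p, IsGen L (U p) (s p))
    (u : ∀ p q, Γ(W, U p ⊓ U q))
    (hu : ∀ p q, res L inf_le_left (s p) = u p q • res L inf_le_right (s q))
    (hiso : Nonempty ((Scheme.Modules.pullback f).obj L ≅ Coh.structureModule W₀)) :
    ∃ v : ∀ p, Γ(W₀, f ⁻¹ᵁ U p), (∀ p, IsUnit (v p)) ∧
      ∀ p q, f.app _ (u p q) * rres (f.preimage_mono inf_le_right) (v q) =
        rres (f.preimage_mono inf_le_left) (v p) := by
  obtain ⟨t, ht⟩ := exists_gen_of_iso hiso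
  choose v hv using fun p => (ht.exists_eq (le_top : f ⁻¹ᵁ U p ≤ ⊤) (pb f (s p))).exists
  refine ⟨v, fun p => ?_, fun p q => ?_⟩
  · obtain ⟨a, ha, -⟩ := (isGen_pb f (hs p)).exists_eq le_rfl (res _ (le_top : f ⁻¹ᵁ U p ≤ ⊤) t)
    rw [res_self, hv p, smul_smul] at ha
    exact IsUnit.of_mul_eq_one_right a (ht.injective _ ((one_smul _ _).trans ha)).symm
  · have e := congrArg (pb f) (hu p q)
    rw [pb_smul, pb_res, pb_res, hv p, hv q, res_smul, res_smul, res_res, res_res, smul_smul] at e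
    exact (ht.injective _ e).symm

/-- Frames lifting the trivialisation of a thickening-invariant restriction. -/
theorem exists_frames (i : W₀ ⟶ W) [IsClosedImmersion i] [Surjective i] (hL : PicF.IsInvertible L)
    (hiso : Nonempty ((Scheme.Modules.pullback i).obj L ≅ Coh.structureModule W₀))
    (hU : ∀ p, IsAffineOpen (U p)) :
    ∃ (s : ∀ p, Γ(L, U p)) (u : ∀ p q, Γ(W, U p ⊓ U q)),
      (∀ p, IsGen L (U p) (s p)) ∧
      (∀ p q, res L inf_le_left (s p) = u p q • res L inf_le_right (s q)) ∧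
      (∀ p q, i.app _ (u p q) = 1) := by
  obtain ⟨t, ht⟩ := exists_gen_of_iso hiso
  choose s hs using fun p => exists_pb_eq i hL (hU p) (res _ le_top t)
  have hgen : ∀ p, IsGen L (U p) (s p) := fun p =>
    isGen_of_pb i hL (by rw [hs p]; exact ht.restrict le_top) fun x _ => i.surjective x
  choose u hu using fun p q =>
    ((hgen q).exists_eq (inf_le_right : U p ⊓ U q ≤ U q) (res L inf_le_left (s p))).exists
  refine ⟨s, u, hgen, hu, fun p q => ?_⟩
  have e := congrArg (pb i) (hu p q)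
  rw [pb_smul, pb_res, pb_res, hs p, hs q, res_res, res_res] at e
  exact (ht.injective (le_top : i ⁻¹ᵁ (U p ⊓ U q) ≤ ⊤) (e.symm.trans (one_smul _ _).symm))

end Groth.Agent.Cube
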