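import Groth.Agent.Cube.Ker
import Groth.Agent.Cube.Sec

/-!
# Small facts about functions on schemes over a field
-/

set_option autoImplicit false
universe u v

open CategoryTheory CategoryTheory.Limits MonoidalCategory CartesianMonoidalCategory AlgebraicGeometry
open scoped TensorProduct

noncomputable section

namespace Groth.Agent.Cube

open Groth.Agent.QCoh Groth.Agent.Props.GenLocus

theorem rres_bijective_of_eq {S : Scheme.{u}} {U V : S.Opens} (h : V ≤ U) (h' : U ≤ V) :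
    Function.Bijective (rres (X := S) h) := by
  refine Function.bijective_iff_has_inverse.mpr ⟨rres (X := S) h', fun x => ?_, fun x => ?_⟩
  · rw [rres_rres, rres_self]
  · rw [rres_rres, rres_self]

theorem isUnit_of_le_basicOpen {S : Scheme.{u}} {U : S.Opens} (a : Γ(S, U)) (h : U ≤ S.basicOpen a) : IsUnit a := by
  have h1 : IsUnit (rres (S.basicOpen_le a) a) := RingedSpace.isUnit_res_basicOpen (X := S.toSheafedSpace) a
  obtain ⟨b, hb⟩ := h1.exists_right_inv
  refine IsUnit.of_mul_eq_one (rres h b) ((rres_bijective_of_eq (S.basicOpen_le a) h).1 ?_)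
  rw [map_mul, map_one, rres_rres, rres_self]
  exact hb

theorem isUnit_of_local {S : Scheme.{u}} {U : S.Opens} {ι : Type v} (V : ι → S.Opens) (hle : ∀ p, V p ≤ U)
    (hcov : ∀ x ∈ U, ∃ p, x ∈ V p) (a : Γ(S, U)) (h : ∀ p, IsUnit (rres (hle p) a)) : IsUnit a := by
  refine isUnit_of_le_basicOpen a fun x hx => ?_
  obtain ⟨p, hp⟩ := hcov x hx
  refine (S.mem_basicOpen a x hx).mpr ?_
  have h1 := (h p).map (S.presheaf.germ (V p) x hp).hom
  rwa [S.presheaf.germ_res_apply] at h1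

theorem isUnit_of_app {S₀ S : Scheme.{u}} (i : S₀ ⟶ S) [Surjective i] {U : S.Opens} (a : Γ(S, U))
    (h : IsUnit (i.app U a)) : IsUnit a := by
  refine isUnit_of_le_basicOpen a fun x hx => ?_
  obtain ⟨y, rfl⟩ := i.surjective x
  refine (S.mem_basicOpen a (i y) hx).mpr ?_
  have h5 := h.map (S₀.presheaf.germ (i ⁻¹ᵁ U) y hx).hom
  have h6 : IsUnit ((i.stalkMap y).hom (S.presheaf.germ U (i y) hx a)) :=
    (Scheme.Hom.germ_stalkMap_apply i U y hx a).symm ▸ h5
  exact (isUnit_map_iff (i.stalkMap y).hom _).mp h6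

theorem transition_mul {S : Scheme.{u}} {L : S.Modules} {ι : Type v} {U : ι → S.Opens}
    {s : ∀ p, Γ(L, U p)} (hs : ∀ p, IsGen L (U p) (s p)) (u : ∀ p q, Γ(S, U p ⊓ U q))
    (hu : ∀ p q, res L inf_le_left (s p) = u p q • res L inf_le_right (s q))
    (p q r : ι) {V : S.Opens} (hp : V ≤ U p) (hq : V ≤ U q) (hr : V ≤ U r) :
    rres (le_inf hp hq) (u p q) * rres (le_inf hq hr) (u q r) = rres (le_inf hp hr) (u p r) := by
  have e : ∀ (p q : ι) (hp : V ≤ U p) (hq : V ≤ U q),
      res L hp (s p) = rres (le_inf hp hq) (u p q) • res L hq (s q) := fun p q hp hq => by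
    have h := congrArg (res L (le_inf hp hq)) (hu p q)
    rwa [res_res, res_smul, res_res] at h
  refine (hs r).injective hr ?_
  rw [← smul_smul, ← e q r hq hr, ← e p q hp hq, ← e p r hp hr]

variable {k : Type u} [Field k] {A B B₀ W : Over (Spec (CommRingCat.of k))}

theorem rres_pull (f : W ⟶ A) {U : A.left.Opens} {V V' : W.left.Opens} (h : V ≤ f.left ⁻¹ᵁ U)
    (hV : V' ≤ V) (x : Γ(A.left, U)) :
    rres hV (pull f U V h x) = pull f U V' (hV.trans h) x := by
  rw [pull_apply, pull_apply, ← CommRingCat.comp_apply, Scheme.Hom.appLE_map]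

theorem pull_rres (f : W ⟶ A) {U U' : A.left.Opens} {V : W.left.Opens} (h : V ≤ f.left ⁻¹ᵁ U)
    (hU : U ≤ U') (x : Γ(A.left, U')) :
    pull f U V h (rres hU x) = pull f U' V (h.trans (f.left.preimage_mono hU)) x := by
  rw [pull_apply, pull_apply, ← CommRingCat.comp_apply, Scheme.Hom.map_appLE]

theorem pull_eq_rres_app (f : W ⟶ A) {U : A.left.Opens} {V : W.left.Opens} (h : V ≤ f.left ⁻¹ᵁ U)
    (x : Γ(A.left, U)) : pull f U V h x = rres h (f.left.app U x) := rfl

theorem le_pre_box (m : W ⟶ A ⊗ B) {U : A.left.Opens} {V : B.left.Opens} {V' : W.left.Opens}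
    (h1 : V' ≤ (m ≫ fst A B).left ⁻¹ᵁ U) (h2 : V' ≤ (m ≫ snd A B).left ⁻¹ᵁ V) :
    V' ≤ m.left ⁻¹ᵁ box U V :=
  fun _ hy => ⟨h1 hy, h2 hy⟩

theorem bijective_algebraMap_unit :
    Function.Bijective (algebraMap k Γ((𝟙_ (Over (Spec (CommRingCat.of k)))).left, ⊤)) := by
  show Function.Bijective (str (𝟙_ (Over (Spec (CommRingCat.of k)))) ⊤).hom
  have h : str (𝟙_ (Over (Spec (CommRingCat.of k)))) ⊤ = (Scheme.ΓSpecIso (CommRingCat.of k)).inv := by
    show (Scheme.ΓSpecIso (CommRingCat.of k)).inv ≫ Scheme.Hom.appLE (𝟙 (Spec (CommRingCat.of k))) ⊤ ⊤ _ = _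
    simp [Scheme.Hom.appLE]
  rw [h]
  exact ConcreteCategory.bijective_of_isIso (Scheme.ΓSpecIso (CommRingCat.of k)).inv

variable (x₀ : 𝟙_ (Over (Spec (CommRingCat.of k))) ⟶ A)

/-- Evaluation at a rational point. -/
def evPt (U : A.left.Opens) (hU : ⊤ ≤ x₀.left ⁻¹ᵁ U) : Γ(A.left, U) →ₐ[k] k :=
  (AlgEquiv.ofBijective (Algebra.ofId k _) bijective_algebraMap_unit).symm.toAlgHom.comp (pull x₀ U ⊤ hU)

theorem algebraMap_evPt (U : A.left.Opens) (hU : ⊤ ≤ x₀.left ⁻¹ᵁ U) (a : Γ(A.left, U)) :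
    algebraMap k _ (evPt x₀ U hU a) = pull x₀ U ⊤ hU a :=
  (AlgEquiv.ofBijective (Algebra.ofId k _) bijective_algebraMap_unit).apply_symm_apply _

theorem le_pre_point {U : A.left.Opens} (hU : ⊤ ≤ x₀.left ⁻¹ᵁ U) {V V' : B.left.Opens} (hV : V' ≤ V) :
    V' ≤ (lift (toUnit B ≫ x₀) (𝟙 B)).left ⁻¹ᵁ box U V := by
  refine le_pre_box _ ?_ ?_
  · rw [lift_fst]
    exact fun y _ => hU (TopologicalSpace.Opens.mem_top ((toUnit B).left y))
  · rw [lift_snd]
    exact hV

theorem pull_point_mulMap {U : A.left.Opens} (hU : ⊤ ≤ x₀.left ⁻¹ᵁ U) (V : B.left.Opens)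
    (z : Γ(A.left, U) ⊗[k] Γ(B.left, V)) :
    pull (lift (toUnit B ≫ x₀) (𝟙 B)) (box U V) V (le_pre_point x₀ hU le_rfl) (mulMap U V z) =
      TensorProduct.lid k _ ((evPt x₀ U hU).toLinearMap.rTensor _ z) := by
  induction z using TensorProduct.induction_on with
  | zero => simp only [map_zero]
  | add y z hy hz => simp only [map_add, hy, hz]
  | tmul a b =>
    rw [pull_mulMap_tmul, LinearMap.rTensor_tmul, TensorProduct.lid_tmul, Algebra.smul_def,
      AlgHom.toLinearMap_apply, pull_congr (lift_fst _ _), pull_congr (lift_snd _ _)]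
    rw [← pull_pull (toUnit B) x₀ hU (V' := V) (fun _ _ => trivial) a, ← algebraMap_evPt x₀ U hU, AlgHom.commutes]
    congr 1
    exact (pull_id V V le_rfl b).trans (rres_self _ _)

theorem pull_point_emb {i : B₀ ⟶ B} {U : A.left.Opens} (hU : ⊤ ≤ x₀.left ⁻¹ᵁ U) (V : B.left.Opens)
    (z : Γ(A.left, U) ⊗[k] K i V) :
    pull (lift (toUnit B ≫ x₀) (𝟙 B)) (box U V) V (le_pre_point x₀ hU le_rfl) (emb i U V z) =
      (TensorProduct.lid k _ ((evPt x₀ U hU).toLinearMap.rTensor _ z)).1 := by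
  induction z using TensorProduct.induction_on with
  | zero => simp only [map_zero, ZeroMemClass.coe_zero]
  | add y z hy hz => simp only [map_add, hy, hz, Submodule.coe_add]
  | tmul a x =>
    rw [emb_tmul, pull_point_mulMap x₀ hU, LinearMap.rTensor_tmul, LinearMap.rTensor_tmul,
      TensorProduct.lid_tmul, TensorProduct.lid_tmul, Submodule.coe_smul]

variable {i : B₀ ⟶ B}

theorem kres_self (V : B.left.Opens) (x : K i V) : kres V V le_rfl x = x :=
  Subtype.ext ((kres_val V V le_rfl x).trans (rres_self _ _))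

theorem rres_emb_left {U U' : A.left.Opens} {V : B.left.Opens} (hU : U' ≤ U) (z : Γ(A.left, U) ⊗[k] K i V) :
    rres (box_mono hU le_rfl) (emb i U V z) =
      emb i U' V ((pull (𝟙 A) U U' (le_id hU)).toLinearMap.rTensor _ z) :=
  (rres_emb hU le_rfl z).trans (by rw [show kres (i := i) V V le_rfl = LinearMap.id from LinearMap.ext (kres_self V)]; rfl)

theorem pull_id_self (U : A.left.Opens) :
    (pull (𝟙 A) U U (le_id le_rfl)).toLinearMap = LinearMap.id :=
  LinearMap.ext fun x => (pull_id U U le_rfl x).trans (rres_self _ _)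

theorem rres_emb_right {U : A.left.Opens} {V V' : B.left.Opens} (hV : V' ≤ V) (z : Γ(A.left, U) ⊗[k] K i V) :
    rres (box_mono le_rfl hV) (emb i U V z) = emb i U V' ((kres V V' hV).lTensor _ z) :=
  (rres_emb le_rfl hV z).trans (by rw [pull_id_self]; rfl)

theorem exists_emb_of_pull [IsAffineHom i.left] {U : A.left.Opens} {V : B.left.Opens} (hU : IsAffineOpen U)
    (hV : IsAffineOpen V) (x : Γ((A ⊗ B).left, box U V))
    (hx : pull (A ◁ i) (box U V) (box U (i.left ⁻¹ᵁ V)) (preimage_box i U V).ge x = 0) :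
    ∃ z, emb i U V z = x := by
  refine exists_emb_eq i hU hV x ((rres_bijective_of_eq (preimage_box i U V).ge (preimage_box i U V).le).1 ?_)
  rw [map_zero]
  exact hx

end Groth.Agent.Cube
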