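import Groth.Agent.Cube.Base
import Groth.Agent.Cube.Util
import Mathlib.RingTheory.TensorProduct.IsBaseChangeFree

/-!
# Descending triviality along a field extension

If all global functions of `W` are constants, an invertible module on `W/K` which becomes trivial
over a field extension is trivial.  No finiteness or properness is needed.
-/

set_option autoImplicit false
universe u

open CategoryTheory CategoryTheory.Limits AlgebraicGeometry TopologicalSpace

noncomputable section

namespace Groth.Agent.Cube.Descent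

open Groth.Agent.QCoh Groth.Agent.Props.GenLocus Groth.Agent.Props.GenTensor

variable {K L : Type u} [Field K] [Field L] (j : K →+* L) {W W' : Scheme.{u}}
  {i : W' ⟶ W} {q : W ⟶ Spec (CommRingCat.of K)} {q' : W' ⟶ Spec (CommRingCat.of L)}

theorem glb_rres {R : Type u} [CommRing R] {Z : Scheme.{u}} (p : Z ⟶ Spec (CommRingCat.of R))
    {U V : Z.Opens} (h : V ≤ U) (r : R) : rres h (glb p U r) = glb p V r := by
  show ((Scheme.ΓSpecIso (CommRingCat.of R)).inv ≫ p.appLE ⊤ U _ ≫ Z.presheaf.map (homOfLE h).op) r =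
    ((Scheme.ΓSpecIso (CommRingCat.of R)).inv ≫ p.appLE ⊤ V _) r
  rw [Scheme.Hom.appLE_map]

/-- Coordinates with respect to a basis of the extension. -/
theorem bijective_coord (H : IsPullback i q' q (Spec.map (CommRingCat.ofHom j))) {J : Type u}
    (b : let := j.toAlgebra; Module.Basis J K L) {U : W.Opens} (hU : IsAffineOpen U) :
    Function.Bijective (fun a : J →₀ Γ(W, U) => a.sum fun l x => i.app U x * glb q' (i ⁻¹ᵁ U) (b l)) := by
  let := j.toAlgebra
  have hiso := isIso_pushoutSection_of_isAffineOpen H (US := ⊤) (UT := ⊤) (UX := U) (fun _ _ => trivial)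
    (fun _ _ => trivial) (UY := i ⁻¹ᵁ U) (by simp) (isAffineOpen_top _) (isAffineOpen_top _) hU
  have h1 := (isIso_pushoutSection_iff ..).mp hiso
  have h2 : IsPushout (CommRingCat.ofHom (glb q U)) (CommRingCat.ofHom j) (i.app U)
      (CommRingCat.ofHom (glb q' (i ⁻¹ᵁ U))) :=
    h1.of_iso (Scheme.ΓSpecIso (CommRingCat.of K)) (Iso.refl _) (Scheme.ΓSpecIso (CommRingCat.of L))
      (Iso.refl _)
      (by simp [glb])
      (by
        have h := Scheme.ΓSpecIso_naturality (CommRingCat.ofHom j)
        rw [← h, Scheme.Hom.appTop, Scheme.Hom.app_eq_appLE]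
        rfl)
      (by simp [Scheme.Hom.app_eq_appLE])
      (by simp [glb])
  let := (glb q U).toAlgebra
  let := (i.app U).hom.toAlgebra
  let := (glb q' (i ⁻¹ᵁ U)).toAlgebra
  let : Algebra K Γ(W', i ⁻¹ᵁ U) := ((i.app U).hom.comp (glb q U)).toAlgebra
  have : IsScalarTower K Γ(W, U) Γ(W', i ⁻¹ᵁ U) := IsScalarTower.of_algebraMap_eq' rfl
  have : IsScalarTower K L Γ(W', i ⁻¹ᵁ U) :=
    IsScalarTower.of_algebraMap_eq' (congrArg CommRingCat.Hom.hom h2.w)
  have hp : Algebra.IsPushout K Γ(W, U) L Γ(W', i ⁻¹ᵁ U) := CommRingCat.isPushout_iff_isPushout.mp h2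
  let B := hp.out.basis b
  have hf : ∀ a : J →₀ Γ(W, U), (a.sum fun l x => i.app U x * glb q' (i ⁻¹ᵁ U) (b l)) = B.repr.symm a := fun a => by
    rw [Module.Basis.repr_symm_apply, Finsupp.linearCombination_apply]
    refine Finsupp.sum_congr fun l _ => ?_
    rw [Algebra.smul_def, hp.out.basis_apply b l]
    rfl
  rw [show (fun a : J →₀ Γ(W, U) => a.sum fun l x => i.app U x * glb q' (i ⁻¹ᵁ U) (b l)) = ⇑B.repr.symm from funext hf]
  exact B.repr.symm.bijective

/-- **Descent of triviality.** -/
theorem trivial_of_extension [Nonempty W] [IsSeparated q] [QuasiCompact q]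
    (hq : Function.Surjective (glb q ⊤)) (H : IsPullback i q' q (Spec.map (CommRingCat.ofHom j)))
    {M : W.Modules} (hM : PicF.IsInvertible M)
    (h : Nonempty ((Scheme.Modules.pullback i).obj M ≅ Coh.structureModule W')) :
    Nonempty (M ≅ Coh.structureModule W) := by
  classical
  let := j.toAlgebra
  let b := Module.Basis.ofVectorSpace K L
  set J := Module.Basis.ofVectorSpaceIndex K L
  have : W.IsSeparated := by
    constructor
    rw [terminal.hom_ext (terminal.from W) (q ≫ terminal.from _)]
    infer_instance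
  -- `i` is surjective
  have hsurj : ∀ x, ∃ y, i y = x := fun x => by
    have h' : x ∈ Set.range (pullback.fst q (Spec.map (CommRingCat.ofHom j))) := by
      rw [Scheme.Pullback.range_fst]
      obtain ⟨p⟩ : Nonempty (PrimeSpectrum L) := inferInstance
      have : Subsingleton ↥(Spec (CommRingCat.of K)) := inferInstanceAs (Subsingleton (PrimeSpectrum K))
      exact ⟨p, Subsingleton.elim _ _⟩
    obtain ⟨y, hy⟩ := h'
    refine ⟨H.isoPullback.inv y, ?_⟩
    rw [← Scheme.Hom.comp_apply, H.isoPullback_inv_fst]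
    exact hy
  choose U e hxU hU he using show ∀ x : W, ∃ (U : W.Opens) (e : Γ(M, U)), x ∈ U ∧ IsAffineOpen U ∧ IsGen M U e from
    fun x => by
      obtain ⟨V, e, hxV, he⟩ := exists_isGen hM x
      obtain ⟨U, hU, hxU, hUV⟩ := exists_isAffineOpen_mem_and_subset hxV
      exact ⟨U, res M hUV e, hxU, hU, he.restrict _⟩
  choose u hu using fun p q => ((he q).exists_eq (inf_le_right : U p ⊓ U q ≤ U q) (res M inf_le_left (e p))).exists
  obtain ⟨v, hv, hv'⟩ := exists_coboundary_of_iso i he u hu h
  choose w hw using fun p => (hv p).exists_right_inv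
  -- coordinates
  let coord : ∀ (V : W.Opens) (hV : IsAffineOpen V), (J →₀ Γ(W, V)) → Γ(W', i ⁻¹ᵁ V) := fun V _ a =>
    a.sum fun l x => i.app V x * glb q' (i ⁻¹ᵁ V) (b l)
  have hres : ∀ {V V' : W.Opens} (hV : IsAffineOpen V) (hV' : IsAffineOpen V') (hle : V' ≤ V) (c : Γ(W, V'))
      (a : J →₀ Γ(W, V)), i.app V' c * rres (i.preimage_mono hle) (coord V hV a) =
        coord V' hV' (a.mapRange (fun x => c * rres hle x) (by simp)) := by
    intro V V' hV hV' hle c a
    simp only [coord]
    rw [Finsupp.sum_mapRange_index (fun l => by simp), map_finsuppSum, Finsupp.mul_sum]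
    refine Finsupp.sum_congr fun l _ => ?_
    rw [map_mul, glb_rres, map_mul (i.app V').hom c, Props.GenPull.app_rres, mul_assoc]
  have hres1 : ∀ {V V' : W.Opens} (hV : IsAffineOpen V) (hV' : IsAffineOpen V') (hle : V' ≤ V)
      (a : J →₀ Γ(W, V)), rres (i.preimage_mono hle) (coord V hV a) =
        coord V' hV' (a.mapRange (fun x => rres hle x) (by simp)) := by
    intro V V' hV hV' hle a
    have := hres hV hV' hle 1 a
    rw [map_one, one_mul] at this
    simpa using this
  choose a ha using fun p => (bijective_coord j H b (hU p)).2 (w p)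
  choose c hc using fun p => (bijective_coord j H b (hU p)).2 (v p)
  have hU2 : ∀ p q, IsAffineOpen (U p ⊓ U q) := fun p q => (hU p).inf (hU q)
  have ha' : ∀ p q l, rres inf_le_left (a p l) * u p q = rres (inf_le_right : U p ⊓ U q ≤ U q) (a q l) := by
    intro p q
    have h1 : i.app _ (u p q) * rres (i.preimage_mono inf_le_left) (w p) =
        rres (i.preimage_mono (inf_le_right : U p ⊓ U q ≤ U q)) (w q) := by
      have hp := congrArg (rres (i.preimage_mono (inf_le_left : U p ⊓ U q ≤ U p))) (hw p)
      have hq' := congrArg (rres (i.preimage_mono (inf_le_right : U p ⊓ U q ≤ U q))) (hw q)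
      rw [map_mul, map_one] at hp hq'
      rw [← hv' p q] at hp
      calc i.app _ (u p q) * rres (i.preimage_mono inf_le_left) (w p)
          = i.app _ (u p q) * rres (i.preimage_mono inf_le_left) (w p) *
            (rres (i.preimage_mono inf_le_right) (v q) * rres (i.preimage_mono inf_le_right) (w q)) := by
            rw [hq', mul_one]
        _ = (i.app _ (u p q) * rres (i.preimage_mono inf_le_right) (v q) * rres (i.preimage_mono inf_le_left) (w p)) *
            rres (i.preimage_mono inf_le_right) (w q) := by ring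
        _ = _ := by rw [hp, one_mul]
    have h2 : coord _ (hU2 p q) ((a p).mapRange (fun x => u p q * rres inf_le_left x) (by simp)) =
        coord _ (hU2 p q) ((a q).mapRange (fun x => rres inf_le_right x) (by simp)) := by
      rw [← hres (hU p) (hU2 p q) inf_le_left, ← hres1 (hU q) (hU2 p q) inf_le_right]
      exact (congrArg (fun t => i.app _ (u p q) * rres _ t) (ha p)).trans (h1.trans (congrArg _ (ha q)).symm)
    intro l
    have h3 := DFunLike.congr_fun ((bijective_coord j H b (hU2 p q)).1 h2) l
    simp only [Finsupp.mapRange_apply] at h3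
    rw [mul_comm]; exact h3
  have hc' : ∀ p q l, u p q * rres (inf_le_right : U p ⊓ U q ≤ U q) (c q l) = rres inf_le_left (c p l) := by
    intro p q
    have h2 : coord _ (hU2 p q) ((c q).mapRange (fun x => u p q * rres inf_le_right x) (by simp)) =
        coord _ (hU2 p q) ((c p).mapRange (fun x => rres inf_le_left x) (by simp)) := by
      rw [← hres (hU q) (hU2 p q) inf_le_right, ← hres1 (hU p) (hU2 p q) inf_le_left]
      exact (congrArg (fun t => i.app _ (u p q) * rres _ t) (hc q)).trans ((hv' p q).trans (congrArg _ (hc p)).symm)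
    intro l
    have h3 := DFunLike.congr_fun ((bijective_coord j H b (hU2 p q)).1 h2) l
    simpa only [Finsupp.mapRange_apply] using h3
  -- the products are constants
  have hconst : ∀ l m, ∃ r : K, ∀ p, a p l * c p m = glb q (U p) r := by
    intro l m
    obtain ⟨g, hg, -⟩ := TopCat.Sheaf.existsUnique_gluing' W.sheaf U ⊤ (fun p => homOfLE le_top)
      (fun x _ => Opens.mem_iSup.mpr ⟨x, hxU x⟩) (fun p => a p l * c p m) (fun p p' => by
        show rres inf_le_left (a p l * c p m) = rres (inf_le_right : U p ⊓ U p' ≤ U p') (a p' l * c p' m)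
        rw [map_mul, map_mul, ← ha' p p' l, ← hc' p p' m]
        ring)
    obtain ⟨r, rfl⟩ := hq g
    exact ⟨r, fun p => ((glb_rres q le_top r).symm.trans (hg p)).symm⟩
  choose r hr using hconst
  have hex : ∃ l m, r l m ≠ 0 := by
    by_contra hne
    push Not at hne
    obtain ⟨x⟩ := ‹Nonempty W›
    obtain ⟨y, rfl⟩ := hsurj x
    have h1 : w (i y) * v (i y) = 1 := by rw [mul_comm]; exact hw (i y)
    have h2 : w (i y) * v (i y) = 0 := by
      rw [← ha, ← hc]
      simp only [Finsupp.sum, Finset.sum_mul, Finset.mul_sum]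
      refine Finset.sum_eq_zero fun l _ => Finset.sum_eq_zero fun m _ => ?_
      rw [mul_mul_mul_comm, ← map_mul, hr, hne, map_zero, map_zero, zero_mul]
    have h3 := congrArg (W'.presheaf.germ (i ⁻¹ᵁ U (i y)) y (hxU (i y))) (h1.symm.trans h2)
    rw [map_one, map_zero] at h3
    exact one_ne_zero h3
  obtain ⟨l, m, hlm⟩ := hex
  refine nonempty_iso_of_coboundary (fun x => ⟨x, hxU x⟩) he u hu (fun p => a p l) (fun p => ?_) (fun p q => ha' p q l)
  exact IsUnit.of_mul_eq_one (c p m * glb q (U p) (r l m)⁻¹) (by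
    rw [← mul_assoc, hr l m p, ← map_mul, mul_inv_cancel₀ hlm, map_one])

end Groth.Agent.Cube.Descent
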