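import Groth.Agent.Cube.Sec
import Groth.Agent.Cube.Util
import Mathlib.RingTheory.Localization.BaseChange

/-!
# Spreading out triviality from a local ring of the base

For `π : W ⟶ Z` proper and `z ∈ Z`, an invertible module trivial on `W ×_Z Spec O_z` has a generator on
`π ⁻¹ V` for a neighbourhood `V` of `z`.
-/

set_option autoImplicit false
universe u

open CategoryTheory CategoryTheory.Limits AlgebraicGeometry TopologicalSpace

noncomputable section

namespace Groth.Agent.Cube.Spread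

open Groth.Agent.QCoh Groth.Agent.Props.GenLocus Groth.Agent.Props.GenTensor Groth.Agent.Props.GenPull

variable {W Z : Scheme.{u}}

theorem inf_affine_of_le (π : W ⟶ Z) [IsSeparated π] {V : Z.Opens} (hV : IsAffineOpen V) {U U' : W.Opens}
    (hU : IsAffineOpen U) (hU' : IsAffineOpen U') (h : U ≤ π ⁻¹ᵁ V) (h' : U' ≤ π ⁻¹ᵁ V) :
    IsAffineOpen (U ⊓ U') := by
  have : IsAffine (V : Scheme.{u}) := hV
  have : IsSeparated (π ∣_ V) := IsZariskiLocalAtTarget.restrict ‹_› V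
  have : ((π ⁻¹ᵁ V : W.Opens) : Scheme.{u}).IsSeparated := by
    constructor
    rw [terminal.hom_ext (terminal.from _) ((π ∣_ V) ≫ terminal.from _)]
    infer_instance
  let ι := (π ⁻¹ᵁ V).ι
  have h1 := ((hU.preimage_of_isOpenImmersion ι (by simpa [ι] using h)).inf
    (hU'.preimage_of_isOpenImmersion ι (by simpa [ι] using h'))).image_of_isOpenImmersion ι
  rw [← Scheme.Hom.preimage_inf, Scheme.Hom.image_preimage_eq_opensRange_inf, Scheme.Opens.opensRange_ι,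
    inf_eq_right.mpr (inf_le_left.trans h)] at h1
  exact h1

/-- Functions on the preimage of an affine open in `W ×_Z Spec O_z` are a localisation. -/
theorem exists_loc (π : W ⟶ Z) {z : Z} {W' : Scheme.{u}} {i : W' ⟶ W} {q' : W' ⟶ Spec (Z.presheaf.stalk z)}
    (H : IsPullback i q' π (Z.fromSpecStalk z)) {V : Z.Opens} (hV : IsAffineOpen V) (hz : z ∈ V)
    {U : W.Opens} (hU : IsAffineOpen U) (hle : U ≤ π ⁻¹ᵁ V) :
    (∀ b : Γ(W', i ⁻¹ᵁ U), ∃ (a : Γ(W, U)) (s : Γ(Z, V)), s ∈ (hV.primeIdealOf ⟨z, hz⟩).asIdeal.primeCompl ∧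
      i.app U a = b * i.app U (π.appLE V U hle s)) ∧
    (∀ a a' : Γ(W, U), i.app U a = i.app U a' → ∃ s, s ∈ (hV.primeIdealOf ⟨z, hz⟩).asIdeal.primeCompl ∧
      π.appLE V U hle s * a = π.appLE V U hle s * a') := by
  have hsub : ⊤ ≤ Z.fromSpecStalk z ⁻¹ᵁ V := fun y _ => by
    have : Z.fromSpecStalk z y ∈ Set.range (Z.fromSpecStalk z) := ⟨y, rfl⟩
    rw [Scheme.range_fromSpecStalk] at this
    exact this.mem_open V.2 hz
  have hle' : i ⁻¹ᵁ U ≤ q' ⁻¹ᵁ ⊤ := fun _ _ => trivial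
  have hiso := isIso_pushoutSection_of_isAffineOpen H (US := V) (UT := ⊤) (UX := U) hsub hle
    (UY := i ⁻¹ᵁ U) (by simp) hV (isAffineOpen_top _) hU
  have h1 := (isIso_pushoutSection_iff ..).mp hiso
  have h2 : IsPushout (π.appLE V U hle) (Z.presheaf.germ V z hz) (i.app U)
      ((Scheme.ΓSpecIso (Z.presheaf.stalk z)).inv ≫ q'.appLE ⊤ (i ⁻¹ᵁ U) hle') :=
    h1.of_iso (Iso.refl _) (Iso.refl _) (Scheme.ΓSpecIso (Z.presheaf.stalk z)) (Iso.refl _)
      (by simp)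
      (by
        rw [Iso.refl_hom, Category.id_comp, Scheme.Hom.appLE, Scheme.fromSpecStalk_app hz]
        simp only [Category.assoc, ← Functor.map_comp_assoc]
        rw [show (homOfLE le_top).op ≫ (homOfLE hsub).op = 𝟙 (Opposite.op (⊤ : (Spec (Z.presheaf.stalk z)).Opens))
          from rfl]
        simp)
      (by simp [Scheme.Hom.app_eq_appLE])
      (by simp)
  let := (π.appLE V U hle).hom.toAlgebra
  let := (Z.presheaf.germ V z hz).hom.toAlgebra
  let := (i.app U).hom.toAlgebra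
  let := ((Scheme.ΓSpecIso (Z.presheaf.stalk z)).inv ≫ q'.appLE ⊤ (i ⁻¹ᵁ U) hle').hom.toAlgebra
  let : Algebra Γ(Z, V) Γ(W', i ⁻¹ᵁ U) := ((i.app U).hom.comp (π.appLE V U hle).hom).toAlgebra
  have : IsScalarTower Γ(Z, V) Γ(W, U) Γ(W', i ⁻¹ᵁ U) := IsScalarTower.of_algebraMap_eq' rfl
  have : IsScalarTower Γ(Z, V) (Z.presheaf.stalk z) Γ(W', i ⁻¹ᵁ U) :=
    IsScalarTower.of_algebraMap_eq' (congrArg CommRingCat.Hom.hom h2.w)
  have hp : Algebra.IsPushout Γ(Z, V) Γ(W, U) (Z.presheaf.stalk z) Γ(W', i ⁻¹ᵁ U) :=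
    CommRingCat.isPushout_iff_isPushout.mp h2
  set S := (hV.primeIdealOf ⟨z, hz⟩).asIdeal.primeCompl
  have hloc : IsLocalization S (Z.presheaf.stalk z) := hV.isLocalization_stalk ⟨z, hz⟩
  have hloc' : IsLocalization (Algebra.algebraMapSubmonoid Γ(W, U) S) Γ(W', i ⁻¹ᵁ U) :=
    (Algebra.isLocalization_iff_isPushout S (Z.presheaf.stalk z)).mpr hp
  refine ⟨fun b => ?_, fun a a' h => ?_⟩
  · obtain ⟨⟨a, s, hs⟩, h⟩ := IsLocalization.surj (Algebra.algebraMapSubmonoid Γ(W, U) S) b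
    obtain ⟨s', hs', rfl⟩ := hs
    exact ⟨a, s', hs', h.symm⟩
  · obtain ⟨⟨c, hc⟩, h⟩ := (IsLocalization.eq_iff_exists (Algebra.algebraMapSubmonoid Γ(W, U) S)
      Γ(W', i ⁻¹ᵁ U)).mp h
    obtain ⟨s', hs', rfl⟩ := hc
    exact ⟨s', hs', h⟩

theorem isUnit_germ_appLE (π : W ⟶ Z) {V : Z.Opens} (hV : IsAffineOpen V) {z : Z} (hz : z ∈ V) {s : Γ(Z, V)}
    (hs : s ∈ (hV.primeIdealOf ⟨z, hz⟩).asIdeal.primeCompl) {U : W.Opens} (hle : U ≤ π ⁻¹ᵁ V) {x : W}
    (hx : x ∈ U) (hπ : π x = z) : IsUnit (W.presheaf.germ U x hx (π.appLE V U hle s)) := by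
  subst hπ
  have h0 : IsUnit (Z.presheaf.germ V (π x) hz s) :=
    let : Algebra Γ(Z, V) (Z.presheaf.stalk (π x)) := (Z.presheaf.germ V (π x) hz).hom.toAlgebra
    have : IsLocalization (hV.primeIdealOf ⟨π x, hz⟩).asIdeal.primeCompl (Z.presheaf.stalk (π x)) :=
      hV.isLocalization_stalk ⟨π x, hz⟩
    IsLocalization.map_units (M := (hV.primeIdealOf ⟨π x, hz⟩).asIdeal.primeCompl) (Z.presheaf.stalk (π x)) ⟨s, hs⟩
  have h1 := h0.map (π.stalkMap x).hom
  have h2 : IsUnit (W.presheaf.germ (π ⁻¹ᵁ V) x hz (π.app V s)) :=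
    (Scheme.Hom.germ_stalkMap_apply π V x hz s) ▸ h1
  rw [Scheme.Hom.appLE, CommRingCat.comp_apply, W.presheaf.germ_res_apply]
  exact h2

/-- **Spreading out.** -/
theorem exists_gen_nhd (π : W ⟶ Z) [IsProper π] {L : W.Modules} (hL : PicF.IsInvertible L) (z : Z)
    {W' : Scheme.{u}} {i : W' ⟶ W} {q' : W' ⟶ Spec (Z.presheaf.stalk z)}
    (H : IsPullback i q' π (Z.fromSpecStalk z))
    (h : Nonempty ((Scheme.Modules.pullback i).obj L ≅ Coh.structureModule W')) :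
    ∃ (V : Z.Opens) (_ : z ∈ V) (g : Γ(L, π ⁻¹ᵁ V)), IsGen L (π ⁻¹ᵁ V) g := by
  classical
  obtain ⟨V, hV, hz, -⟩ := exists_isAffineOpen_mem_and_subset (U := (⊤ : Z.Opens)) (Opens.mem_top z)
  have hcompact : IsCompact (π ⁻¹ᵁ V : Set W) := π.isCompact_preimage hV.isCompact
  choose U e hxU hUle hU he using show ∀ x : (π ⁻¹ᵁ V : W.Opens), ∃ (U : W.Opens) (e : Γ(L, U)),
      x.1 ∈ U ∧ U ≤ π ⁻¹ᵁ V ∧ IsAffineOpen U ∧ IsGen L U e from fun x => by
    obtain ⟨V', e, hxV, he⟩ := exists_isGen hL x.1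
    obtain ⟨U, hU, hxU, hUV⟩ := exists_isAffineOpen_mem_and_subset (show x.1 ∈ V' ⊓ π ⁻¹ᵁ V from ⟨hxV, x.2⟩)
    exact ⟨U, res L (hUV.trans inf_le_left) e, hxU, hUV.trans inf_le_right, hU, he.restrict _⟩
  obtain ⟨F, hF⟩ := hcompact.elim_finite_subcover (fun p => ((U p : W.Opens) : Set W)) (fun p => (U p).2)
    (fun x hx => Set.mem_iUnion.mpr ⟨⟨x, hx⟩, hxU ⟨x, hx⟩⟩)
  choose u hu using fun p q : F =>
    ((he q.1).exists_eq (inf_le_right : U p.1 ⊓ U q.1 ≤ U q.1) (res L inf_le_left (e p.1))).exists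
  obtain ⟨v, hv, hv'⟩ := exists_coboundary_of_iso i (U := fun p : F => U p.1) (fun p => he p.1) u hu h
  choose w hw using fun p => (hv p).exists_right_inv
  set S := (hV.primeIdealOf ⟨z, hz⟩).asIdeal.primeCompl
  choose a s hs ha using fun p : F => (exists_loc π H hV hz (hU p.1) (hUle p.1)).1 (w p)
  let Sall : Γ(Z, V) := ∏ p, s p
  have hSall : Sall ∈ S := prod_mem fun p _ => hs p
  let a' : ∀ p : F, Γ(W, U p.1) := fun p => a p * π.appLE V _ (hUle p.1) (∏ r ∈ Finset.univ.erase p, s r)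
  have ha' : ∀ p, i.app _ (a' p) = w p * i.app _ (π.appLE V _ (hUle p.1) Sall) := fun p => by
    simp only [a', map_mul, ha, Sall]
    rw [mul_assoc, ← map_mul (i.app (U p.1)).hom, ← map_mul (π.appLE V (U p.1) (hUle p.1)).hom,
      Finset.mul_prod_erase _ _ (Finset.mem_univ p)]
  have hle2 : ∀ p q : F, U p.1 ⊓ U q.1 ≤ π ⁻¹ᵁ V := fun p q => inf_le_left.trans (hUle p.1)
  have hres : ∀ {U U' : W.Opens} (h : U' ≤ U) (hle : U ≤ π ⁻¹ᵁ V) (r : Γ(Z, V)),
      rres h (π.appLE V U hle r) = π.appLE V U' (h.trans hle) r := fun h hle r => by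
    rw [← CommRingCat.comp_apply, Scheme.Hom.appLE_map]
  choose t ht ht' using fun p q : F => (exists_loc π H hV hz
      (inf_affine_of_le π hV (hU p.1) (hU q.1) (hUle p.1) (hUle q.1)) (hle2 p q)).2
    (rres inf_le_left (a' p) * u p q) (rres inf_le_right (a' q)) (by
      rw [map_mul, app_rres, app_rres, ha', ha', map_mul, map_mul, ← app_rres i (inf_le_left : U p.1 ⊓ U q.1 ≤ U p.1),
        ← app_rres i (inf_le_right : U p.1 ⊓ U q.1 ≤ U q.1), hres inf_le_left (hUle p.1), hres inf_le_right (hUle q.1)]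
      have hq := congrArg (rres (i.preimage_mono (inf_le_right : U p.1 ⊓ U q.1 ≤ U q.1))) (hw q)
      have hp := congrArg (rres (i.preimage_mono (inf_le_left : U p.1 ⊓ U q.1 ≤ U p.1))) (hw p)
      rw [map_mul, map_one] at hp hq
      rw [← hv' p q] at hp
      generalize i.app _ (π.appLE V _ _ Sall) = G
      calc rres (i.preimage_mono inf_le_left) (w p) * G * i.app _ (u p q)
          = rres (i.preimage_mono inf_le_left) (w p) * G * i.app _ (u p q) *
            (rres (i.preimage_mono inf_le_right) (v q) * rres (i.preimage_mono inf_le_right) (w q)) := by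
            rw [hq, mul_one]
        _ = (i.app _ (u p q) * rres (i.preimage_mono inf_le_right) (v q) * rres (i.preimage_mono inf_le_left) (w p)) *
            (rres (i.preimage_mono inf_le_right) (w q) * G) := by ring
        _ = _ := by rw [hp, one_mul])
  let Tall : Γ(Z, V) := ∏ pq : F × F, t pq.1 pq.2
  have hTall : Tall ∈ S := prod_mem fun pq _ => ht pq.1 pq.2
  let A : ∀ p : F, Γ(W, U p.1) := fun p => π.appLE V _ (hUle p.1) Tall * a' p
  have hA : ∀ p q, rres inf_le_left (A p) * u p q = rres (inf_le_right : U p.1 ⊓ U q.1 ≤ U q.1) (A q) := by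
    intro p q
    obtain ⟨c, hc⟩ := Finset.dvd_prod_of_mem (fun pq : F × F => t pq.1 pq.2) (Finset.mem_univ (p, q))
    simp only [A, map_mul, hres]
    rw [show Tall = t p q * c from hc, map_mul, mul_assoc, mul_assoc]
    rw [mul_left_comm (π.appLE V _ (hle2 p q) (t p q)), ht', mul_left_comm]
    ring
  obtain ⟨σ, hσ⟩ := QCoh.exists_glue L (U := fun p : F => U p.1) (V := π ⁻¹ᵁ V) (fun p => hUle p.1)
    (fun x hx => by
      obtain ⟨p, hp, hxp⟩ := Set.mem_iUnion₂.mp (hF hx)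
      exact Opens.mem_iSup.mpr ⟨⟨p, hp⟩, hxp⟩)
    (fun p => A p • e p.1) (fun p q => by
      rw [res_smul, res_smul, hu p q, smul_smul, hA])
  let O : W.Opens := ⨆ p : F, W.basicOpen (A p)
  have hcl : IsClosed (π '' (O : Set W)ᶜ) := π.isClosedMap _ O.2.isClosed_compl
  have hzO : ∀ x, π x = z → x ∈ O := by
    intro x hx
    have hxV : x ∈ π ⁻¹ᵁ V := show π x ∈ V from hx ▸ hz
    obtain ⟨p, hp, hxp⟩ := Set.mem_iUnion₂.mp (hF hxV)
    refine Opens.mem_iSup.mpr ⟨⟨p, hp⟩, (W.mem_basicOpen _ x hxp).mpr ?_⟩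
    have h1 : IsUnit (W.presheaf.germ (U p) x hxp (a' ⟨p, hp⟩)) := by
      have hr : x ∈ Set.range (pullback.fst π (Z.fromSpecStalk z)) := by
        rw [Scheme.Pullback.range_fst, Scheme.range_fromSpecStalk]
        exact (hx ▸ specializes_rfl : π x ⤳ z)
      obtain ⟨y₀, hy₀⟩ := hr
      obtain ⟨y, rfl⟩ : ∃ y, i y = x := ⟨H.isoPullback.inv y₀, by
        rw [← Scheme.Hom.comp_apply, H.isoPullback_inv_fst]; exact hy₀⟩
      have hu1 : IsUnit (((i.stalkMap y).hom (W.presheaf.germ (U p) (i y) hxp (a' ⟨p, hp⟩)))) := by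
        rw [show (i.stalkMap y).hom (W.presheaf.germ (U p) (i y) hxp (a' ⟨p, hp⟩)) =
          W'.presheaf.germ (i ⁻¹ᵁ U p) y hxp (i.app (U p) (a' ⟨p, hp⟩)) from
          Scheme.Hom.germ_stalkMap_apply i (U p) y hxp _, ha' ⟨p, hp⟩, map_mul]
        refine IsUnit.mul ((IsUnit.of_mul_eq_one_right _ (hw ⟨p, hp⟩)).map _) ?_
        rw [← Scheme.Hom.germ_stalkMap_apply]
        exact (isUnit_germ_appLE π hV hz hSall (hUle p) hxp hx).map _
      exact (isUnit_map_iff (i.stalkMap y).hom _).mp hu1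
    simp only [A, map_mul]
    exact (isUnit_germ_appLE π hV hz hTall (hUle p) hxp hx).mul h1
  refine ⟨V ⊓ ⟨_, hcl.isOpen_compl⟩, ⟨hz, fun ⟨x, hx, hxz⟩ => hx (hzO x hxz)⟩,
    res L (π.preimage_mono inf_le_left) σ, IsGen.of_local fun x hx => ?_⟩
  have hxO : x ∈ O := by
    by_contra hn
    exact hx.2 ⟨x, hn, rfl⟩
  obtain ⟨p, hp⟩ := Opens.mem_iSup.mp hxO
  refine ⟨W.basicOpen (A p) ⊓ π ⁻¹ᵁ _, inf_le_right, ⟨hp, hx⟩, ?_⟩
  have hgen : IsGen L (W.basicOpen (A p)) (rres (W.basicOpen_le (A p)) (A p) • res L (W.basicOpen_le (A p)) (e p.1)) :=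
    ((he p.1).restrict _).smul_unit (RingedSpace.isUnit_res_basicOpen _ _)
  rw [← res_smul, ← hσ p, res_res] at hgen
  have h3 := hgen.restrict (inf_le_left : W.basicOpen (A p) ⊓ π ⁻¹ᵁ (V ⊓ ⟨_, hcl.isOpen_compl⟩) ≤ _)
  rw [res_res] at h3 ⊢
  exact h3

end Groth.Agent.Cube.Spread
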