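import Groth.Agent.Cube.Local
import Groth.Agent.Cube.Descent
import Groth.Agent.Cube.Spread

/-!
# The theorem of the cube over a field

`X`, `Y` proper over a field with rational points and only constant functions, `Z` of finite type and
geometrically integral with a rational point: a class on `X × Y × Z` trivial on the three slices is
trivial.
-/

set_option autoImplicit false
universe u

open CategoryTheory CategoryTheory.Limits MonoidalCategory CartesianMonoidalCategory AlgebraicGeometry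
open TopologicalSpace

noncomputable section

namespace Groth.Agent.Cube.Global

open scoped Groth.Agent.PicLaw
open PicLaw.Mumford (op)
open Local (slX slY slX_nat slY_nat cls_op_eq_one)

variable {k : Type u} [Field k]

/-! ### Points -/

section points

variable {Z : Over (Spec (CommRingCat.of k))}

/-- The structure of algebra of a local ring. -/
@[implicit_reducible]
def stalkAlg (Z : Over (Spec (CommRingCat.of k))) (z : Z.left) : Algebra k (Z.left.presheaf.stalk z) :=
  (Spec.preimage (Z.left.fromSpecStalk z ≫ Z.hom)).hom.toAlgebra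

attribute [local instance] stalkAlg

theorem stalk_hom (z : Z.left) :
    (Sp k (Z.left.presheaf.stalk z)).hom = Z.left.fromSpecStalk z ≫ Z.hom :=
  Spec.map_preimage _

/-- The morphism from the spectrum of a local ring. -/
def stalkMor (z : Z.left) : Sp k (Z.left.presheaf.stalk z) ⟶ Z :=
  Over.homMk (Z.left.fromSpecStalk z) (stalk_hom z).symm

/-- The closed fibre. -/
def fibMor (z : Z.left) :
    Sp k (Z.left.presheaf.stalk z ⧸ IsLocalRing.maximalIdeal (Z.left.presheaf.stalk z)) ⟶ Z :=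
  spMap k (Ideal.Quotient.mkₐ k _) ≫ stalkMor z

/-- A field valued point factors through the local ring at its image, and through the residue field. -/
theorem exists_factor_point {F : Type u} [Field F] [Algebra k F] (g : Sp k F ⟶ Z) (z : Z.left)
    (hz : g.left (IsLocalRing.closedPoint F) = z) :
    (∃ g' : Sp k F ⟶ Sp k (Z.left.presheaf.stalk z), g' ≫ stalkMor z = g) ∧
      ∃ (h : Z.left.presheaf.stalk z ⧸ IsLocalRing.maximalIdeal (Z.left.presheaf.stalk z) →+* F)
        (g' : Sp k F ⟶ Sp k (Z.left.presheaf.stalk z ⧸ IsLocalRing.maximalIdeal (Z.left.presheaf.stalk z))),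
        g'.left = Spec.map (CommRingCat.ofHom h) ∧ g' ≫ fibMor z = g := by
  subst hz
  let f : Spec (CommRingCat.of F) ⟶ Z.left := g.left
  let ev := Scheme.stalkClosedPointTo f
  have hev : Spec.map ev ≫ Z.left.fromSpecStalk _ = g.left := Scheme.Spec_stalkClosedPointTo_fromSpecStalk f
  refine ⟨⟨Over.homMk (Spec.map ev) ?_, Over.OverMorphism.ext hev⟩, ?_⟩
  · rw [stalk_hom, reassoc_of% hev, Over.w]
  have hker : ∀ a ∈ IsLocalRing.maximalIdeal (Z.left.presheaf.stalk (f (IsLocalRing.closedPoint F))),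
      ev.hom a = 0 := fun a ha => by
    by_contra hne
    have : IsLocalHom ev.hom := Scheme.isLocalHom_stalkClosedPointTo' f
    exact ha ((isUnit_map_iff ev.hom a).mp (Ne.isUnit hne))
  let h := Ideal.Quotient.lift _ ev.hom hker
  have hh : Spec.map (CommRingCat.ofHom h) ≫
      Spec.map (CommRingCat.ofHom (Ideal.Quotient.mkₐ k
        (IsLocalRing.maximalIdeal (Z.left.presheaf.stalk (f (IsLocalRing.closedPoint F))))).toRingHom) = Spec.map ev := by
    rw [← Spec.map_comp]
    congr 1
  have hfib : Spec.map (CommRingCat.ofHom h) ≫ (fibMor (f (IsLocalRing.closedPoint F))).left = g.left := by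
    show Spec.map (CommRingCat.ofHom h) ≫ Spec.map _ ≫ Z.left.fromSpecStalk _ = _
    rw [reassoc_of% hh, hev]
  refine ⟨h, Over.homMk (Spec.map (CommRingCat.ofHom h)) ?_, rfl, Over.OverMorphism.ext hfib⟩
  rw [← Over.w (fibMor (f (IsLocalRing.closedPoint F))), ← Category.assoc]
  exact (congrArg (· ≫ Z.hom) hfib).trans (Over.w g)

theorem stalkMor_closedPoint (z : Z.left) :
    (stalkMor z).left (IsLocalRing.closedPoint (Z.left.presheaf.stalk z)) = z :=
  Scheme.fromSpecStalk_closedPoint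

theorem fibMor_point (z : Z.left)
    (p : (Sp k (Z.left.presheaf.stalk z ⧸ IsLocalRing.maximalIdeal (Z.left.presheaf.stalk z))).left) :
    (fibMor z).left p = z := by
  let κ := Z.left.presheaf.stalk z ⧸ IsLocalRing.maximalIdeal (Z.left.presheaf.stalk z)
  let : Field κ := Ideal.Quotient.field _
  show (stalkMor z).left ((spMap k (Ideal.Quotient.mkₐ k (IsLocalRing.maximalIdeal (Z.left.presheaf.stalk z)))).left p) = z
  have hcl : (spMap k (Ideal.Quotient.mkₐ k (IsLocalRing.maximalIdeal (Z.left.presheaf.stalk z)))).left p =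
      IsLocalRing.closedPoint (Z.left.presheaf.stalk z) := by
    refine PrimeSpectrum.ext ?_
    show Ideal.comap (Ideal.Quotient.mk _) (p : PrimeSpectrum κ).asIdeal = _
    rw [(Ideal.eq_bot_or_top (p : PrimeSpectrum κ).asIdeal).resolve_right (p : PrimeSpectrum κ).2.ne_top]
    exact Ideal.mk_ker
  rw [hcl]
  exact stalkMor_closedPoint z

end points

/-! ### Global functions -/

theorem bijective_app_snd (X Q : Over (Spec (CommRingCat.of k))) [IsProper X.hom] [IsIso X.hom.appTop]
    (U : Q.left.Opens) (hU : IsCompact (U : Set Q.left)) (hU' : IsQuasiSeparated (U : Set Q.left)) :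
    Function.Bijective ((snd X Q).left.app U) := by
  have : CompactSpace X.left := QuasiCompact.compactSpace_of_compactSpace X.hom
  have : QuasiSeparatedSpace X.left := quasiSeparatedSpace_of_quasiSeparated X.hom
  have H : IsPullback (fst X Q).left (snd X Q).left X.hom Q.hom := IsPullback.of_hasPullback X.hom Q.hom
  have hflat : (X.hom.appLE ⊤ ⊤ (fun _ _ => trivial)).hom.Flat := by
    let := (AbVarLib.Rigidity.isField_gammaSpec (K := k)).toField
    exact RingHom.Flat.of_isField (AbVarLib.Rigidity.isField_gammaSpec (K := k)) _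
  have hiso := isIso_pushoutSection_of_isCompact_of_flat_right_of_ringHomFlat H (US := ⊤) (UT := U) (UX := ⊤)
    (fun _ _ => trivial) (fun _ _ => trivial) (UY := (snd X Q).left ⁻¹ᵁ U) (by simp) (isAffineOpen_top _) hU hU'
    CompactSpace.isCompact_univ isQuasiSeparated_univ hflat
  have h1 := (isIso_pushoutSection_iff ..).mp hiso
  have hX : IsIso (X.hom.appLE ⊤ ⊤ (fun _ _ => trivial)) := by
    have e : X.hom.appLE ⊤ ⊤ (fun _ _ => trivial) = X.hom.appTop := by
      rw [Scheme.Hom.appTop, Scheme.Hom.app_eq_appLE]; rfl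
    rw [e]; infer_instance
  have h2 := h1.isIso_inr_of_isIso
  rw [Scheme.Hom.app_eq_appLE]
  exact ConcreteCategory.bijective_of_isIso _

variable {X Y Z : Over (Spec (CommRingCat.of k))} [IsProper X.hom] [IsProper Y.hom]
  [IsIso X.hom.appTop] [IsIso Y.hom.appTop]

/-- The projection to the base. -/
abbrev proj (X Y Z : Over (Spec (CommRingCat.of k))) : (X ⊗ (Y ⊗ Z)).left ⟶ Z.left :=
  (snd X (Y ⊗ Z) ≫ snd Y Z).left

instance isProper_proj (Z : Over (Spec (CommRingCat.of k))) : IsProper (proj X Y Z) :=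
  show IsProper ((snd X (Y ⊗ Z)).left ≫ (snd Y Z).left) from inferInstance

omit [IsProper X.hom] [IsProper Y.hom] [IsIso X.hom.appTop] [IsIso Y.hom.appTop] in
theorem isPullback_proj {Z' : Over (Spec (CommRingCat.of k))} (f : Z' ⟶ Z) :
    IsPullback (X ◁ Y ◁ f).left (proj X Y Z') (proj X Y Z) f.left :=
  (isPullback_whiskerLeft' X (Y ◁ f)).flip.paste_vert (isPullback_whiskerLeft' Y f).flip

theorem bijective_app_proj {U : Z.left.Opens} (hU : IsAffineOpen U) :
    Function.Bijective ((proj X Y Z).app U) := by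
  have h1 := bijective_app_snd Y Z U hU.isCompact hU.isQuasiSeparated
  have hc : IsCompact (((snd Y Z).left ⁻¹ᵁ U) : Set (Y ⊗ Z).left) := (snd Y Z).left.isCompact_preimage hU.isCompact
  have hqs : IsQuasiSeparated (((snd Y Z).left ⁻¹ᵁ U) : Set (Y ⊗ Z).left) := by
    have : IsAffine (U : Scheme.{u}) := hU
    have : QuasiSeparated ((snd Y Z).left ∣_ U) := IsZariskiLocalAtTarget.restrict (inferInstance : QuasiSeparated (snd Y Z).left) U
    have := quasiSeparatedSpace_of_quasiSeparated ((snd Y Z).left ∣_ U)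
    exact (isQuasiSeparated_iff_quasiSeparatedSpace _ ((snd Y Z).left ⁻¹ᵁ U).2).mpr this
  have h2 := bijective_app_snd X (Y ⊗ Z) ((snd Y Z).left ⁻¹ᵁ U) hc hqs
  exact h2.comp h1

theorem surjective_glb_proj (F : Type u) [Field F] [Algebra k F] :
    Function.Surjective (glb (proj X Y (Sp k F)) ⊤) := by
  have h1 := bijective_app_proj (X := X) (Y := Y) (Z := Sp k F) (isAffineOpen_top _)
  rw [Scheme.Hom.app_eq_appLE] at h1
  exact h1.2.comp (ConcreteCategory.bijective_of_isIso (Scheme.ΓSpecIso (CommRingCat.of F)).inv).2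

variable (x₀ : 𝟙_ (Over (Spec (CommRingCat.of k))) ⟶ X) (y₀ : 𝟙_ (Over (Spec (CommRingCat.of k))) ⟶ Y)

/-- The section through the two base points. -/
abbrev sec₀ (T : Over (Spec (CommRingCat.of k))) : T ⟶ X ⊗ (Y ⊗ T) :=
  lift (toUnit T ≫ x₀) (lift (toUnit T ≫ y₀) (𝟙 T))

attribute [local instance] stalkAlg

include x₀ y₀ in
/-- Triviality at a field valued point descends to the closed fibre at its image. -/
theorem fibre_of_point {F : Type u} [Field F] [Algebra k F] (g : Sp k F ⟶ Z)
    (c : PicLoc.PicSet (X ⊗ (Y ⊗ Z)).left) (hc : op (X ◁ Y ◁ g) c = 1) :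
    op (X ◁ Y ◁ fibMor (g.left (IsLocalRing.closedPoint F))) c = 1 := by
  obtain ⟨-, h, g', hg', hfac⟩ := exists_factor_point g _ rfl
  generalize g.left (IsLocalRing.closedPoint F) = z at h g' hg' hfac ⊢
  rw [← hfac, MonoidalCategory.whiskerLeft_comp, MonoidalCategory.whiskerLeft_comp, PicLaw.Mumford.op_comp] at hc
  generalize op (X ◁ Y ◁ fibMor z) c = d at hc ⊢
  let : Field (Z.left.presheaf.stalk z ⧸ IsLocalRing.maximalIdeal (Z.left.presheaf.stalk z)) :=
    Ideal.Quotient.field _
  obtain ⟨L, hL, rfl⟩ := PicGrp.exists_eq_cls d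
  rw [cls_op_eq_one] at hc
  refine (PicGrp.cls_eq_one_iff _).mpr ?_
  let T := Sp k (Z.left.presheaf.stalk z ⧸ IsLocalRing.maximalIdeal (Z.left.presheaf.stalk z))
  have : Nonempty (X ⊗ (Y ⊗ T)).left := by
    obtain ⟨p⟩ : Nonempty T.left := inferInstanceAs
      (Nonempty (PrimeSpectrum (Z.left.presheaf.stalk z ⧸ IsLocalRing.maximalIdeal (Z.left.presheaf.stalk z))))
    exact ⟨(sec₀ x₀ y₀ T).left p⟩
  have H : IsPullback (X ◁ Y ◁ g').left (proj X Y (Sp k F)) (proj X Y T) (Spec.map (CommRingCat.ofHom h)) :=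
    hg' ▸ isPullback_proj g'
  exact Descent.trivial_of_extension h (surjective_glb_proj _) H hL hc

/-- Trivial on the closed fibre implies trivial over the local ring. -/
theorem stalk_eq_one [IsLocallyNoetherian Z.left] (c : PicLoc.PicSet (X ⊗ (Y ⊗ Z)).left)
    (hx : op (slX X Y x₀ Z) c = 1) (hy : op (slY X Y y₀ Z) c = 1) (z : Z.left)
    (h0 : op (X ◁ Y ◁ fibMor z) c = 1) : op (X ◁ Y ◁ stalkMor z) c = 1 := by
  refine Local.eq_one_of_local x₀ y₀ _ ?_ ?_ ?_
  · rw [← PicLaw.Mumford.op_comp, slX_nat, PicLaw.Mumford.op_comp, hx, map_one]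
  · rw [← PicLaw.Mumford.op_comp, slY_nat, PicLaw.Mumford.op_comp, hy, map_one]
  · rw [← PicLaw.Mumford.op_comp, ← MonoidalCategory.whiskerLeft_comp, ← MonoidalCategory.whiskerLeft_comp]
    exact h0

omit [IsProper X.hom] [IsProper Y.hom] [IsIso X.hom.appTop] [IsIso Y.hom.appTop] in
/-- Trivial over a local ring implies trivial at field valued points through it. -/
theorem point_eq_one (c : PicLoc.PicSet (X ⊗ (Y ⊗ Z)).left) {z : Z.left} (h : op (X ◁ Y ◁ stalkMor z) c = 1)
    {F : Type u} [Field F] [Algebra k F] (g : Sp k F ⟶ Z) (hg : g.left (IsLocalRing.closedPoint F) ⤳ z) :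
    op (X ◁ Y ◁ g) c = 1 := by
  obtain ⟨⟨g', hg'⟩, -⟩ := exists_factor_point g _ rfl
  generalize g.left (IsLocalRing.closedPoint F) = y at g' hg' hg
  let s : Sp k (Z.left.presheaf.stalk y) ⟶ Sp k (Z.left.presheaf.stalk z) :=
    Over.homMk (Spec.map (Z.left.presheaf.stalkSpecializes hg)) (by
      rw [stalk_hom, stalk_hom, ← Category.assoc, Scheme.SpecMap_stalkSpecializes_fromSpecStalk])
  have hs : stalkMor y = s ≫ stalkMor z :=
    Over.OverMorphism.ext (Scheme.SpecMap_stalkSpecializes_fromSpecStalk hg).symm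
  rw [← hg', hs, ← Category.assoc, MonoidalCategory.whiskerLeft_comp, MonoidalCategory.whiskerLeft_comp,
    PicLaw.Mumford.op_comp, h, map_one]

set_option maxHeartbeats 2000000 in
include x₀ y₀ in
/-- A class trivial on every closed fibre is trivial. -/
theorem eq_one_of_fibres [IsLocallyNoetherian Z.left] (c : PicLoc.PicSet (X ⊗ (Y ⊗ Z)).left)
    (hx : op (slX X Y x₀ Z) c = 1) (hy : op (slY X Y y₀ Z) c = 1)
    (hfib : ∀ z : Z.left, op (X ◁ Y ◁ fibMor z) c = 1) : c = 1 := by
  -- gluing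
  obtain ⟨L, hL, rfl⟩ := PicGrp.exists_eq_cls c
  refine (PicGrp.cls_eq_one_iff _).mpr ?_
  let π := proj X Y Z
  have hst : ∀ z : Z.left, ∃ (V : Z.left.Opens) (_ : z ∈ V) (g : Γ(L, π ⁻¹ᵁ V)),
      Props.GenLocus.IsGen L (π ⁻¹ᵁ V) g := fun z =>
    Spread.exists_gen_nhd π hL z (isPullback_proj (stalkMor z))
      ((cls_op_eq_one _ hL).mp (stalk_eq_one x₀ y₀ _ hx hy z (hfib z)))
  choose V hzV g hg using hst
  let s := sec₀ x₀ y₀ Z
  have hsπ : s ≫ snd X (Y ⊗ Z) ≫ snd Y Z = 𝟙 Z := by simp [s]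
  have hsec : op s (PicGrp.cls L hL) = 1 := by
    have e : s = lift (toUnit Z ≫ y₀) (𝟙 Z) ≫ slX X Y x₀ Z := by
      apply CartesianMonoidalCategory.hom_ext <;> simp [s]
    rw [e, PicLaw.Mumford.op_comp, hx, map_one]
  obtain ⟨r, hr⟩ := exists_gen_of_iso ((cls_op_eq_one s hL).mp hsec)
  open Groth.Agent.QCoh Groth.Agent.Props.GenLocus Groth.Agent.Props.GenTensor Groth.Agent.Props.GenPull in
  exact (by
    have hsV : ∀ U : Z.left.Opens, s.left ⁻¹ᵁ (π ⁻¹ᵁ U) = U := fun U => by
      rw [← Scheme.Hom.comp_preimage]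
      show (s ≫ snd X (Y ⊗ Z) ≫ snd Y Z).left ⁻¹ᵁ U = U
      rw [hsπ]; rfl
    -- normalisation along the section
    have hnorm : ∀ z, ∃ g' : Γ(L, π ⁻¹ᵁ V z), IsGen L (π ⁻¹ᵁ V z) g' ∧
        pb s.left g' = res _ (le_top : s.left ⁻¹ᵁ (π ⁻¹ᵁ V z) ≤ ⊤) r := by
      intro z
      obtain ⟨a, ha, -⟩ := (isGen_pb s.left (hg z)).exists_eq le_rfl
        (res _ (le_top : s.left ⁻¹ᵁ (π ⁻¹ᵁ V z) ≤ ⊤) r)
      rw [res_self] at ha
      have hau : IsUnit a := by
        obtain ⟨b, hb, -⟩ := hr.exists_eq (le_top : s.left ⁻¹ᵁ (π ⁻¹ᵁ V z) ≤ ⊤) (pb s.left (g z))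
        refine IsUnit.of_mul_eq_one_right b ((hr.injective (le_top : s.left ⁻¹ᵁ (π ⁻¹ᵁ V z) ≤ ⊤) ?_).symm)
        rw [one_smul, mul_comm, ← smul_smul, ← hb, ← ha]
      let a' : Γ(Z.left, V z) := rres (hsV (V z)).ge a
      refine ⟨π.app (V z) a' • g z, (hg z).smul_unit ((hau.map _).map _), ?_⟩
      rw [Cube.pb_smul, ha]
      congr 1
      rw [← CommRingCat.comp_apply, ← Scheme.Hom.comp_app]
      show (s ≫ snd X (Y ⊗ Z) ≫ snd Y Z).left.app (V z) a' = a
      rw [Scheme.Hom.congr_app (congrArg CommaMorphism.left hsπ)]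
      simp only [CommRingCat.comp_apply]
      refine (rres_rres (hsV (V z)).ge _ a).trans ?_
      exact rres_self _ _
    choose g' hg' hg'r using hnorm
    have hcomp : ∀ z z', res L (inf_le_left : π ⁻¹ᵁ V z ⊓ π ⁻¹ᵁ V z' ≤ _) (g' z) =
        res L inf_le_right (g' z') := by
      intro z z'
      obtain ⟨a, ha, -⟩ := (hg' z).exists_eq (inf_le_left : π ⁻¹ᵁ V z ⊓ π ⁻¹ᵁ V z' ≤ _)
        (res L inf_le_right (g' z'))
      suffices h : a = 1 by rw [ha, h, one_smul]
      choose U hUaff hxU hUle using fun x : (V z ⊓ V z' : Z.left.Opens) =>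
        exists_isAffineOpen_mem_and_subset (U := V z ⊓ V z') x.2
      have hle : ∀ x, π ⁻¹ᵁ U x ≤ π ⁻¹ᵁ V z ⊓ π ⁻¹ᵁ V z' := fun x =>
        le_inf (π.preimage_mono (fun y hy => (hUle x hy).1)) (π.preimage_mono (fun y hy => (hUle x hy).2))
      refine eq_of_local_fun (U := fun x => π ⁻¹ᵁ U x) hle
        (fun p hp => ⟨⟨π p, hp⟩, hxU ⟨π p, hp⟩⟩) _ _ fun x => ?_
      obtain ⟨b, hb⟩ := (bijective_app_proj (X := X) (Y := Y) (hUaff x)).2
        (rres (hle x) a)
      rw [map_one, ← hb]
      have h1 := congrArg (fun t => res _ (s.left.preimage_mono (hle x)) (pb s.left t)) ha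
      simp only [Cube.pb_smul, Cube.pb_res, hg'r, res_smul, res_res] at h1
      have h2 : rres (s.left.preimage_mono (hle x)) (s.left.app _ a) = 1 :=
        (hr.injective le_top ((one_smul _ _).trans h1)).symm
      rw [← app_rres s.left (hle x), ← hb, ← CommRingCat.comp_apply, ← Scheme.Hom.comp_app] at h2
      have h3 : (s ≫ snd X (Y ⊗ Z) ≫ snd Y Z).left.app (U x) b = 1 := h2
      rw [Scheme.Hom.congr_app (congrArg CommaMorphism.left hsπ)] at h3
      simp only [CommRingCat.comp_apply] at h3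
      have h4 : b = 1 := (rres_bijective_of_eq (S := Z.left) (hsV (U x)).le (hsV (U x)).ge).1 (h3.trans (map_one _).symm)
      rw [h4, map_one]
    obtain ⟨G, hG⟩ := QCoh.exists_glue L (U := fun z => π ⁻¹ᵁ V z) (V := ⊤) (fun _ => le_top)
      (fun p _ => Opens.mem_iSup.mpr ⟨π p, hzV (π p)⟩) g' hcomp
    have hGgen : IsGen L ⊤ G := IsGen.of_local fun p _ =>
      ⟨π ⁻¹ᵁ V (π p), le_top, hzV (π p), by rw [hG]; exact hg' _⟩
    exact PicLaw.nonempty_iso_of_transition (fun _ : PUnit.{1} => (⊤ : (X ⊗ (Y ⊗ Z)).left.Opens))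
      (fun x => ⟨⟨⟩, trivial⟩) (fun _ => G) (fun _ => hGgen) (fun _ => one' ⊤) (fun _ => isGen_one _)
      (fun _ _ W' _ _ => ⟨1, (one_smul _ _).symm, (one_smul _ _).symm⟩))

set_option maxHeartbeats 2000000 in
/-- **The theorem of the cube over a field.** -/
theorem eq_one [LocallyOfFiniteType Z.hom] [GeometricallyIntegral Z.hom]
    (z₀ : 𝟙_ (Over (Spec (CommRingCat.of k))) ⟶ Z) (c : PicLoc.PicSet (X ⊗ (Y ⊗ Z)).left)
    (hx : op (slX X Y x₀ Z) c = 1) (hy : op (slY X Y y₀ Z) c = 1)
    (hz : op (lift (fst X Y) (lift (snd X Y) (toUnit (X ⊗ Y) ≫ z₀))) c = 1) : c = 1 := by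
  have : IsLocallyNoetherian Z.left := LocallyOfFiniteType.isLocallyNoetherian Z.hom
  -- over the base point
  let g₀ : Sp k k ⟶ Z := toUnit (Sp k k) ≫ z₀
  have hg₀ : op (X ◁ Y ◁ g₀) c = 1 := by
    have e : X ◁ Y ◁ g₀ = X ◁ fst Y (Sp k k) ≫ lift (fst X Y) (lift (snd X Y) (toUnit (X ⊗ Y) ≫ z₀)) := by
      apply CartesianMonoidalCategory.hom_ext
      · simp
      · apply CartesianMonoidalCategory.hom_ext
        · simp
        · simp only [whiskerLeft_snd, whiskerLeft_snd_assoc, Category.assoc, lift_snd, lift_snd_assoc, g₀]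
          simp only [← Category.assoc]
          congr 1
          exact Subsingleton.elim _ _
    rw [e, PicLaw.Mumford.op_comp, hz, map_one]
  set zz := g₀.left (IsLocalRing.closedPoint k) with hzz
  have h₀ : op (X ◁ Y ◁ stalkMor zz) c = 1 :=
    stalk_eq_one x₀ y₀ c hx hy zz (fibre_of_point x₀ y₀ g₀ c hg₀)
  -- every fibre is trivial
  have hfib : ∀ z : Z.left, op (X ◁ Y ◁ fibMor z) c = 1 := by
    intro z
    let κ := Z.left.presheaf.stalk z ⧸ IsLocalRing.maximalIdeal (Z.left.presheaf.stalk z)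
    let : Field κ := Ideal.Quotient.field _
    let T := Sp k κ
    let W := Z ⊗ T
    have : IsIntegral W.left := pullback_of_geometrically (GeometricallyIntegral.geometrically_isIntegral (f := Z.hom)) κ T.hom
    have : LocallyOfFiniteType (snd Z T).left :=
      show LocallyOfFiniteType (pullback.snd Z.hom T.hom) from inferInstance
    have : IsLocallyNoetherian T.left := inferInstanceAs (IsLocallyNoetherian (Spec (CommRingCat.of κ)))
    have : IsLocallyNoetherian W.left := LocallyOfFiniteType.isLocallyNoetherian (snd Z T).left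
    -- the difference with the constant family
    let d := op (X ◁ Y ◁ fst Z T) c / op (X ◁ Y ◁ snd Z T) (op (X ◁ Y ◁ fibMor z) c)
    have hdx : op (slX X Y x₀ W) d = 1 := by
      simp only [d, map_div, ← PicLaw.Mumford.op_comp]
      rw [reassoc_of% (slX_nat X Y x₀ (snd Z T)), slX_nat, slX_nat]
      simp only [PicLaw.Mumford.op_comp, hx, map_one, div_one]
    have hdy : op (slY X Y y₀ W) d = 1 := by
      simp only [d, map_div, ← PicLaw.Mumford.op_comp]
      rw [reassoc_of% (slY_nat X Y y₀ (snd Z T)), slY_nat, slY_nat]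
      simp only [PicLaw.Mumford.op_comp, hy, map_one, div_one]
    let σ : T ⟶ W := lift (fibMor z) (𝟙 T)
    have hσ : op (X ◁ Y ◁ σ) d = 1 := by
      simp only [d, map_div, ← PicLaw.Mumford.op_comp, ← MonoidalCategory.whiskerLeft_comp, ← Category.assoc]
      simp only [σ, lift_fst, lift_snd, Category.id_comp, div_self']
    set w := σ.left (IsLocalRing.closedPoint κ) with hw
    have hd : op (X ◁ Y ◁ stalkMor w) d = 1 := stalk_eq_one x₀ y₀ d hdx hdy w (fibre_of_point x₀ y₀ σ d hσ)
    -- the generic point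
    set ξ := genericPoint W.left with hξ
    let F := W.left.presheaf.stalk ξ ⧸ IsLocalRing.maximalIdeal (W.left.presheaf.stalk ξ)
    let : Field F := Ideal.Quotient.field _
    have hgξ : (fibMor ξ).left (IsLocalRing.closedPoint F) = ξ := fibMor_point ξ _
    have h1 : op (X ◁ Y ◁ fibMor ξ) d = 1 := point_eq_one d hd (fibMor ξ) (by
      rw [hgξ]; exact genericPoint_specializes w)
    have : IsIntegral Z.left :=
      (have : Subsingleton ↥(Spec (CommRingCat.of k)) := inferInstanceAs (Subsingleton (PrimeSpectrum k));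
      GeometricallyIntegral.isIntegral_of_subsingleton Z.hom)
    have h2 : op (X ◁ Y ◁ (fibMor ξ ≫ fst Z T)) c = 1 := point_eq_one c h₀ _ (by
      show (fst Z T).left ((fibMor ξ).left (IsLocalRing.closedPoint F)) ⤳ zz
      rw [hgξ]
      have hη : genericPoint Z.left ∈ Set.range (fst Z T).left := by
        show genericPoint Z.left ∈ Set.range (pullback.fst Z.hom T.hom)
        rw [Scheme.Pullback.range_fst]
        obtain ⟨p⟩ : Nonempty T.left := inferInstanceAs (Nonempty (PrimeSpectrum κ))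
        have : Subsingleton ↥(Spec (CommRingCat.of k)) := inferInstanceAs (Subsingleton (PrimeSpectrum k))
        exact ⟨p, Subsingleton.elim _ _⟩
      obtain ⟨w', hw'⟩ := hη
      have h3 : (fst Z T).left ξ ⤳ genericPoint Z.left :=
        hw' ▸ (genericPoint_specializes w').map (fst Z T).left.continuous
      exact h3.trans (genericPoint_specializes zz))
    have h4 : op (X ◁ Y ◁ (fibMor ξ ≫ snd Z T ≫ fibMor z)) c = 1 := by
      simp only [d, map_div, ← PicLaw.Mumford.op_comp, ← MonoidalCategory.whiskerLeft_comp] at h1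
      rw [h2, one_div, inv_eq_one] at h1
      simpa only [Category.assoc] using h1
    have hpt : (fibMor ξ ≫ snd Z T ≫ fibMor z).left (IsLocalRing.closedPoint F) = z := fibMor_point z _
    exact hpt ▸ fibre_of_point x₀ y₀ _ c h4
  exact eq_one_of_fibres x₀ y₀ c hx hy hfib

end Groth.Agent.Cube.Global
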