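import Groth.Agent.Cube.Grauert
import Groth.Agent.VarBC.H0
import Groth.Agent.PicLaw.Swap
import Mathlib.AlgebraicGeometry.Geometrically.Integral

/-!
# The seesaw theorem over a reduced base
-/

set_option autoImplicit false
universe u

open CategoryTheory CategoryTheory.Limits AlgebraicGeometry TopologicalSpace Opposite Function

noncomputable section

namespace Groth.Agent.Cube.Seesaw

open Groth.Agent.QCoh Groth.Agent.Props.GenLocus Groth.Agent.Props.GenTensor Groth.Agent.Props.GenPull
open scoped Groth.Agent.PicLaw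
open PicLaw (pl)

variable {W Z : Scheme.{u}} (π : W ⟶ Z)

theorem nonempty_fiber_of_finrank (z : Z) (h : Module.finrank (Z.residueField z) Γ(π.fiber z, ⊤) = 1) :
    Nonempty (π.fiber z) := by
  by_contra hne
  rw [not_nonempty_iff] at hne
  have : Subsingleton Γ(π.fiber z, ⊤) := subsingleton_of_forall_eq 0 fun a =>
    TopCat.Presheaf.section_ext (π.fiber z).sheaf ⊤ a 0 fun y _ => (IsEmpty.false y).elim
  rw [Module.finrank_zero_of_subsingleton] at h
  exact zero_ne_one h

variable [IsProper π] [Flat π] [IsLocallyNoetherian Z] [IsReduced Z]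

/-- Constant functions: `O_Z ≅ π_* O_W`. -/
theorem app_bijective (hh : ∀ z : Z, Module.finrank (Z.residueField z) Γ(π.fiber z, ⊤) = 1) (U : Z.Opens) :
    Bijective (π.app U) := by
  have hinj : ∀ V : Z.Opens, Injective (π.app V) := fun V => by
    rw [injective_iff_map_eq_zero]
    intro b hb
    refine eq_zero_of_basicOpen_eq_bot b (le_bot_iff.mp fun z hz => ?_)
    obtain ⟨y⟩ := nonempty_fiber_of_finrank π z (hh z)
    have hy : π (π.fiberι z y) = z := (π.range_fiberι z).subset (Set.mem_range_self y)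
    have h1 : π.fiberι z y ∈ π ⁻¹ᵁ Z.basicOpen b := by show π _ ∈ Z.basicOpen b; rw [hy]; exact hz
    rw [Scheme.preimage_basicOpen, hb, Scheme.basicOpen_zero] at h1
    exact h1
  refine ⟨hinj U, fun a => ?_⟩
  -- a frame of the direct image
  have hO := PicLoc.isInvertible_structureModule W
  have hC := isCoh_of_invertible hO
  have hc : IsLocallyConstant (CohIII.fiberRank π (Coh.structureModule W) 0) :=
    IsLocallyConstant.of_constant _ fun x y => by
      have key : ∀ z, CohIII.fiberRank π (Coh.structureModule W) 0 z = 1 := fun z =>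
        (fiberRank_eq_of_iso π z ((PicGrp.cls_eq_one_iff (PicLoc.isInvertible_pullback _ hO)).mp (by
          rw [PicLaw.cls_pullback _ hO, PicLaw.cls_one, map_one]))).trans (hh z)
      rw [key, key]
  have : EnoughInjectives W.Modules := ModShf.schemeModulesEnoughInjectives W
  have hgood := CBC.good_of_isLocallyConstant hC (isFlatOver_of_invertible π hO) finCoh hc
  have hrk := (CBC.finLocFree_of_good hC (isFlatOver_of_invertible π hO) finCoh hgood).2
  let P := (Scheme.Modules.pushforward π).obj (Coh.structureModule W)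
  have hP : PicF.IsInvertible P := fun z => by
    obtain ⟨V, hzV, ⟨e⟩⟩ := hrk z
    have hn : CohIII.fiberRank π (Coh.structureModule W) 0 z = 1 :=
      (fiberRank_eq_of_iso π z ((PicGrp.cls_eq_one_iff (PicLoc.isInvertible_pullback _ hO)).mp (by
          rw [PicLaw.cls_pullback _ hO, PicLaw.cls_one, map_one]))).trans (hh z)
    rw [hn] at e
    exact ⟨V, hzV, ⟨(Scheme.Modules.restrictFunctor V.ι).mapIso
      ((Scheme.Modules.pushforward π).rightDerivedZeroIsoSelf.app (Coh.structureModule W)).symm ≪≫ e ≪≫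
        coproductUniqueIso fun _ : Fin 1 => Coh.structureModule (V : Scheme.{u})⟩⟩
  have hloc : ∀ z : Z, z ∈ U → ∃ (V : Z.Opens) (hV : V ≤ U), z ∈ V ∧ ∃ b : Γ(Z, V),
      π.app V b = rres (π.preimage_mono hV) a := by
    intro z hz
    obtain ⟨V₀, e₀, hzV₀, he₀⟩ := exists_isGen hP z
    obtain ⟨c₁, hc₁, -⟩ := he₀.exists_eq le_rfl (show Γ(P, V₀) from (1 : Γ(W, π ⁻¹ᵁ V₀)))
    rw [res_self] at hc₁
    have hc₁' : (1 : Γ(W, π ⁻¹ᵁ V₀)) = π.app V₀ c₁ * (show Γ(W, π ⁻¹ᵁ V₀) from e₀) := hc₁
    obtain ⟨y⟩ := nonempty_fiber_of_finrank π z (hh z)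
    have hy : π (π.fiberι z y) = z := (π.range_fiberι z).subset (Set.mem_range_self y)
    have hzb : z ∈ Z.basicOpen c₁ := by
      have h1 : π.fiberι z y ∈ W.basicOpen (π.app V₀ c₁) := by
        rw [W.mem_basicOpen _ _ (show π.fiberι z y ∈ π ⁻¹ᵁ V₀ by show π _ ∈ V₀; rw [hy]; exact hzV₀)]
        exact (IsUnit.of_mul_eq_one _ hc₁'.symm).map _
      rw [← Scheme.preimage_basicOpen] at h1
      exact hy ▸ h1
    let V := Z.basicOpen c₁ ⊓ U
    have hV : V ≤ V₀ := inf_le_left.trans (Z.basicOpen_le c₁)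
    have hu : IsUnit (rres hV c₁) := by
      have := (RingedSpace.isUnit_res_basicOpen _ c₁).map (rres (inf_le_left : V ≤ Z.basicOpen c₁)).hom
      exact (rres_rres (Z.basicOpen_le c₁) (inf_le_left : V ≤ Z.basicOpen c₁) c₁) ▸ this
    obtain ⟨c, hc, -⟩ := he₀.exists_eq hV
      (show Γ(P, V) from rres (π.preimage_mono (inf_le_right : V ≤ U)) a)
    obtain ⟨d, hd⟩ := hu.exists_right_inv
    refine ⟨V, inf_le_right, ⟨hzb, hz⟩, c * d, ?_⟩
    have hc' : rres (π.preimage_mono (inf_le_right : V ≤ U)) a =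
        π.app V c * rres (π.preimage_mono hV) (show Γ(W, π ⁻¹ᵁ V₀) from e₀) := hc
    have h2 := congrArg (rres (π.preimage_mono hV)) hc₁'
    rw [map_one, map_mul, ← Props.GenPull.app_rres π hV] at h2
    rw [hc', map_mul]
    calc π.app V c * π.app V d = π.app V c * π.app V d *
          (π.app V (rres hV c₁) * rres (π.preimage_mono hV) (show Γ(W, π ⁻¹ᵁ V₀) from e₀)) := by
            rw [← h2, mul_one]
      _ = π.app V c * (π.app V (rres hV c₁ * d)) * rres (π.preimage_mono hV) (show Γ(W, π ⁻¹ᵁ V₀) from e₀) := by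
            rw [map_mul]; ac_rfl
      _ = _ := by rw [hd, map_one, mul_one]
  choose V hVU hzV b hb using fun z : U => hloc z.1 z.2
  have hcomp : TopCat.Presheaf.IsCompatible Z.sheaf.1 V b := by
    intro p q
    refine hinj (V p ⊓ V q) ?_
    have e1 := congrArg (rres (π.preimage_mono (inf_le_left : V p ⊓ V q ≤ V p))) (hb p)
    have e2 := congrArg (rres (π.preimage_mono (inf_le_right : V p ⊓ V q ≤ V q))) (hb q)
    rw [rres_rres, ← Props.GenPull.app_rres π inf_le_left] at e1
    rw [rres_rres, ← Props.GenPull.app_rres π inf_le_right] at e2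
    exact e1.trans e2.symm
  obtain ⟨B, hB, -⟩ := TopCat.Sheaf.existsUnique_gluing' Z.sheaf V U (fun p => homOfLE (hVU p))
    (fun x hx => Opens.mem_iSup.mpr ⟨⟨x, hx⟩, hzV _⟩) b hcomp
  refine ⟨B, eq_of_local_fun (U := fun p => π ⁻¹ᵁ V p) (fun p => π.preimage_mono (hVU p))
    (fun x hx => ⟨⟨π x, hx⟩, hzV ⟨π x, hx⟩⟩) _ _ fun p => ?_⟩
  rw [← hb p, ← Props.GenPull.app_rres π (hVU p)]
  exact congrArg (π.app (V p)) (hB p)

variable (hh : ∀ z : Z, Module.finrank (Z.residueField z) Γ(π.fiber z, ⊤) = 1)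
  {L : W.Modules} (hL : PicF.IsInvertible L)

include hh hL in
/-- The seesaw theorem over a reduced base. -/
theorem counit_of_fibres
    (htriv : ∀ z : Z, Nonempty (CohIII.fiberMod π L z ≅ Coh.structureModule (π.fiber z))) :
    PicF.IsInvertible ((Scheme.Modules.pushforward π).obj L) ∧
      IsIso ((Scheme.Modules.pullbackPushforwardAdjunction π).counit.app L) := by
  have hf := app_bijective π hh
  choose V hzV g hg using fun z => exists_gen_of_fibres π hh hL htriv z
  have hfr := fun z => LFFrame.IsFrame.pushforward π hf ((isGen_iff_isFrame (g z)).mp (hg z))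
  refine ⟨AmpleLib.isInvertible_of_exists_isGen fun z =>
    ⟨V z, g z, hzV z, (isGen_iff_isFrame (L := (Scheme.Modules.pushforward π).obj L) (g z)).mpr (hfr z)⟩, ?_⟩
  exact LFFrame.isIso_of_locally_bijective _ fun x => ⟨π ⁻¹ᵁ V (π x), hzV (π x), fun U hU =>
    LFFrame.IsFrame.counit_bijective π hf ((isGen_iff_isFrame (g (π x))).mp (hg (π x))) U hU⟩

omit [IsProper π] [Flat π] [IsLocallyNoetherian Z] [IsReduced Z] in
theorem fibre_trivial_of_pullback {M : Z.Modules} (hM : PicF.IsInvertible M) (z : Z) :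
    pl (π.fiberι z) (pl π (PicGrp.cls M hM)) = 1 := by
  rw [← PicLaw.pl_comp, show π.fiberι z ≫ π = π.fiberToSpecResidueField z ≫ Z.fromSpecResidueField z from
    pullback.condition, PicLaw.pl_comp]
  have : pl (Z.fromSpecResidueField z) (PicGrp.cls M hM) = 1 := by
    rw [← PicLaw.cls_pullback _ hM]
    have : Subsingleton ↥(Spec (Z.residueField z)) := inferInstanceAs (Subsingleton (PrimeSpectrum (Z.residueField z)))
    have : Nonempty ↥(Spec (Z.residueField z)) := inferInstanceAs (Nonempty (PrimeSpectrum (Z.residueField z)))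
    exact (PicGrp.cls_eq_one_iff _).mpr (PicLaw.nonempty_iso_of_subsingleton (PicLoc.isInvertible_pullback _ hM))
  rw [this, map_one]

include hh hL in
theorem pullback_iff_fibres :
    (∃ M : Z.Modules, PicF.IsInvertible M ∧ Nonempty ((Scheme.Modules.pullback π).obj M ≅ L)) ↔
      ∀ z : Z, Nonempty (CohIII.fiberMod π L z ≅ Coh.structureModule (π.fiber z)) := by
  refine ⟨fun ⟨M, hM, e⟩ z => ?_, fun h => ?_⟩
  · refine (PicGrp.cls_eq_one_iff (PicLoc.isInvertible_pullback _ hL)).mp ?_
    rw [PicLaw.cls_pullback _ hL, ← (PicLaw.iso_iff (PicLoc.isInvertible_pullback _ hM) hL).mp e,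
      PicLaw.cls_pullback _ hM, fibre_trivial_of_pullback π hM z]
  · obtain ⟨h1, h2⟩ := counit_of_fibres π hh hL h
    exact ⟨_, h1, ⟨asIso ((Scheme.Modules.pullbackPushforwardAdjunction π).counit.app L)⟩⟩

omit hh in
include hL in
omit [IsReduced Z] in
/-- The locus of trivial fibres is closed when the fibres are integral. -/
theorem isClosed_trivial (hint : ∀ z : Z, IsIntegral (π.fiber z)) :
    IsClosed {z : Z | Nonempty (CohIII.fiberMod π L z ≅ Coh.structureModule (π.fiber z))} := by
  obtain ⟨L', hL', hc'⟩ := PicGrp.exists_eq_cls (PicGrp.cls L hL)⁻¹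
  suffices h : {z : Z | Nonempty (CohIII.fiberMod π L z ≅ Coh.structureModule (π.fiber z))} =
      {z | 1 ≤ CohIII.fiberRank π L 0 z} ∩ {z | 1 ≤ CohIII.fiberRank π L' 0 z} by
    rw [h]; exact (isClosed_fiberRank_pos π hL).inter (isClosed_fiberRank_pos π hL')
  ext z
  have := hint z
  simp only [Set.mem_setOf_eq, Set.mem_inter_iff, one_le_fiberRank_iff π hL, one_le_fiberRank_iff π hL']
  constructor
  · intro h
    refine ⟨nontrivial_of_iso h, nontrivial_of_iso ?_⟩
    refine (PicGrp.cls_eq_one_iff (PicLoc.isInvertible_pullback (π.fiberι z) hL')).mp ?_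
    have h1 := (PicGrp.cls_eq_one_iff (PicLoc.isInvertible_pullback (π.fiberι z) hL)).mpr h
    rw [PicLaw.cls_pullback _ hL] at h1
    rw [PicLaw.cls_pullback _ hL', ← hc', map_inv, h1, inv_one]
  · rintro ⟨hs, ht⟩
    have : UniversallyClosed (π.fiberToSpecResidueField z) :=
      show UniversallyClosed (pullback.snd π (Z.fromSpecResidueField z)) from inferInstance
    refine iso_of_sections (isField_of_universallyClosed (K := Z.residueField z) (π.fiberToSpecResidueField z))
      (PicLoc.isInvertible_pullback (π.fiberι z) hL) (PicLoc.isInvertible_pullback (π.fiberι z) hL') ?_ hs ht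
    refine (PicGrp.cls_eq_one_iff (PicLaw.isInvertible_tensor (PicLoc.isInvertible_pullback (π.fiberι z) hL) (PicLoc.isInvertible_pullback (π.fiberι z) hL'))).mp ?_
    rw [PicLaw.cls_tensor (PicLoc.isInvertible_pullback (π.fiberι z) hL) (PicLoc.isInvertible_pullback (π.fiberι z) hL'), PicLaw.cls_pullback _ hL, PicLaw.cls_pullback _ hL', ← hc',
      ← map_mul, mul_inv_cancel, map_one]

omit [IsProper π] [Flat π] [IsLocallyNoetherian Z] [IsReduced Z] hh in
theorem finrank_eq_one_of_geometrically [IsProper π] [GeometricallyConnected π] [GeometricallyReduced π] (z : Z) :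
    Module.finrank (Z.residueField z) Γ(π.fiber z, ⊤) = 1 := by
  let : (π.fiber z).Over (Spec (CommRingCat.of (Z.residueField z))) := ⟨π.fiberToSpecResidueField z⟩
  have : IsProper (π.fiber z ↘ Spec (CommRingCat.of (Z.residueField z))) :=
    show IsProper (pullback.snd π (Z.fromSpecResidueField z)) from inferInstance
  have : GeometricallyReduced (π.fiber z ↘ Spec (CommRingCat.of (Z.residueField z))) :=
    show GeometricallyReduced (pullback.snd π (Z.fromSpecResidueField z)) from inferInstance
  have hgc : GeometricallyConnected (π.fiber z ↘ Spec (CommRingCat.of (Z.residueField z))) :=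
    show GeometricallyConnected (pullback.snd π (Z.fromSpecResidueField z)) from inferInstance
  have : ConnectedSpace ↥(π.fiber z) :=
    pullback_of_geometrically GeometricallyConnected.geometrically_connectedSpace (Z.residueField z)
      (Z.fromSpecResidueField z)
  have h := (VarBC.H0.bijective_algebraMap (Z.residueField z) (π.fiber z)).2
  have : Nontrivial Γ(π.fiber z, ⊤) := by
    have : Nonempty (⊤ : (π.fiber z).Opens) := ⟨⟨Classical.arbitrary _, trivial⟩⟩
    infer_instance
  refine (finrank_eq_one_iff_of_nonzero' (1 : Γ(π.fiber z, ⊤)) one_ne_zero).mpr fun a => ?_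
  obtain ⟨c, hc⟩ := h a
  exact ⟨c, (Algebra.algebraMap_eq_smul_one c).symm.trans hc⟩

end Groth.Agent.Cube.Seesaw
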