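import Groth.Agent.Cube.SeesawThm
import Mathlib.AlgebraicGeometry.AlgClosed.Basic

/-!
# Fibre functions for families over algebraically closed fields
-/

set_option autoImplicit false
universe u

open CategoryTheory CategoryTheory.Limits AlgebraicGeometry TopologicalSpace Opposite Function

noncomputable section

namespace Groth.Agent.Cube.Seesaw

open scoped Groth.Agent.PicLaw

variable {W Z : Scheme.{u}} (π : W ⟶ Z) [IsProper π] [Flat π] [IsLocallyNoetherian Z]

/-- Upper semicontinuity of `h⁰`. -/
theorem isClosed_le_fiberRank {L : W.Modules} (hL : PicF.IsInvertible L) (n : ℕ) :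
    IsClosed {z : Z | n ≤ CohIII.fiberRank π L 0 z} := by
  have hC := isCoh_of_invertible hL
  have : L.IsQuasicoherent := hC.1
  rw [← isOpen_compl_iff, isOpen_iff_mem_nhds]
  refine CBC.isOpen_eq_of_nhds fun V hV z hz h => ?_
  obtain ⟨D, hD⟩ := CBC.exists_model_win hC (isFlatOver_of_invertible π hL) finCoh hV
  obtain ⟨w⟩ := hD 0
  have := w.fp
  have h1 := CBC.kerRank_le_eventually w.u (hV.primeIdealOf ⟨z, hz⟩)
  have h2 : hV.fromSpec (hV.primeIdealOf ⟨z, hz⟩) = z := hV.fromSpec_primeIdealOf ⟨z, hz⟩
  rw [← h2, ← hV.fromSpec.isOpenEmbedding.map_nhds_eq]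
  refine Filter.mem_map.2 (h1.mono fun x hx => ?_)
  rw [CBC.kerRank_pt hV D w, CBC.kerRank_pt hV D w] at hx
  simp only [Set.mem_compl_iff, Set.mem_setOf_eq, not_le, Set.mem_preimage] at h ⊢
  have h3 : CBC.pt hV (hV.primeIdealOf ⟨z, hz⟩) = z := h2
  rw [h3] at hx
  exact lt_of_le_of_lt hx h

omit [Flat π] [IsLocallyNoetherian Z] in
theorem finrank_of_isAlgClosed (z : Z) [IsAlgClosed (Z.residueField z)] [IsIntegral (π.fiber z)] :
    Module.finrank (Z.residueField z) Γ(π.fiber z, ⊤) = 1 := by
  let f := π.fiberToSpecResidueField z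
  have : IsProper f := show IsProper (pullback.snd π (Z.fromSpecResidueField z)) from inferInstance
  let : Field Γ(π.fiber z, ⊤) := (isField_of_universallyClosed (K := Z.residueField z) f).toField
  have hint : (algebraMap (Z.residueField z) Γ(π.fiber z, ⊤)).IsIntegral := by
    have h1 := (finite_appTop_of_universallyClosed (K := Z.residueField z) f).to_isIntegral
    exact RingHom.IsIntegral.trans _ _
      (RingHom.isIntegral_of_surjective _ (ConcreteCategory.bijective_of_isIso (Scheme.ΓSpecIso (Z.residueField z)).inv).2) h1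
  have h := (IsAlgClosed.ringHom_bijective_of_isIntegral _ hint).2
  refine (finrank_eq_one_iff_of_nonzero' (1 : Γ(π.fiber z, ⊤)) one_ne_zero).mpr fun a => ?_
  obtain ⟨c, hc⟩ := h a
  exact ⟨c, (Algebra.algebraMap_eq_smul_one c).symm.trans hc⟩

/-- All fibres have one dimensional `H⁰(O)` if those over closed points do. -/
theorem finrank_fibres {k : Type u} [Field k] [IsAlgClosed k] (g : Z ⟶ Spec (CommRingCat.of k)) [LocallyOfFiniteType g]
    (hint : ∀ z : Z, IsIntegral (π.fiber z)) (z : Z) :
    Module.finrank (Z.residueField z) Γ(π.fiber z, ⊤) = 1 := by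
  have hO := PicLoc.isInvertible_structureModule W
  have hiso : ∀ w : Z, Nonempty (CohIII.fiberMod π (Coh.structureModule W) w ≅ Coh.structureModule (π.fiber w)) :=
    fun w => (PicGrp.cls_eq_one_iff (PicLoc.isInvertible_pullback _ hO)).mp (by
      rw [PicLaw.cls_pullback _ hO, PicLaw.cls_one, map_one])
  have hrk : ∀ w, CohIII.fiberRank π (Coh.structureModule W) 0 w = Module.finrank (Z.residueField w) Γ(π.fiber w, ⊤) :=
    fun w => fiberRank_eq_of_iso π w (hiso w)
  have : JacobsonSpace Z := LocallyOfFiniteType.jacobsonSpace g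
  have h1 : 1 ≤ CohIII.fiberRank π (Coh.structureModule W) 0 z := by
    have := hint z
    exact (one_le_fiberRank_iff π hO z).mpr (nontrivial_of_iso (hiso z))
  have h2 : ¬ 2 ≤ CohIII.fiberRank π (Coh.structureModule W) 0 z := fun h => by
    obtain ⟨w, hw, hwc⟩ := nonempty_inter_closedPoints (Z := {w | 2 ≤ CohIII.fiberRank π (Coh.structureModule W) 0 w})
      ⟨z, h⟩ (isClosed_le_fiberRank π hO 2).isLocallyClosed
    have := hint w
    have : IsAlgClosed (Z.residueField w) :=
      IsAlgClosed.of_ringEquiv k _ (residueFieldIsoBase g w hwc).commRingCatIsoToRingEquiv.symm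
    have hw' : 2 ≤ CohIII.fiberRank π (Coh.structureModule W) 0 w := hw
    rw [hrk, finrank_of_isAlgClosed π w] at hw'
    omega
  rw [← hrk]; omega

end Groth.Agent.Cube.Seesaw
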