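import Groth.Agent.Cube.Global
import Groth.Agent.VarBC.H0
import Groth.Agent.AbVarLib.CubeCons

/-!
# The theorem of the cube: final forms
-/

set_option autoImplicit false
universe u

open CategoryTheory CategoryTheory.Limits MonoidalCategory CartesianMonoidalCategory MonObj AlgebraicGeometry

noncomputable section

namespace Groth.Agent.Cube

open scoped Groth.Agent.PicLaw
open PicLaw.Mumford (op)

variable {k : Type u} [Field k]

/-- Constant functions from geometric connectedness and reducedness. -/
theorem isIso_appTop_of_connected_reduced (X : Over (Spec (CommRingCat.of k))) [IsProper X.hom]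
    [GeometricallyReduced X.hom] [GeometricallyConnected X.hom] [Nonempty X.left] : IsIso X.hom.appTop := by
  let : X.left.Over (Spec (CommRingCat.of k)) := ⟨X.hom⟩
  have : IsProper (X.left ↘ Spec (CommRingCat.of k)) := ‹IsProper X.hom›
  have : GeometricallyReduced (X.left ↘ Spec (CommRingCat.of k)) := ‹GeometricallyReduced X.hom›
  have : GeometricallyConnected (X.left ↘ Spec (CommRingCat.of k)) := ‹GeometricallyConnected X.hom›
  have h := VarBC.H0.bijective_algebraMap k X.left
  rw [ConcreteCategory.isIso_iff_bijective]
  have h2 : Function.Bijective (Scheme.ΓSpecIso (CommRingCat.of k)).inv.hom :=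
    ConcreteCategory.bijective_of_isIso (Scheme.ΓSpecIso (CommRingCat.of k)).inv
  exact (Function.Bijective.of_comp_iff _ h2).mp h

/-- The theorem of the cube in the form used for abelian varieties. -/
theorem cubeHyp (A : Over (Spec (CommRingCat.of k))) [GrpObj A] [IsProper A.hom] [GeometricallyIntegral A.hom] :
    AbVarLib.CubeCons.CubeHyp A := by
  intro c h1 h2 h3
  have := AbVarLib.Rigidity.isIso_appTop A.hom
  refine Global.eq_one (X := A) (Y := A) (Z := A) η[A] η[A] η[A] c h1 ?_ h3
  rw [show Local.slY A A η[A] A = lift (fst A A) (lift (toUnit (A ⊗ A) ≫ η[A]) (snd A A)) by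
    apply CartesianMonoidalCategory.hom_ext
    · simp [Local.slY]
    · apply CartesianMonoidalCategory.hom_ext <;> simp [Local.slY]]
  exact h2

end Groth.Agent.Cube
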