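import Groth.Agent.Cube.Global
import Groth.Agent.AbVarLib.TransInv
import Groth.Agent.FBase.BC
import Groth.Agent.S16188
import Mathlib.RingTheory.Spectrum.Prime.ConstructibleSet
import Mathlib.AlgebraicGeometry.AlgClosed.Basic

/-!
# The theorem of the cube with a connected parameter scheme

Over an algebraically closed field the parameter scheme in the theorem of the cube may be any
connected scheme locally of finite type: it need not be reduced, irreducible or separated.
-/

set_option autoImplicit false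
universe u

open CategoryTheory CategoryTheory.Limits MonoidalCategory CartesianMonoidalCategory AlgebraicGeometry
open TopologicalSpace

noncomputable section

namespace Groth.Agent.Cube

/-- An integral scheme over an algebraically closed field is geometrically integral. -/
theorem geometricallyIntegral_of_isAlgClosed {k : Type u} [Field k] [IsAlgClosed k] {X : Scheme.{u}}
    (f : X ⟶ Spec (CommRingCat.of k)) [IsIntegral X] : GeometricallyIntegral f :=
  have := FBase.BC.geometricallyIrreducible_of_isSepClosed f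
  have := FBase.BC.geometricallyReduced_of_isReduced_of_perfectField f
  GeometricallyIntegral.of_geometricallyReduced_of_geometricallyIrreducible f

namespace Global

open scoped Groth.Agent.PicLaw
open PicLaw.Mumford (op)
open Local (slX slY slX_nat slY_nat cls_op_eq_one)
open Groth.Agent.QCoh Groth.Agent.Props.GenLocus Groth.Agent.Props.GenTensor Groth.Agent.Props.GenPull

variable {k : Type u} [Field k] [IsAlgClosed k]
variable {X Y Z : Over (Spec (CommRingCat.of k))} [IsProper X.hom] [IsProper Y.hom]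
  [IsIso X.hom.appTop] [IsIso Y.hom.appTop]
variable (x₀ : 𝟙_ (Over (Spec (CommRingCat.of k))) ⟶ X) (y₀ : 𝟙_ (Over (Spec (CommRingCat.of k))) ⟶ Y)

attribute [local instance] stalkAlg

/-- Where the family is trivial. -/
def trivLocus (c : PicLoc.PicSet (X ⊗ (Y ⊗ Z)).left) : Set Z.left :=
  {z | op (X ◁ Y ◁ fibMor z) c = 1}

omit [IsAlgClosed k] in
include x₀ y₀ in
theorem mem_trivLocus_of_point (c : PicLoc.PicSet (X ⊗ (Y ⊗ Z)).left) {F : Type u} [Field F] [Algebra k F]
    (g : Sp k F ⟶ Z) (hc : op (X ◁ Y ◁ g) c = 1) : g.left (IsLocalRing.closedPoint F) ∈ trivLocus c :=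
  fibre_of_point x₀ y₀ g c hc

omit [IsAlgClosed k] in
theorem fibre_of_stalk (c : PicLoc.PicSet (X ⊗ (Y ⊗ Z)).left) {z : Z.left}
    (h : op (X ◁ Y ◁ stalkMor z) c = 1) : z ∈ trivLocus c := by
  show op (X ◁ Y ◁ (spMap k (Ideal.Quotient.mkₐ k _) ≫ stalkMor z)) c = 1
  rw [MonoidalCategory.whiskerLeft_comp, MonoidalCategory.whiskerLeft_comp, PicLaw.Mumford.op_comp, h, map_one]

omit [IsAlgClosed k] in
include x₀ y₀ in
/-- A morphism trivialising the family lands in the triviality locus. -/
theorem mem_trivLocus_of_hom (c : PicLoc.PicSet (X ⊗ (Y ⊗ Z)).left) {C : Over (Spec (CommRingCat.of k))}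
    (ι : C ⟶ Z) (hd : op (X ◁ Y ◁ ι) c = 1) (z' : C.left) : ι.left z' ∈ trivLocus c := by
  let : Field (C.left.presheaf.stalk z' ⧸ IsLocalRing.maximalIdeal (C.left.presheaf.stalk z')) :=
    Ideal.Quotient.field _
  have h1 : op (X ◁ Y ◁ (fibMor z' ≫ ι)) c = 1 := by
    rw [MonoidalCategory.whiskerLeft_comp, MonoidalCategory.whiskerLeft_comp, PicLaw.Mumford.op_comp, hd, map_one]
  have h2 := mem_trivLocus_of_point x₀ y₀ c (fibMor z' ≫ ι) h1
  rw [Over.comp_left, Scheme.Hom.comp_apply, fibMor_point] at h2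
  exact h2

omit [IsAlgClosed k] in
include x₀ y₀ in
/-- The triviality locus is open. -/
theorem isOpen_trivLocus [IsLocallyNoetherian Z.left] (c : PicLoc.PicSet (X ⊗ (Y ⊗ Z)).left)
    (hx : op (slX X Y x₀ Z) c = 1) (hy : op (slY X Y y₀ Z) c = 1) : IsOpen (trivLocus c) := by
  refine isOpen_iff_forall_mem_open.mpr fun z hz => ?_
  obtain ⟨L, hL, rfl⟩ := PicGrp.exists_eq_cls c
  obtain ⟨V, hzV, g, hg⟩ := Spread.exists_gen_nhd (proj X Y Z) hL z (isPullback_proj (stalkMor z))
    ((cls_op_eq_one _ hL).mp (stalk_eq_one x₀ y₀ _ hx hy z hz))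
  refine ⟨V, fun z' hz' => fibre_of_stalk _ ((cls_op_eq_one _ hL).mpr ?_), V.2, hzV⟩
  let i := (X ◁ Y ◁ stalkMor z').left
  have hi : (⊤ : (X ⊗ (Y ⊗ Sp k (Z.left.presheaf.stalk z'))).left.Opens) ≤ i ⁻¹ᵁ (proj X Y Z ⁻¹ᵁ V) := by
    intro w _
    have H := isPullback_proj (X := X) (Y := Y) (stalkMor z')
    show proj X Y Z (i w) ∈ V
    rw [← Scheme.Hom.comp_apply, H.w, Scheme.Hom.comp_apply]
    have hsp : Z.left.fromSpecStalk z' ((proj X Y (Sp k (Z.left.presheaf.stalk z'))) w) ⤳ z' := by
      have := Scheme.range_fromSpecStalk (X := Z.left) (x := z')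
      exact this.le ⟨_, rfl⟩
    exact hsp.mem_open V.2 hz'
  exact PicLaw.nonempty_iso_of_transition (fun _ : PUnit.{1} => (⊤ : (X ⊗ (Y ⊗ Sp k (Z.left.presheaf.stalk z'))).left.Opens))
    (fun x => ⟨⟨⟩, trivial⟩)
    (fun _ => QCoh.res _ hi (Props.GenPull.pb i g)) (fun _ => (Props.GenPull.isGen_pb i hg).restrict hi)
    (fun _ => one' ⊤) (fun _ => isGen_one _)
    (fun _ _ W' _ _ => ⟨1, (one_smul _ _).symm, (one_smul _ _).symm⟩)

set_option maxHeartbeats 400000 in
include x₀ y₀ in
/-- The triviality locus is stable under specialization. -/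
theorem stableUnderSpecialization_trivLocus [LocallyOfFiniteType Z.hom] (c : PicLoc.PicSet (X ⊗ (Y ⊗ Z)).left)
    (hx : op (slX X Y x₀ Z) c = 1) (hy : op (slY X Y y₀ Z) c = 1) :
    StableUnderSpecialization (trivLocus c) := by
  intro y z hyz hy'
  have : IsLocallyNoetherian Z.left := LocallyOfFiniteType.isLocallyNoetherian Z.hom
  let I := Scheme.IdealSheafData.vanishingIdeal (X := Z.left) ⟨closure {y}, isClosed_closure⟩
  have : IsIntegral I.subscheme :=
    S16188.isIntegral_subscheme _ isIrreducible_singleton.closure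
  have hr : Set.range I.subschemeι = closure {y} := by
    rw [Scheme.IdealSheafData.range_subschemeι, Scheme.IdealSheafData.coe_support_vanishingIdeal]
    rfl
  let C : Over (Spec (CommRingCat.of k)) := Over.mk (I.subschemeι ≫ Z.hom)
  let ι : C ⟶ Z := Over.homMk I.subschemeι rfl
  have : IsIntegral C.left := ‹IsIntegral I.subscheme›
  have : LocallyOfFiniteType C.hom := inferInstanceAs (LocallyOfFiniteType (I.subschemeι ≫ Z.hom))
  have : GeometricallyIntegral C.hom := geometricallyIntegral_of_isAlgClosed C.hom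
  have : JacobsonSpace ↥C.left := LocallyOfFiniteType.jacobsonSpace C.hom
  obtain ⟨p, hp, hpc⟩ := nonempty_inter_closedPoints (Z := ι.left ⁻¹' trivLocus c)
    (by obtain ⟨p, hp⟩ := hr.ge (subset_closure rfl : y ∈ closure {y}); exact ⟨p, show I.subschemeι p ∈ trivLocus c from hp ▸ hy'⟩)
    ((isOpen_trivLocus x₀ y₀ c hx hy).preimage ι.left.continuous).isLocallyClosed
  let z₁ := AbVarLib.TransInv.ptAt C p hpc
  let t := z₁ ≫ ι
  let g : Sp k k ⟶ Z := toUnit (Sp k k) ≫ t
  have hgp : g.left (IsLocalRing.closedPoint k) = ι.left p := by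
    show ι.left (pointOfClosedPoint C.hom p hpc ((toUnit (Sp k k)).left (IsLocalRing.closedPoint k))) = _
    rw [pointOfClosedPoint_apply]
  have hg : op (X ◁ Y ◁ g) c = 1 :=
    point_eq_one c (stalk_eq_one x₀ y₀ c hx hy _ hp) g (hgp ▸ specializes_rfl)
  have hd : op (X ◁ Y ◁ ι) c = 1 := by
    refine eq_one x₀ y₀ z₁ _ ?_ ?_ ?_
    · rw [← PicLaw.Mumford.op_comp, slX_nat, PicLaw.Mumford.op_comp, hx, map_one]
    · rw [← PicLaw.Mumford.op_comp, slY_nat, PicLaw.Mumford.op_comp, hy, map_one]
    · let e : 𝟙_ (Over (Spec (CommRingCat.of k))) ⟶ Sp k k := Over.homMk (𝟙 _) (by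
        show 𝟙 _ ≫ Spec.map (CommRingCat.ofHom (algebraMap k k)) = _
        rw [Algebra.algebraMap_self, CommRingCat.ofHom_id, Spec.map_id, Category.comp_id]; rfl)
      have hfac : lift (fst X Y) (lift (snd X Y) (toUnit (X ⊗ Y) ≫ z₁)) ≫ X ◁ Y ◁ ι =
          lift (fst X Y) (lift (snd X Y) (toUnit (X ⊗ Y) ≫ e)) ≫ X ◁ Y ◁ g := by
        apply CartesianMonoidalCategory.hom_ext
        · simp
        · apply CartesianMonoidalCategory.hom_ext
          · simp
          · simp only [Category.assoc, whiskerLeft_snd, whiskerLeft_snd_assoc, lift_snd, lift_snd_assoc, g, t]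
            rw [← Category.assoc e, toUnit_unique (e ≫ toUnit _) (𝟙 _), Category.id_comp]
      rw [← PicLaw.Mumford.op_comp, hfac, PicLaw.Mumford.op_comp, hg, map_one]
  obtain ⟨z', hz'⟩ := hr.ge (specializes_iff_mem_closure.mp hyz)
  have h := mem_trivLocus_of_hom x₀ y₀ c ι hd z'
  rwa [show ι.left z' = z from hz'] at h

/-- An open set stable under specialization in a locally Noetherian scheme is closed. -/
theorem isClosed_of_isOpen_of_stableUnderSpecialization {W : Scheme.{u}} [IsLocallyNoetherian W] {s : Set W}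
    (ho : IsOpen s) (hs : StableUnderSpecialization s) : IsClosed s := by
  rw [← isOpen_compl_iff, isOpen_iff_forall_mem_open]
  intro w hw
  obtain ⟨V, hV, hwV, -⟩ := exists_isAffineOpen_mem_and_subset (U := (⊤ : W.Opens)) (Opens.mem_top w)
  have : IsNoetherianRing Γ(W, V) := IsLocallyNoetherian.component_noetherian ⟨V, hV⟩
  have hcl : IsClosed (hV.fromSpec ⁻¹' s) := by
    refine PrimeSpectrum.isClosed_of_stableUnderSpecialization_of_isConstructible
      (hs.preimage hV.fromSpec.continuous) ?_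
    refine IsRetrocompact.isConstructible (ho.preimage hV.fromSpec.continuous) ?_
    exact fun U _ _ => NoetherianSpace.isCompact _
  refine ⟨hV.fromSpec '' (hV.fromSpec ⁻¹' s)ᶜ, ?_, hV.fromSpec.isOpenEmbedding.isOpenMap _ hcl.isOpen_compl, ?_⟩
  · rintro _ ⟨a, ha, rfl⟩
    exact ha
  · obtain ⟨a, rfl⟩ := hV.range_fromSpec.ge hwV
    exact ⟨a, hw, rfl⟩

include x₀ y₀ in
/-- **The theorem of the cube**, connected parameter scheme. -/
theorem eq_one_connected [LocallyOfFiniteType Z.hom] [ConnectedSpace ↥Z.left]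
    (z₀ : 𝟙_ (Over (Spec (CommRingCat.of k))) ⟶ Z) (c : PicLoc.PicSet (X ⊗ (Y ⊗ Z)).left)
    (hx : op (slX X Y x₀ Z) c = 1) (hy : op (slY X Y y₀ Z) c = 1)
    (hz : op (lift (fst X Y) (lift (snd X Y) (toUnit (X ⊗ Y) ≫ z₀))) c = 1) : c = 1 := by
  have : IsLocallyNoetherian Z.left := LocallyOfFiniteType.isLocallyNoetherian Z.hom
  let g₀ : Sp k k ⟶ Z := toUnit (Sp k k) ≫ z₀
  have hg₀ : op (X ◁ Y ◁ g₀) c = 1 := by
    have e : X ◁ Y ◁ g₀ = X ◁ fst Y (Sp k k) ≫ lift (fst X Y) (lift (snd X Y) (toUnit (X ⊗ Y) ≫ z₀)) := by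
      apply CartesianMonoidalCategory.hom_ext
      · simp
      · apply CartesianMonoidalCategory.hom_ext
        · simp
        · simp only [whiskerLeft_snd, whiskerLeft_snd_assoc, Category.assoc, lift_snd, lift_snd_assoc, g₀]
          simp only [← Category.assoc]
          congr 1
          exact Subsingleton.elim _ _
    rw [e, PicLaw.Mumford.op_comp, hz, map_one]
  have ho := isOpen_trivLocus x₀ y₀ c hx hy
  have hcl := isClosed_of_isOpen_of_stableUnderSpecialization ho
    (stableUnderSpecialization_trivLocus x₀ y₀ c hx hy)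
  have := (isClopen_iff.mp ⟨hcl, ho⟩).resolve_left
    (Set.Nonempty.ne_empty ⟨_, mem_trivLocus_of_point x₀ y₀ c g₀ hg₀⟩)
  exact eq_one_of_fibres x₀ y₀ c hx hy fun z => this.ge trivial

end Global

end Groth.Agent.Cube
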