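import Groth.Agent.Cube.Seesaw

/-!
# The seesaw principle over a reduced base

For a proper flat morphism to a reduced locally Noetherian scheme whose fibres have one dimensional `H⁰(O)`,
an invertible module trivial on all fibres has generators over the inverse images of small opens.
-/

set_option autoImplicit false
universe u

open CategoryTheory CategoryTheory.Limits AlgebraicGeometry TopologicalSpace Opposite Function TensorProduct

noncomputable section

namespace Groth.Agent.Cube.Seesaw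

open Groth.Agent.QCoh Groth.Agent.Props.GenLocus Groth.Agent.Props.GenTensor Groth.Agent.Props.GenPull

variable {W Z : Scheme.{u}} (π : W ⟶ Z) [IsProper π] [Flat π] [IsLocallyNoetherian Z] {L : W.Modules}

omit [IsProper π] [Flat π] [IsLocallyNoetherian Z] in
theorem fiberRank_eq_of_iso (z : Z) (h : Nonempty (CohIII.fiberMod π L z ≅ Coh.structureModule (π.fiber z))) :
    CohIII.fiberRank π L 0 z = Module.finrank (Z.residueField z) Γ(π.fiber z, ⊤) := by
  obtain ⟨φ⟩ := h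
  let e : CohIII.fiberH π L z 0 ≃+ Γ(π.fiber z, ⊤) :=
    (CohLin.hIso φ 0).toAddEquiv.trans (ProperFin.h0Sec (Coh.structureModule (π.fiber z)))
  let E : CohIII.fiberH π L z 0 ≃ₗ[Z.residueField z] Γ(π.fiber z, ⊤) :=
    { e with
      map_smul' := fun r x => by
        show ProperFin.h0Sec (Coh.structureModule (π.fiber z))
          (CohLin.hIso φ 0 (Coh.toGlobal (π.fiberToSpecResidueField z) r • x)) =
          r • (show Γ(π.fiber z, ⊤) from ProperFin.h0Sec (Coh.structureModule (π.fiber z)) (CohLin.hIso φ 0 x))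
        rw [map_smul, ProperFin.h0Sec_smul]
        rfl }
  exact E.finrank_eq

include π in
theorem exists_section_ne_zero (hL : PicF.IsInvertible L) (hg : CBC.Good π L 0) {V : Z.Opens}
    (hV : IsAffineOpen V) (z : Z) (hz : z ∈ V) (hne : Nontrivial (CohIII.fiberH π L z 0)) :
    ∃ s : Γ(L, π ⁻¹ᵁ V), pb (π.fiberι z) s ≠ 0 := by
  have hC := isCoh_of_invertible hL
  have : L.IsQuasicoherent := hC.1
  obtain ⟨D, hD⟩ := CBC.exists_model_win hC (isFlatOver_of_invertible π hL) finCoh hV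
  obtain ⟨w⟩ := hD 0
  have := w.fp
  obtain ⟨-, hCok⟩ := hg V hV D w
  let g := Z.fromSpecResidueField z
  have hT : ⊤ ≤ g ⁻¹ᵁ V := CBC.fromSpecResidueField_le z hz
  let T := Spec (CommRingCat.of (Z.residueField z))
  let : Algebra Γ(Z, V) Γ(T, ⊤) := (g.appLE V ⊤ hT).hom.toAlgebra
  let B : Type u := Γ(T, ⊤)
  have H : IsPullback (π.fiberι z) (π.fiberToSpecResidueField z) π g := IsPullback.of_hasPullback π g
  have hbij : Bijective ((D.K L).Φ 0 Γ(T, ⊤)) :=
    (w.Φ_bijective_iff Γ(T, ⊤)).mpr (CBC.kerBC_bijective_of_flat w.u Γ(T, ⊤))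
  have hnt : Nontrivial ((D.K L).H Γ(T, ⊤) 0) :=
    (CBC.bcEquiv g (π.fiberι z) (π.fiberToSpecResidueField z) hV D L H hT rfl 0).toEquiv.nontrivial
  by_contra hcon
  push Not at hcon
  obtain ⟨y, hy⟩ := exists_ne (0 : (D.K L).H Γ(T, ⊤) 0)
  obtain ⟨t, rfl⟩ := hbij.2 y
  refine hy ?_
  induction t using TensorProduct.induction_on with
  | zero => exact map_zero _
  | add a b ha hb =>
    rw [map_add]
    by_cases h1 : (D.K L).Φ 0 Γ(T, ⊤) a = 0
    · by_cases h2 : (D.K L).Φ 0 Γ(T, ⊤) b = 0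
      · rw [h1, h2, add_zero]
      · exact absurd (hb h2) h2
    · exact absurd (ha h1) h1
  | tmul b x =>
    rw [CBC.SCx.Φ_tmul]
    obtain ⟨ζ, rfl⟩ := Submodule.Quotient.mk_surjective _ x
    rw [CBC.SCx.Hmap_mk]
    have key : LinearMap.lTensor ((D.K L).X 0) (LinearMap.toSpanSingleton Γ(Z, V) Γ(T, ⊤) b) ζ.1 = 0 := by
      obtain ⟨z₀, hz₀, hζ⟩ : ∃ z₀, (D.K L).d 0 z₀ = 0 ∧ ζ.1 = z₀ ⊗ₜ (1 : Γ(Z, V)) := by
        refine ⟨TensorProduct.rid _ _ ζ.1, ?_, ?_⟩
        · rw [CBC.SCx.rid_d, show ((D.K L).d 0).rTensor Γ(Z, V) ζ.1 = 0 from ζ.2, map_zero]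
        · exact ((TensorProduct.rid _ _).symm_apply_apply ζ.1).symm
      rw [hζ, LinearMap.lTensor_tmul, LinearMap.toSpanSingleton_apply, one_smul]
      have h0 : (b ⊗ₜ[Γ(Z, V)] z₀ : Γ(T, ⊤) ⊗[Γ(Z, V)] (D.K L).X 0) = 0 := by
        refine (CBC.cxBC_bijective π g (π.fiberι z) (π.fiberToSpecResidueField z) hT rfl L D.U D.hU H.w
          H hV (isAffineOpen_top T) D.aff 0).1 ?_
        rw [map_zero]
        funext x
        refine (CBC.cxBCf_tmul π g (π.fiberι z) (π.fiberToSpecResidueField z) hT rfl L D.U D.hU H.w 0 b z₀ x).trans ?_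
        let e := CBC.secEquiv (π.app V).hom D.hU L D.cov
        let s : Γ(L, π ⁻¹ᵁ V) := e.symm ⟨z₀, hz₀⟩
        have hs : z₀ x = QCoh.res L (CBC.inter_le' D.U x D.hU) s :=
          (congrFun (congrArg Subtype.val (e.apply_symm_apply ⟨z₀, hz₀⟩)) x).symm
        rw [hs]
        have h2 : LimTop.unitSec (π.fiberι z) L (CBC.inter_bcCov_le (π.fiberι z) (π.fiberToSpecResidueField z) (UT := (⊤ : T.Opens)) D.U x)
            (QCoh.res L (CBC.inter_le' D.U x D.hU) s) = 0 := by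
          rw [LimTop.unitSec_res, LimTop.unitSec_apply]
          exact (congrArg _ (hcon s)).trans (map_zero _)
        rw [h2]
        exact (CBC.sec_smul _ _ _ _ _).trans (smul_zero (A := Γ((Scheme.Modules.pullback (π.fiberι z)).obj L, _)) _)
      exact (TensorProduct.comm Γ(Z, V) _ _).injective (by rw [TensorProduct.comm_tmul, map_zero]; exact h0)
    refine (Submodule.Quotient.mk_eq_zero _).mpr ?_
    show LinearMap.lTensor ((D.K L).X 0) (LinearMap.toSpanSingleton Γ(Z, V) Γ(T, ⊤) b) ζ.1 ∈ (D.K L).B Γ(T, ⊤) 0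
    rw [key]
    exact zero_mem _

variable [IsReduced Z]

theorem exists_gen_of_fibres (hh : ∀ z : Z, Module.finrank (Z.residueField z) Γ(π.fiber z, ⊤) = 1)
    (hL : PicF.IsInvertible L) (htriv : ∀ z : Z, Nonempty (CohIII.fiberMod π L z ≅ Coh.structureModule (π.fiber z)))
    (z : Z) : ∃ (V : Z.Opens) (_ : z ∈ V) (g : Γ(L, π ⁻¹ᵁ V)), IsGen L (π ⁻¹ᵁ V) g := by
  have hC := isCoh_of_invertible hL
  have hrk : ∀ y, CohIII.fiberRank π L 0 y = 1 := fun y => (fiberRank_eq_of_iso π y (htriv y)).trans (hh y)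
  have hc : IsLocallyConstant (CohIII.fiberRank π L 0) :=
    IsLocallyConstant.of_constant _ fun a b => by rw [hrk, hrk]
  have hgood := CBC.good_of_isLocallyConstant hC (isFlatOver_of_invertible π hL) finCoh hc
  obtain ⟨V, hV, hz, -⟩ := exists_isAffineOpen_mem_and_subset (U := (⊤ : Z.Opens)) (Opens.mem_top z)
  have hne : Nontrivial (CohIII.fiberH π L z 0) :=
    Module.nontrivial_of_finrank_eq_succ (R := Z.residueField z) (n := 0) (hrk z)
  obtain ⟨s, hs⟩ := exists_section_ne_zero π hL hgood hV z hz hne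
  let ι := π.fiberι z
  -- the section generates on the fibre
  have hιV : ∀ y : π.fiber z, π (ι y) = z := fun y => by
    have h := π.range_fiberι z ▸ Set.mem_range_self (f := ι) y
    exact h
  have htop : (⊤ : (π.fiber z).Opens) ≤ ι ⁻¹ᵁ (π ⁻¹ᵁ V) := fun y _ => by
    show π (ι y) ∈ V
    rw [hιV y]; exact hz
  obtain ⟨t, ht⟩ := exists_gen_of_iso (htriv z)
  obtain ⟨a, ha, -⟩ := ht.exists_eq le_rfl (res (CohIII.fiberMod π L z) htop (pb ι s))
  rw [res_self] at ha
  have ha0 : a ≠ 0 := by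
    rintro rfl
    rw [zero_smul] at ha
    refine hs ?_
    have h := congrArg (res (CohIII.fiberMod π L z) (le_top : ι ⁻¹ᵁ (π ⁻¹ᵁ V) ≤ ⊤)) ha
    rwa [res_res, res_self, map_zero] at h
  have hau : IsUnit a := by
    have hsurj := (finrank_eq_one_iff_of_nonzero' (1 : Γ(π.fiber z, ⊤))
      (fun h1 => ha0 (by rw [← mul_one a, h1, mul_zero]))).mp (hh z) a
    obtain ⟨c, hc⟩ := hsurj
    have hc0 : c ≠ 0 := fun h => ha0 (by rw [← hc, h, zero_smul])
    rw [← hc, ← Algebra.algebraMap_eq_smul_one]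
    exact (Ne.isUnit hc0).map _
  have hsgen : IsGen (CohIII.fiberMod π L z) ⊤ (res (CohIII.fiberMod π L z) htop (pb ι s)) :=
    ha ▸ ht.smul_unit hau
  -- the locus where the section generates
  let Ω : W.Opens := sSup {U | ∃ h : U ≤ π ⁻¹ᵁ V, IsGen L U (res L h s)}
  have hfib : ∀ x : W, π x = z → x ∈ Ω := by
    intro x hx
    obtain ⟨U₀, e₀, hxU₀, he₀⟩ := exists_isGen hL x
    let U := U₀ ⊓ π ⁻¹ᵁ V
    have hxV : x ∈ π ⁻¹ᵁ V := by show π x ∈ V; rw [hx]; exact hz
    let e := res L (inf_le_left : U ≤ U₀) e₀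
    have he : IsGen L U e := he₀.restrict _
    obtain ⟨b, hb, -⟩ := he.exists_eq le_rfl (res L (inf_le_right : U ≤ π ⁻¹ᵁ V) s)
    rw [res_self] at hb
    obtain ⟨y, rfl⟩ : ∃ y, ι y = x := by
      have h : x ∈ Set.range ι := by rw [π.range_fiberι z]; exact hx
      exact h
    have hbu : IsUnit (ι.app U b) := by
      have h1 := congrArg (pb ι) hb
      rw [Cube.pb_res, Cube.pb_smul] at h1
      have h2 : IsGen (CohIII.fiberMod π L z) (ι ⁻¹ᵁ U) (res _ (ι.preimage_mono inf_le_right) (pb ι s)) := by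
        have := hsgen.restrict (le_top : ι ⁻¹ᵁ U ≤ ⊤)
        rwa [res_res] at this
      obtain ⟨c, hc, -⟩ := h2.exists_eq le_rfl (pb ι e)
      rw [res_self, h1, smul_smul] at hc
      exact IsUnit.of_mul_eq_one_right c ((isGen_pb ι he).injective le_rfl
        (((one_smul _ _).trans (congrArg (res _ le_rfl) hc)).trans (by rw [res_smul, rres_self]))).symm
    have hxb : ι y ∈ W.basicOpen b := by
      rw [W.mem_basicOpen _ _ (show ι y ∈ U from ⟨hxU₀, hxV⟩)]
      refine isUnit_of_map_unit (ι.stalkMap y).hom _ ?_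
      rw [Scheme.Hom.germ_stalkMap_apply]
      exact hbu.map _
    refine Opens.mem_sSup.mpr ⟨W.basicOpen b, ⟨(W.basicOpen_le b).trans inf_le_right, ?_⟩, hxb⟩
    have h3 := (he.restrict (W.basicOpen_le b)).smul_unit (c := rres (W.basicOpen_le b) b)
      (RingedSpace.isUnit_res_basicOpen _ b)
    have h4 := congrArg (res L (W.basicOpen_le b)) hb
    rw [res_res, res_smul] at h4
    rw [h4]
    exact h3
  let Zbad : Set Z := π '' (Ω : Set W)ᶜ
  have hbad : IsClosed Zbad := π.isClosedMap _ Ω.2.isClosed_compl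
  let V' : Z.Opens := V ⊓ ⟨Zbadᶜ, hbad.isOpen_compl⟩
  have hzV' : z ∈ V' := ⟨hz, fun ⟨x, hx, hxz⟩ => hx (hfib x hxz)⟩
  refine ⟨V', hzV', res L (π.preimage_mono (inf_le_left : V' ≤ V)) s, IsGen.of_local fun x hx => ?_⟩
  have hxΩ : x ∈ Ω := by
    by_contra hn
    exact hx.2 ⟨x, hn, rfl⟩
  obtain ⟨U, ⟨hU, hgen⟩, hxU⟩ := Opens.mem_sSup.mp hxΩ
  refine ⟨U ⊓ π ⁻¹ᵁ V', inf_le_right, ⟨hxU, hx⟩, ?_⟩
  have h5 := hgen.restrict (inf_le_left : U ⊓ π ⁻¹ᵁ V' ≤ U)
  rw [res_res] at h5 ⊢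
  exact h5

end Groth.Agent.Cube.Seesaw
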