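import Mathlib.LinearAlgebra.TensorProduct.Pi
import Mathlib.LinearAlgebra.Basis.VectorSpace
import Mathlib.LinearAlgebra.Dimension.LinearMap

/-!
# The linear algebra behind the theorem of the cube

If a "bigraded cocycle" on a product of two covers is a coboundary on the two slices, and the
global functions on the first factor are constants, then it is a coboundary.  No finiteness of
cohomology is used.
-/

set_option autoImplicit false

universe u

open scoped TensorProduct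

namespace Groth.Agent.Cube.Alg

variable {k : Type u} [Field k]

theorem exists_factor {V V' V'' : Type*} [AddCommGroup V] [Module k V] [AddCommGroup V'] [Module k V']
    [AddCommGroup V''] [Module k V''] (f : V →ₗ[k] V') (g : V →ₗ[k] V'')
    (h : ∀ x, f x = 0 → g x = 0) : ∃ H : V' →ₗ[k] V'', H ∘ₗ f = g := by
  have hker : LinearMap.ker f ≤ LinearMap.ker g := fun x hx => h x hx
  let g' : LinearMap.range f →ₗ[k] V'' :=
    (Submodule.liftQ _ g hker) ∘ₗ f.quotKerEquivRange.symm.toLinearMap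
  obtain ⟨H, hH⟩ := g'.exists_extend
  refine ⟨H, LinearMap.ext fun x => ?_⟩
  have := LinearMap.congr_fun hH ⟨f x, LinearMap.mem_range_self f x⟩
  simp only [LinearMap.comp_apply, Submodule.subtype_apply, g', LinearEquiv.coe_toLinearMap] at this
  rw [LinearMap.comp_apply, this, f.quotKerEquivRange_symm_apply_image x, Submodule.mkQ_apply,
    Submodule.liftQ_apply]

theorem exists_ginv {V V' : Type*} [AddCommGroup V] [Module k V] [AddCommGroup V'] [Module k V']
    (f : V →ₗ[k] V') : ∃ G : V' →ₗ[k] V, ∀ x, f (G (f x)) = f x := by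
  obtain ⟨G₀, hG₀⟩ := f.rangeRestrict.exists_rightInverse_of_surjective f.range_rangeRestrict
  obtain ⟨G, hG⟩ := G₀.exists_extend
  refine ⟨G, fun x => ?_⟩
  have h1 : G (f x) = G₀ (f.rangeRestrict x) := LinearMap.congr_fun hG (f.rangeRestrict x)
  rw [h1]
  exact congrArg Subtype.val (LinearMap.congr_fun hG₀ (f.rangeRestrict x))

variable {ι κ : Type*} [Finite ι] [Finite κ]
  {A : ι → Type u} [∀ i, AddCommGroup (A i)] [∀ i, Module k (A i)]
  {A2 : ι → ι → Type u} [∀ i j, AddCommGroup (A2 i j)] [∀ i j, Module k (A2 i j)]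
  {Q0 : κ → Type u} [∀ a, AddCommGroup (Q0 a)] [∀ a, Module k (Q0 a)]
  {Q1 : κ → κ → Type u} [∀ a b, AddCommGroup (Q1 a b)] [∀ a b, Module k (Q1 a b)]

theorem eq_zero_of_compatible (s1 : ∀ i j, A i →ₗ[k] A2 i j) (s2 : ∀ i j, A j →ₗ[k] A2 i j)
    (one : ∀ i, A i) (hker : ∀ a : ∀ i, A i, (∀ i j, s1 i j (a i) = s2 i j (a j)) → ∃ c : k, a = c • one)
    (i₀ : ι) (φ : A i₀ →ₗ[k] k) (hφ : φ (one i₀) = 1)
    {Q : Type*} [AddCommGroup Q] [Module k Q] (ξ : ∀ i, A i ⊗[k] Q)
    (hξ : ∀ i j, (s1 i j).rTensor Q (ξ i) = (s2 i j).rTensor Q (ξ j))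
    (h0 : TensorProduct.lid k Q (φ.rTensor Q (ξ i₀)) = 0) (i : ι) : ξ i = 0 := by
  classical
  have := Fintype.ofFinite ι
  let D : (∀ i, A i) →ₗ[k] (∀ p : ι × ι, A2 p.1 p.2) :=
    LinearMap.pi fun p => (s1 p.1 p.2) ∘ₗ LinearMap.proj p.1 - (s2 p.1 p.2) ∘ₗ LinearMap.proj p.2
  let Φ : (∀ i, A i) →ₗ[k] k := φ ∘ₗ LinearMap.proj i₀
  let E : (∀ i, A i) →ₗ[k] (∀ i, A i) := LinearMap.id - Φ.smulRight one
  obtain ⟨H, hH⟩ := exists_factor D E (fun a ha => by
    obtain ⟨c, rfl⟩ := hker a fun i j => by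
      have := congrFun ha (i, j)
      simpa [D, sub_eq_zero] using this
    simp [E, Φ, hφ])
  let e := TensorProduct.piLeft k Q A
  let x : (∀ i, A i) ⊗[k] Q := e.symm ξ
  have hproj : ∀ i, (LinearMap.proj i : (∀ i, A i) →ₗ[k] A i).rTensor Q x = ξ i := fun i => by
    have key : ∀ y, (LinearMap.proj i : (∀ i, A i) →ₗ[k] A i).rTensor Q y = e y i := fun y => by
      induction y using TensorProduct.induction_on with
      | zero => simp
      | tmul a q => simp [e]
      | add y z hy hz => simp [hy, hz]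
    rw [key, e.apply_symm_apply]
  have hD : D.rTensor Q x = 0 := by
    refine (TensorProduct.piLeft k Q (fun p : ι × ι => A2 p.1 p.2)).injective ?_
    rw [map_zero]
    funext p
    have key : ∀ y, TensorProduct.piLeft k Q (fun p : ι × ι => A2 p.1 p.2) (D.rTensor Q y) p =
        (s1 p.1 p.2).rTensor Q ((LinearMap.proj p.1 : (∀ i, A i) →ₗ[k] A p.1).rTensor Q y) -
          (s2 p.1 p.2).rTensor Q ((LinearMap.proj p.2 : (∀ i, A i) →ₗ[k] A p.2).rTensor Q y) :=
      fun y => by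
      induction y using TensorProduct.induction_on with
      | zero => simp
      | tmul a q => simp [D, TensorProduct.sub_tmul]
      | add y z hy hz => simp only [map_add, Pi.add_apply, hy, hz]; abel
    rw [key, hproj, hproj, hξ, sub_self, Pi.zero_apply]
  have hΦ : TensorProduct.lid k Q (Φ.rTensor Q x) = 0 := by
    rw [show Φ = φ ∘ₗ LinearMap.proj i₀ from rfl, LinearMap.rTensor_comp_apply, hproj, h0]
  have hx : E.rTensor Q x = 0 := by
    rw [← hH, LinearMap.rTensor_comp_apply, hD, map_zero]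
  have hE : ∀ y, E.rTensor Q y = y - one ⊗ₜ[k] TensorProduct.lid k Q (Φ.rTensor Q y) := fun y => by
    induction y using TensorProduct.induction_on with
    | zero => simp
    | tmul a q => simp [E, TensorProduct.sub_tmul, TensorProduct.smul_tmul]
    | add y z hy hz => simp only [map_add, TensorProduct.tmul_add, hy, hz]; abel
  rw [hE, hΦ, TensorProduct.tmul_zero, sub_zero] at hx
  rw [← hproj, hx, map_zero]

/-- **The key lemma.** -/
theorem exists_potential (s1 : ∀ i j, A i →ₗ[k] A2 i j) (s2 : ∀ i j, A j →ₗ[k] A2 i j)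
    (one : ∀ i, A i) (hker : ∀ a : ∀ i, A i, (∀ i j, s1 i j (a i) = s2 i j (a j)) → ∃ c : k, a = c • one)
    (i₀ : ι) (φ : A i₀ →ₗ[k] k) (hφ : φ (one i₀) = 1)
    (t1 : ∀ a b, Q0 a →ₗ[k] Q1 a b) (t2 : ∀ a b, Q0 b →ₗ[k] Q1 a b)
    {W : Type u} [AddCommGroup W] [Module k W] (inc : ∀ a, W →ₗ[k] Q0 a)
    (hinc : ∀ a b w, t1 a b (inc a w) = t2 a b (inc b w))
    (hkerQ : ∀ q : ∀ a, Q0 a, (∀ a b, t1 a b (q a) = t2 a b (q b)) → ∃ w, ∀ a, inc a w = q a)
    (a₀ : κ) (ψ : Q0 a₀ →ₗ[k] W) (hψ : ∀ w, ψ (inc a₀ w) = w)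
    (f : ∀ i a b, A i ⊗[k] Q1 a b) (g : ∀ i j a, A2 i j ⊗[k] Q0 a)
    (hrel : ∀ i j a b, (s1 i j).rTensor _ (f i a b) - (s2 i j).rTensor _ (f j a b) =
      (t1 a b).lTensor _ (g i j a) - (t2 a b).lTensor _ (g i j b))
    (hx : ∃ e : ∀ a, Q0 a, ∀ a b,
      TensorProduct.lid k _ (φ.rTensor _ (f i₀ a b)) = t1 a b (e a) - t2 a b (e b))
    (hy : ∃ e : ∀ i, A i ⊗[k] W, ∀ i j,
      ψ.lTensor _ (g i j a₀) = (s1 i j).rTensor _ (e i) - (s2 i j).rTensor _ (e j)) :
    ∃ h : ∀ i a, A i ⊗[k] Q0 a,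
      (∀ i a b, (t1 a b).lTensor _ (h i a) - (t2 a b).lTensor _ (h i b) = f i a b) ∧
      (∀ i j a, (s1 i j).rTensor _ (h i a) - (s2 i j).rTensor _ (h j a) = g i j a) := by
  classical
  have := Fintype.ofFinite κ
  let δ : (∀ a, Q0 a) →ₗ[k] (∀ p : κ × κ, Q1 p.1 p.2) :=
    LinearMap.pi fun p => (t1 p.1 p.2) ∘ₗ LinearMap.proj p.1 - (t2 p.1 p.2) ∘ₗ LinearMap.proj p.2
  obtain ⟨G, hG⟩ := exists_ginv δ
  let P : (∀ p : κ × κ, Q1 p.1 p.2) →ₗ[k] (∀ p : κ × κ, Q1 p.1 p.2) := LinearMap.id - δ ∘ₗ G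
  have hPδ : ∀ x, P (δ x) = 0 := fun x => by simp [P, hG]
  let Inc : W →ₗ[k] (∀ a, Q0 a) := LinearMap.pi inc
  let Ψ : (∀ a, Q0 a) →ₗ[k] W := ψ ∘ₗ LinearMap.proj a₀
  have hδInc : δ ∘ₗ Inc = 0 := by
    refine LinearMap.ext fun w => funext fun p => ?_
    simp [δ, Inc, hinc]
  obtain ⟨H, hH⟩ := exists_factor δ (LinearMap.id - Inc ∘ₗ Ψ) (fun q hq => by
    obtain ⟨w, hw⟩ := hkerQ q fun a b => by
      have := congrFun hq (a, b)
      simpa [δ, sub_eq_zero] using this
    have hq' : q = Inc w := funext fun a => (hw a).symm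
    simp [hq', Inc, Ψ, hψ])
  let e1 : ∀ (M : Type u) [AddCommGroup M] [Module k M], M ⊗[k] (∀ p : κ × κ, Q1 p.1 p.2) ≃ₗ[k] (∀ p : κ × κ, M ⊗[k] Q1 p.1 p.2) :=
    fun M _ _ => TensorProduct.piRight k k M _
  let F : ∀ i, A i ⊗[k] (∀ p : κ × κ, Q1 p.1 p.2) := fun i => (e1 (A i)).symm fun p => f i p.1 p.2
  let G' : ∀ i j, A2 i j ⊗[k] (∀ a, Q0 a) := fun i j => (TensorProduct.piRight k k (A2 i j) Q0).symm fun a => g i j a
  have hF : ∀ i (p : κ × κ), (LinearMap.proj p : (∀ p : κ × κ, Q1 p.1 p.2) →ₗ[k] _).lTensor (A i) (F i) = f i p.1 p.2 := fun i p => by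
    have key : ∀ y, (LinearMap.proj p : (∀ p : κ × κ, Q1 p.1 p.2) →ₗ[k] _).lTensor (A i) y = e1 (A i) y p := fun y => by
      induction y using TensorProduct.induction_on with
      | zero => simp
      | tmul a q => simp [e1]
      | add y z hy hz => simp [hy, hz]
    rw [key, (e1 (A i)).apply_symm_apply]
  have hG' : ∀ i j a, (LinearMap.proj a : (∀ a, Q0 a) →ₗ[k] _).lTensor (A2 i j) (G' i j) = g i j a := fun i j a => by
    have key : ∀ y, (LinearMap.proj a : (∀ a, Q0 a) →ₗ[k] _).lTensor (A2 i j) y =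
        TensorProduct.piRight k k (A2 i j) Q0 y a := fun y => by
      induction y using TensorProduct.induction_on with
      | zero => simp
      | tmul a q => simp
      | add y z hy hz => simp [hy, hz]
    rw [key, LinearEquiv.apply_symm_apply]
  -- extensionality for elements of `M ⊗ (∀ p : κ × κ, Q1 p.1 p.2)`
  have ext1 : ∀ (M : Type u) [AddCommGroup M] [Module k M] (y z : M ⊗[k] (∀ p : κ × κ, Q1 p.1 p.2)),
      (∀ p, (LinearMap.proj p : (∀ p : κ × κ, Q1 p.1 p.2) →ₗ[k] _).lTensor M y = (LinearMap.proj p : (∀ p : κ × κ, Q1 p.1 p.2) →ₗ[k] _).lTensor M z) → y = z := by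
    intro M _ _ y z h
    refine (e1 M).injective (funext fun p => ?_)
    have key : ∀ y, (LinearMap.proj p : (∀ p : κ × κ, Q1 p.1 p.2) →ₗ[k] _).lTensor M y = e1 M y p := fun y => by
      induction y using TensorProduct.induction_on with
      | zero => simp
      | tmul a q => simp [e1]
      | add y z hy hz => simp [hy, hz]
    rw [← key, ← key, h]
  have hproj_δ : ∀ (M : Type u) [AddCommGroup M] [Module k M] (p : κ × κ) (y : M ⊗[k] (∀ a, Q0 a)),
      (LinearMap.proj p : (∀ p : κ × κ, Q1 p.1 p.2) →ₗ[k] _).lTensor M (δ.lTensor M y) =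
        (t1 p.1 p.2).lTensor M ((LinearMap.proj p.1 : (∀ a, Q0 a) →ₗ[k] _).lTensor M y) -
          (t2 p.1 p.2).lTensor M ((LinearMap.proj p.2 : (∀ a, Q0 a) →ₗ[k] _).lTensor M y) := by
    intro M _ _ p y
    induction y using TensorProduct.induction_on with
    | zero => simp
    | tmul a q => simp [δ, TensorProduct.tmul_sub]
    | add y z hy hz => simp only [map_add, hy, hz]; abel
  have hrel' : ∀ i j, (s1 i j).rTensor (∀ p : κ × κ, Q1 p.1 p.2) (F i) - (s2 i j).rTensor (∀ p : κ × κ, Q1 p.1 p.2) (F j) = δ.lTensor _ (G' i j) := by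
    intro i j
    refine ext1 _ _ _ fun p => ?_
    rw [hproj_δ, hG', hG', ← hrel, map_sub, ← hF i p, ← hF j p]
    simp only [← LinearMap.comp_apply, LinearMap.lTensor_comp_rTensor, LinearMap.rTensor_comp_lTensor]
  -- the classes vanish
  have hξ : ∀ i, P.lTensor (A i) (F i) = 0 := by
    obtain ⟨e, he⟩ := hx
    refine eq_zero_of_compatible s1 s2 one hker i₀ φ hφ (fun i => P.lTensor (A i) (F i)) (fun i j => ?_) ?_
    · have h := congrArg (P.lTensor (A2 i j)) (hrel' i j)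
      rw [← LinearMap.lTensor_comp_apply,
        show P ∘ₗ δ = 0 from LinearMap.ext hPδ, LinearMap.lTensor_zero, LinearMap.zero_apply, map_sub,
        sub_eq_zero] at h
      simpa only [← LinearMap.comp_apply, LinearMap.lTensor_comp_rTensor, LinearMap.rTensor_comp_lTensor] using h
    · have h1 : ∀ y : A i₀ ⊗[k] (∀ p : κ × κ, Q1 p.1 p.2), TensorProduct.lid k (∀ p : κ × κ, Q1 p.1 p.2) (φ.rTensor (∀ p : κ × κ, Q1 p.1 p.2) (P.lTensor _ y)) =
          P (TensorProduct.lid k (∀ p : κ × κ, Q1 p.1 p.2) (φ.rTensor (∀ p : κ × κ, Q1 p.1 p.2) y)) := fun y => by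
        induction y using TensorProduct.induction_on with
        | zero => simp
        | tmul a q => simp
        | add y z hy hz => simp [hy, hz]
      have h2 : ∀ (p : κ × κ) (y : A i₀ ⊗[k] (∀ p : κ × κ, Q1 p.1 p.2)), TensorProduct.lid k (∀ p : κ × κ, Q1 p.1 p.2) (φ.rTensor (∀ p : κ × κ, Q1 p.1 p.2) y) p =
          TensorProduct.lid k _ (φ.rTensor _ ((LinearMap.proj p : (∀ p : κ × κ, Q1 p.1 p.2) →ₗ[k] _).lTensor _ y)) := fun p y => by
        induction y using TensorProduct.induction_on with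
        | zero => simp
        | tmul a q => simp
        | add y z hy hz => simp [hy, hz]
      have h3 : TensorProduct.lid k (∀ p : κ × κ, Q1 p.1 p.2) (φ.rTensor (∀ p : κ × κ, Q1 p.1 p.2) (F i₀)) = δ e := funext fun p => by
        rw [h2, hF, he]; simp [δ]
      rw [h1, h3, hPδ]
  let h0 : ∀ i, A i ⊗[k] (∀ a, Q0 a) := fun i => G.lTensor (A i) (F i)
  have hh0 : ∀ i, δ.lTensor (A i) (h0 i) = F i := fun i => by
    have := hξ i
    rw [show P = LinearMap.id - δ ∘ₗ G from rfl, LinearMap.lTensor_sub, LinearMap.sub_apply,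
      LinearMap.lTensor_id, LinearMap.id_apply, LinearMap.lTensor_comp_apply, sub_eq_zero] at this
    exact this.symm
  obtain ⟨e, he⟩ := hy
  let e' : ∀ i, A i ⊗[k] W := fun i => e i - Ψ.lTensor _ (h0 i)
  let h : ∀ i, A i ⊗[k] (∀ a, Q0 a) := fun i => h0 i + Inc.lTensor _ (e' i)
  have hh : ∀ i, δ.lTensor (A i) (h i) = F i := fun i => by
    simp only [h, map_add, hh0, ← LinearMap.lTensor_comp_apply, hδInc, LinearMap.lTensor_zero,
      LinearMap.zero_apply, add_zero]
  have hhg : ∀ i j, (s1 i j).rTensor (∀ a, Q0 a) (h i) - (s2 i j).rTensor (∀ a, Q0 a) (h j) = G' i j := by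
    intro i j
    let z := G' i j - ((s1 i j).rTensor (∀ a, Q0 a) (h0 i) - (s2 i j).rTensor (∀ a, Q0 a) (h0 j))
    have hz : δ.lTensor _ z = 0 := by
      simp only [z, map_sub, ← hrel', ← LinearMap.comp_apply, LinearMap.lTensor_comp_rTensor,
        ← LinearMap.rTensor_comp_lTensor]
      simp only [LinearMap.comp_apply, hh0, sub_self]
    have hz' : z = Inc.lTensor _ (Ψ.lTensor _ z) := by
      have : (LinearMap.id - Inc ∘ₗ Ψ).lTensor _ z = 0 := by
        rw [← hH, LinearMap.lTensor_comp_apply, hz, map_zero]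
      rwa [LinearMap.lTensor_sub, LinearMap.sub_apply, LinearMap.lTensor_id, LinearMap.id_apply,
        LinearMap.lTensor_comp_apply, sub_eq_zero] at this
    have hΨ : Ψ.lTensor _ z = (s1 i j).rTensor W (e' i) - (s2 i j).rTensor W (e' j) := by
      have hg : Ψ.lTensor _ (G' i j) = (s1 i j).rTensor W (e i) - (s2 i j).rTensor W (e j) := by
        rw [show Ψ = ψ ∘ₗ LinearMap.proj a₀ from rfl, LinearMap.lTensor_comp_apply, hG', he]
      simp only [z, e', map_sub, hg, ← LinearMap.comp_apply, LinearMap.lTensor_comp_rTensor,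
        LinearMap.rTensor_comp_lTensor]
      abel
    have hfin : G' i j = z + ((s1 i j).rTensor (∀ a, Q0 a) (h0 i) - (s2 i j).rTensor (∀ a, Q0 a) (h0 j)) :=
      (sub_add_cancel _ _).symm
    rw [hfin, hz', hΨ]
    simp only [h, map_add, map_sub, ← LinearMap.comp_apply, LinearMap.lTensor_comp_rTensor,
      LinearMap.rTensor_comp_lTensor]
    abel
  refine ⟨fun i a => (LinearMap.proj a : (∀ a, Q0 a) →ₗ[k] _).lTensor _ (h i), fun i a b => ?_, fun i j a => ?_⟩
  · rw [← hF i (a, b), ← hh, hproj_δ]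
  · rw [← hG', ← hhg, map_sub]
    simp only [← LinearMap.comp_apply, LinearMap.lTensor_comp_rTensor, LinearMap.rTensor_comp_lTensor]

end Groth.Agent.Cube.Alg
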