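import Groth.Agent.Cube.Util
import Groth.Agent.Cube.Alg

/-!
# Deformation step in the theorem of the cube

An invertible module on `X × Q`, trivial modulo a square-zero thickening of `Q` and on the slices
`x₀ × Q` and `X × σ(T)`, is trivial, provided `H⁰(X) = k` and `H⁰(Q) = H⁰(T)`.
-/

set_option autoImplicit false
universe u

open CategoryTheory CategoryTheory.Limits MonoidalCategory CartesianMonoidalCategory AlgebraicGeometry
open TopologicalSpace
open scoped TensorProduct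

noncomputable section

namespace Groth.Agent.Cube

open Groth.Agent.QCoh Groth.Agent.Props.GenLocus

variable {k : Type u} [Field k]

theorem exists_cover_affine (S : Scheme.{u}) [CompactSpace S] {U₀ : S.Opens} (hU₀ : IsAffineOpen U₀) :
    ∃ (ι : Type u) (_ : Finite ι) (U : ι → S.Opens) (i₀ : ι), (∀ i, IsAffineOpen (U i)) ∧
      (∀ x, ∃ i, x ∈ U i) ∧ U i₀ = U₀ := by
  obtain ⟨I, hI, e⟩ := (isCompact_iff_finite_and_eq_biUnion_affineOpens (U := (⊤ : S.Opens))).mp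
    CompactSpace.isCompact_univ
  have := hI.to_subtype
  refine ⟨Option I, inferInstance, fun o => o.elim U₀ fun j => j.1.1, none, ?_, fun x => ?_, rfl⟩
  · rintro (_ | j)
    · exact hU₀
    · exact j.1.2
  · have hx : x ∈ (⊤ : S.Opens) := Opens.mem_top x
    rw [e] at hx
    simp only [Opens.mem_iSup] at hx
    obtain ⟨j, hj, hxj⟩ := hx
    exact ⟨some ⟨j, hj⟩, hxj⟩

theorem exists_glue_fun {S : Scheme.{u}} {ι : Type u} {U : ι → S.Opens} (hU : ∀ x, ∃ i, x ∈ U i)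
    (a : ∀ i, Γ(S, U i)) (h : ∀ i j, rres inf_le_left (a i) = rres (inf_le_right : U i ⊓ U j ≤ U j) (a j)) :
    ∃ g : Γ(S, ⊤), ∀ i, rres le_top g = a i := by
  obtain ⟨g, hg, -⟩ := TopCat.Sheaf.existsUnique_gluing' S.sheaf U ⊤ (fun i => homOfLE le_top)
    (fun x _ => Opens.mem_iSup.mpr (hU x)) a h
  exact ⟨g, hg⟩

theorem eq_of_local_fun {S : Scheme.{u}} {ι : Type u} {U : ι → S.Opens} {V : S.Opens} (hle : ∀ i, U i ≤ V)
    (hU : ∀ x ∈ V, ∃ i, x ∈ U i) (a b : Γ(S, V)) (h : ∀ i, rres (hle i) a = rres (hle i) b) : a = b :=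
  TopCat.Sheaf.eq_of_locally_eq' S.sheaf U V (fun i => homOfLE (hle i))
    (fun x hx => Opens.mem_iSup.mpr (hU x hx)) a b h

theorem add_one_mul_of_mul_eq_zero {R : Type u} [CommRing R] {a b : R} (h : a * b = 0) :
    (1 + a) * (1 + b) = 1 + (a + b) := by
  calc (1 + a) * (1 + b) = 1 + (a + b) + a * b := by ring
    _ = 1 + (a + b) := by rw [h, add_zero]

variable {X Q Q₀ T T₀ : Over (Spec (CommRingCat.of k))}

/-- The slice condition at the rational point of `X`. -/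
theorem exists_slice_x (x₀ : 𝟙_ (Over (Spec (CommRingCat.of k))) ⟶ X) [IsSeparated Q.hom]
    (iQ : Q₀ ⟶ Q) [IsClosedImmersion iQ.left] [Surjective iQ.left]
    (hsq : ∀ V : Q.left.Opens, IsAffineOpen V → ∀ a b, a ∈ K iQ V → b ∈ K iQ V → a * b = 0)
    [IsAffine T.left] (iT : T₀ ⟶ T) [IsClosedImmersion iT.left] [Surjective iT.left]
    (π : Q ⟶ T) (π₀ : Q₀ ⟶ T₀) (hπ : iQ ≫ π = π₀ ≫ iT)
    (hπ₀b : Function.Surjective (pull π₀ ⊤ ⊤ (fun _ _ => trivial)))
    {U₀ : X.left.Opens} (hx₀ : ⊤ ≤ x₀.left ⁻¹ᵁ U₀) {κ : Type u} (V : κ → Q.left.Opens)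
    (hV : ∀ a, IsAffineOpen (V a)) (hVcov : ∀ x, ∃ a, x ∈ V a)
    (v : ∀ a, Γ(Q.left, V a)) (hv : ∀ a, IsUnit (v a))
    (f : ∀ a b, Γ(X.left, U₀) ⊗[k] K iQ (V a ⊓ V b))
    (hf : ∀ a b, (1 + (TensorProduct.lid k _ ((evPt x₀ U₀ hx₀).toLinearMap.rTensor _ (f a b))).1) *
        rres inf_le_right (v b) = rres inf_le_left (v a)) :
    ∃ e : ∀ a, K iQ (V a), ∀ a b, TensorProduct.lid k _ ((evPt x₀ U₀ hx₀).toLinearMap.rTensor _ (f a b)) =
      kres (V a) (V a ⊓ V b) inf_le_left (e a) - kres (V b) (V a ⊓ V b) inf_le_right (e b) := by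
  set c := fun a b => TensorProduct.lid k _ ((evPt x₀ U₀ hx₀).toLinearMap.rTensor _ (f a b)) with hc
  have hc0 : ∀ a b, pull iQ (V a ⊓ V b) (iQ.left ⁻¹ᵁ (V a ⊓ V b)) le_rfl (c a b).1 = 0 := fun a b => (c a b).2
  -- the units modulo the thickening glue
  have hcomp : ∀ a b, rres inf_le_left (pull iQ (V a) (iQ.left ⁻¹ᵁ V a) le_rfl (v a)) =
      rres (inf_le_right : iQ.left ⁻¹ᵁ V a ⊓ iQ.left ⁻¹ᵁ V b ≤ iQ.left ⁻¹ᵁ V b)
        (pull iQ (V b) (iQ.left ⁻¹ᵁ V b) le_rfl (v b)) := by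
    intro a b
    have h1 := congrArg (pull iQ (V a ⊓ V b) (iQ.left ⁻¹ᵁ (V a ⊓ V b)) le_rfl) (hf a b)
    rw [map_mul, map_add, map_one, hc0, add_zero, one_mul, pull_rres, pull_rres] at h1
    rw [rres_pull, rres_pull]
    exact h1.symm
  obtain ⟨w₀, hw₀⟩ := exists_glue_fun (fun x => hVcov (iQ.left x)) _ hcomp
  have hw₀u : IsUnit w₀ :=
    isUnit_of_local _ (fun _ => le_top) (fun x _ => hVcov (iQ.left x)) w₀ fun a => by
      rw [hw₀ a]; exact (hv a).map _
  obtain ⟨t₀, ht₀⟩ := hπ₀b w₀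
  obtain ⟨t, ht⟩ := iT.left.app_surjective ⊤ (isAffineOpen_top _) t₀
  have hw : pull iQ ⊤ ⊤ (fun _ _ => trivial) (pull π ⊤ ⊤ (fun _ _ => trivial) t) = w₀ := by
    rw [← ht₀, pull_pull, pull_congr hπ, ← pull_pull π₀ iT (U := ⊤) (V := ⊤) (V' := ⊤) (fun _ _ => trivial) (fun _ _ => trivial)]
    congr 1
    rw [pull_eq_rres_app, ← ht]
    exact rres_self _ _
  let w := pull π ⊤ ⊤ (fun _ _ => trivial) t
  have hwu : IsUnit w := isUnit_of_app iQ.left w (by
    have : iQ.left.app ⊤ w = w₀ := by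
      rw [← hw, pull_eq_rres_app]
      exact (rres_self _ _).symm
    rw [this]; exact hw₀u)
  obtain ⟨wi, hwi⟩ := hwu.exists_right_inv
  have hmem : ∀ a, v a * rres le_top wi - 1 ∈ K iQ (V a) := fun a => by
    show pull iQ (V a) (iQ.left ⁻¹ᵁ V a) le_rfl (v a * rres le_top wi - 1) = 0
    have h1 : pull iQ (V a) (iQ.left ⁻¹ᵁ V a) le_rfl (rres le_top w) =
        pull iQ (V a) (iQ.left ⁻¹ᵁ V a) le_rfl (v a) := by
      rw [pull_rres, ← hw₀ a, ← hw, rres_pull]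
    rw [map_sub, map_one, map_mul, ← h1, ← map_mul, ← map_mul, hwi, map_one, map_one, sub_self]
  refine ⟨fun a => ⟨_, hmem a⟩, fun a b => Subtype.ext ?_⟩
  show (c a b).1 = (kres _ _ _ _).1 - (kres _ _ _ _).1
  set ea := (kres (V a) (V a ⊓ V b) inf_le_left (⟨_, hmem a⟩ : K iQ (V a))).1 with hea
  set eb := (kres (V b) (V a ⊓ V b) inf_le_right (⟨_, hmem b⟩ : K iQ (V b))).1 with heb
  have hprod : (c a b).1 * eb = 0 :=
    hsq _ (isAffineOpen_inf Q (hV a) (hV b)) _ _ (c a b).2 (kres _ _ _ _).2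
  have h2 : (1 + (c a b).1) * (1 + eb) = 1 + ea := by
    rw [hea, heb, kres_val, kres_val]
    simp only [map_sub, map_one, map_mul, add_sub_cancel]
    rw [← mul_assoc, hf a b]
    simp only [rres_rres]
  rw [add_one_mul_of_mul_eq_zero hprod] at h2
  exact eq_sub_of_add_eq (add_left_cancel h2)

/-- The slice condition along `σ`. -/
theorem exists_slice_y [IsSeparated X.hom] (x₀ : 𝟙_ (Over (Spec (CommRingCat.of k))) ⟶ X)
    [IsAffine T.left] [IsAffine T₀.left] (iT : T₀ ⟶ T) [IsClosedImmersion iT.left] [Surjective iT.left]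
    (hsqT : ∀ a b, a ∈ K iT ⊤ → b ∈ K iT ⊤ → a * b = 0)
    {ι : Type u} [Finite ι] (U : ι → X.left.Opens) (hU : ∀ i, IsAffineOpen (U i))
    (hker : ∀ a : ∀ i, Γ(X.left, U i), (∀ i j, (pull (𝟙 X) (U i) (U i ⊓ U j) (le_id inf_le_left)).toLinearMap (a i) =
      (pull (𝟙 X) (U j) (U i ⊓ U j) (le_id inf_le_right)).toLinearMap (a j)) → ∃ c : k, a = c • fun _ => 1)
    (i₀ : ι) (hx₀ : ⊤ ≤ x₀.left ⁻¹ᵁ U i₀)
    (v : ∀ i, Γ((X ⊗ T).left, box (U i) ⊤)) (hv : ∀ i, IsUnit (v i))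
    (g : ∀ i j, Γ(X.left, U i ⊓ U j) ⊗[k] K iT ⊤)
    (hg : ∀ i j, (1 + emb iT (U i ⊓ U j) ⊤ (g i j)) * rres (box_mono inf_le_right le_rfl) (v j) =
      rres (box_mono inf_le_left le_rfl) (v i)) :
    ∃ e : ∀ i, Γ(X.left, U i) ⊗[k] K iT ⊤, ∀ i j,
      g i j = (pull (𝟙 X) (U i) (U i ⊓ U j) (le_id inf_le_left)).toLinearMap.rTensor _ (e i) -
        (pull (𝟙 X) (U j) (U i ⊓ U j) (le_id inf_le_right)).toLinearMap.rTensor _ (e j) := by
  have hT : IsAffineOpen (⊤ : T.left.Opens) := isAffineOpen_top _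
  have hT₀ : IsAffineOpen (⊤ : T₀.left.Opens) := isAffineOpen_top _
  have hle : ∀ U : X.left.Opens, box U (⊤ : T₀.left.Opens) ≤ (X ◁ iT).left ⁻¹ᵁ box U ⊤ :=
    fun U => (preimage_box iT U ⊤).ge
  let vb : ∀ i, Γ((X ⊗ T₀).left, box (U i) ⊤) := fun i => pull (X ◁ iT) _ _ (hle (U i)) (v i)
  choose z hz using fun i => (bijective_mulMap (hU i) hT₀).2 (vb i)
  let η := TensorProduct.lid k _ ((evPt x₀ (U i₀) hx₀).toLinearMap.rTensor _ (z i₀))
  have hres : ∀ {U U' : X.left.Opens} (h : U' ≤ U) (y : Γ(X.left, U) ⊗[k] Γ(T₀.left, ⊤)),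
      rres (box_mono h le_rfl) (mulMap U ⊤ y) =
        mulMap U' ⊤ ((pull (𝟙 X) U U' (le_id h)).toLinearMap.rTensor _ y) := by
    intro U U' h y
    rw [← pull_id, pull_mulMap (𝟙 X) (𝟙 T₀) (𝟙 _) (by simp) (by simp) (le_id h) (le_id le_rfl)
      (le_id (box_mono h le_rfl))]
    congr 1
    induction y using TensorProduct.induction_on with
    | zero => simp only [map_zero]
    | add y y' hy hy' => simp only [map_add, hy, hy']
    | tmul a b =>
      rw [Algebra.TensorProduct.map_tmul, LinearMap.rTensor_tmul, pull_id (A := T₀) _ _ le_rfl, rres_self]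
      rfl
  have hzc : ∀ i j, (pull (𝟙 X) (U i) (U i ⊓ U j) (le_id inf_le_left)).toLinearMap.rTensor _ (z i) =
      (pull (𝟙 X) (U j) (U i ⊓ U j) (le_id inf_le_right)).toLinearMap.rTensor _ (z j) := by
    intro i j
    refine (bijective_mulMap (isAffineOpen_inf X (hU i) (hU j)) hT₀).1 ?_
    rw [← hres (inf_le_left : U i ⊓ U j ≤ U i), ← hres (inf_le_right : U i ⊓ U j ≤ U j), hz, hz, rres_pull, rres_pull]
    have h1 := congrArg (pull (X ◁ iT) _ _ (hle (U i ⊓ U j))) (hg i j)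
    have h2 : pull (X ◁ iT) _ _ (hle (U i ⊓ U j)) (emb iT (U i ⊓ U j) ⊤ (g i j)) = 0 := by
      induction g i j using TensorProduct.induction_on with
      | zero => simp only [map_zero]
      | add y y' hy hy' => simp only [map_add, hy, hy', add_zero]
      | tmul a x =>
        rw [emb_tmul, pull_mulMap (𝟙 X) iT (X ◁ iT) (by simp) (by simp) (le_id le_rfl) (V := ⊤) (V' := ⊤) (fun _ _ => trivial),
          Algebra.TensorProduct.map_tmul, show pull iT ⊤ ⊤ (fun _ _ => trivial) x.1 = 0 from x.2,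
          TensorProduct.tmul_zero, map_zero]
    rw [map_mul, map_add, map_one, h2, add_zero, one_mul, pull_rres, pull_rres] at h1
    exact h1.symm
  -- the units modulo the thickening are constant
  have hzη : ∀ i, z i = 1 ⊗ₜ η := fun i => by
    have h := Alg.eq_zero_of_compatible
      (fun i j => (pull (𝟙 X) (U i) (U i ⊓ U j) (le_id inf_le_left)).toLinearMap)
      (fun i j => (pull (𝟙 X) (U j) (U i ⊓ U j) (le_id inf_le_right)).toLinearMap)
      (fun _ => 1) hker i₀ (evPt x₀ (U i₀) hx₀).toLinearMap (by simp) (fun i => z i - 1 ⊗ₜ η)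
      (fun i j => by
        simp only [map_sub, hzc, LinearMap.rTensor_tmul, AlgHom.toLinearMap_apply, map_one])
      (by simp [η]) i
    exact sub_eq_zero.mp h
  have hη : IsUnit η := by
    rw [show η = pull (lift (toUnit T₀ ≫ x₀) (𝟙 T₀)) (box (U i₀) ⊤) ⊤ (le_pre_point x₀ hx₀ le_rfl) (vb i₀) by
      rw [← hz, pull_point_mulMap x₀ hx₀]]
    exact ((hv i₀).map _).map _
  obtain ⟨t, ht⟩ := iT.left.app_surjective ⊤ hT η
  have htu : IsUnit t := isUnit_of_app iT.left t (ht.symm ▸ hη)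
  obtain ⟨ti, hti⟩ := htu.exists_right_inv
  let w : ∀ i, Γ((X ⊗ T).left, box (U i) ⊤) := fun i => pull (snd X T) ⊤ _ (box_le_snd (U i) ⊤) ti
  choose e he using fun i => exists_emb_of_pull (i := iT) (A := X) (hU i) hT (v i * w i - 1) (by
    have hvb : pull (X ◁ iT) _ _ (hle (U i)) (v i) = pull (snd X T₀) ⊤ _ (box_le_snd (U i) ⊤) η := by
      show vb i = _
      rw [← hz, hzη, mulMap_tmul, map_one, one_mul]
    have hw : pull (X ◁ iT) _ _ (hle (U i)) (w i) =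
        pull (snd X T₀) ⊤ _ (box_le_snd (U i) ⊤) (pull iT ⊤ ⊤ (fun _ _ => trivial) ti) := by
      show pull (X ◁ iT) _ _ _ (pull (snd X T) _ _ _ ti) = _
      rw [pull_pull, pull_pull, pull_congr (whiskerLeft_snd X iT)]
    have hηe : η = pull iT ⊤ ⊤ (fun _ _ => trivial) t := by
      rw [← ht, pull_eq_rres_app]
      exact (rres_self _ _).symm
    show pull (X ◁ iT) _ (box (U i) (⊤ : T₀.left.Opens)) (hle (U i)) (v i * w i - 1) = 0
    rw [map_sub, map_one, map_mul, hvb, hw, hηe, ← map_mul, ← map_mul, hti, map_one, map_one, sub_self])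
  refine ⟨e, fun i j => emb_injective iT (isAffineOpen_inf X (hU i) (hU j)) hT ?_⟩
  rw [map_sub, ← rres_emb_left (inf_le_left : U i ⊓ U j ≤ U i), ← rres_emb_left (inf_le_right : U i ⊓ U j ≤ U j)]
  have hprod : emb iT (U i ⊓ U j) ⊤ (g i j) * rres (box_mono inf_le_right le_rfl) (emb iT (U j) ⊤ (e j)) = 0 := by
    rw [rres_emb_left (inf_le_right : U i ⊓ U j ≤ U j)]; exact emb_mul_emb hsqT _ _
  have h2 : (1 + emb iT (U i ⊓ U j) ⊤ (g i j)) * (1 + rres (box_mono inf_le_right le_rfl) (emb iT (U j) ⊤ (e j))) =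
      1 + rres (box_mono inf_le_left le_rfl) (emb iT (U i) ⊤ (e i)) := by
    rw [he, he]
    simp only [map_sub, map_one, map_mul, add_sub_cancel]
    rw [← mul_assoc, hg i j]
    congr 1
    show rres _ (pull (snd X T) _ _ _ ti) = rres _ (pull (snd X T) _ _ _ ti)
    rw [rres_pull, rres_pull]
  rw [add_one_mul_of_mul_eq_zero hprod] at h2
  exact eq_sub_of_add_eq (add_left_cancel h2)

/-- **The deformation step.** -/
theorem trivial_of_deformation [IsSeparated X.hom] [QuasiCompact X.hom]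
    (x₀ : 𝟙_ (Over (Spec (CommRingCat.of k))) ⟶ X)
    (hX : Function.Surjective (str X ⊤))
    [IsSeparated Q.hom] [CompactSpace Q.left] (iQ : Q₀ ⟶ Q) [IsClosedImmersion iQ.left] [Surjective iQ.left]
    (hsq : ∀ V : Q.left.Opens, IsAffineOpen V → ∀ a b, a ∈ K iQ V → b ∈ K iQ V → a * b = 0)
    [IsAffine T.left] [IsAffine T₀.left] (iT : T₀ ⟶ T) [IsClosedImmersion iT.left] [Surjective iT.left]
    (σ : T ⟶ Q) (π : Q ⟶ T) (σ₀ : T₀ ⟶ Q₀) (π₀ : Q₀ ⟶ T₀) (hσπ : σ ≫ π = 𝟙 T)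
    (hσ : iT ≫ σ = σ₀ ≫ iQ) (hπ : iQ ≫ π = π₀ ≫ iT)
    (hπb : Function.Bijective (pull π ⊤ ⊤ (fun _ _ => trivial)))
    (hπ₀b : Function.Surjective (pull π₀ ⊤ ⊤ (fun _ _ => trivial)))
    {Va : Q.left.Opens} (hVa : IsAffineOpen Va) (hσV : ⊤ ≤ σ.left ⁻¹ᵁ Va)
    (L : (X ⊗ Q).left.Modules) (hL : PicF.IsInvertible L)
    (h0 : Nonempty ((Scheme.Modules.pullback (X ◁ iQ).left).obj L ≅ Coh.structureModule (X ⊗ Q₀).left))
    (hx : Nonempty ((Scheme.Modules.pullback (lift (toUnit Q ≫ x₀) (𝟙 Q)).left).obj L ≅ Coh.structureModule Q.left))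
    (hy : Nonempty ((Scheme.Modules.pullback (X ◁ σ).left).obj L ≅ Coh.structureModule (X ⊗ T).left)) :
    Nonempty (L ≅ Coh.structureModule (X ⊗ Q).left) := by
  classical
  have : CompactSpace X.left := QuasiCompact.compactSpace_of_compactSpace X.hom
  have : Subsingleton ↥(𝟙_ (Over (Spec (CommRingCat.of k)))).left :=
    inferInstanceAs (Subsingleton (PrimeSpectrum k))
  have hpt : ∃ U₀ : X.left.Opens, IsAffineOpen U₀ ∧ ⊤ ≤ x₀.left ⁻¹ᵁ U₀ := by
    have : Nonempty ↥(𝟙_ (Over (Spec (CommRingCat.of k)))).left := inferInstanceAs (Nonempty (PrimeSpectrum k))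
    obtain ⟨p⟩ := this
    obtain ⟨U, hU, hxU, -⟩ := exists_isAffineOpen_mem_and_subset (U := (⊤ : X.left.Opens)) (Opens.mem_top (x₀.left p))
    exact ⟨U, hU, fun q _ => (Subsingleton.elim p q ▸ hxU : x₀.left q ∈ U)⟩
  obtain ⟨U₀, hU₀, hU₀pt⟩ := hpt
  obtain ⟨ι, hι, U, i₀, hU, hUcov, hi₀⟩ := exists_cover_affine X.left hU₀
  obtain ⟨κ, hκ, V, a₀, hV, hVcov, ha₀⟩ := exists_cover_affine Q.left hVa
  subst hi₀
  subst ha₀
  let Up : ι × κ → (X ⊗ Q).left.Opens := fun p => box (U p.1) (V p.2)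
  obtain ⟨s, u, hgen, hu, hu1⟩ := exists_frames (X ◁ iQ).left hL h0 (U := Up)
    (fun p => isAffineOpen_box (hU p.1) (hV p.2))
  have hU2 : ∀ i j, IsAffineOpen (U i ⊓ U j) := fun i j => isAffineOpen_inf X (hU i) (hU j)
  have hV2 : ∀ a b, IsAffineOpen (V a ⊓ V b) := fun a b => isAffineOpen_inf Q (hV a) (hV b)
  have hemb : ∀ (p q : ι × κ) (U' : X.left.Opens) (V' : Q.left.Opens) (hp : box U' V' ≤ Up p) (hq : box U' V' ≤ Up q),
      IsAffineOpen U' → IsAffineOpen V' → ∃ z, emb iQ U' V' z = rres (le_inf hp hq) (u p q) - 1 := by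
    intro p q U' V' hp hq hU' hV'
    refine exists_emb_of_pull (i := iQ) hU' hV' _ ?_
    rw [map_sub, map_one, pull_rres, sub_eq_zero, pull_eq_rres_app, hu1, map_one]
  -- the bigraded cocycle
  choose f hf using fun i a b => hemb (i, a) (i, b) (U i) (V a ⊓ V b)
    (box_mono le_rfl inf_le_left) (box_mono le_rfl inf_le_right) (hU i) (hV2 a b)
  choose g hg using fun i j a => hemb (i, a) (j, a) (U i ⊓ U j) (V a)
    (box_mono inf_le_left le_rfl) (box_mono inf_le_right le_rfl) (hU2 i j) (hV a)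
  let s1 : ∀ i j, Γ(X.left, U i) →ₗ[k] Γ(X.left, U i ⊓ U j) := fun i j =>
    (pull (𝟙 X) (U i) (U i ⊓ U j) (le_id inf_le_left)).toLinearMap
  let s2 : ∀ i j, Γ(X.left, U j) →ₗ[k] Γ(X.left, U i ⊓ U j) := fun i j =>
    (pull (𝟙 X) (U j) (U i ⊓ U j) (le_id inf_le_right)).toLinearMap
  let t1 : ∀ a b, K iQ (V a) →ₗ[k] K iQ (V a ⊓ V b) := fun a b => kres (V a) (V a ⊓ V b) inf_le_left
  let t2 : ∀ a b, K iQ (V b) →ₗ[k] K iQ (V a ⊓ V b) := fun a b => kres (V b) (V a ⊓ V b) inf_le_right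
  -- products of kernel elements vanish on all pieces
  have hz : ∀ {U' : X.left.Opens} {V' : Q.left.Opens}, IsAffineOpen V' → ∀ y z : Γ(X.left, U') ⊗[k] K iQ V',
      emb iQ U' V' y * emb iQ U' V' z = 0 := fun hV' y z => emb_mul_emb (hsq _ hV') y z
  -- transition functions on the common pieces
  have hm : ∀ i j a b, rres (le_inf (box_mono inf_le_left inf_le_left) (box_mono inf_le_right inf_le_right))
        (u (i, a) (j, b)) =
      1 + (emb iQ (U i ⊓ U j) (V a ⊓ V b) ((s1 i j).rTensor _ (f i a b)) +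
        emb iQ (U i ⊓ U j) (V a ⊓ V b) ((t2 a b).lTensor _ (g i j b))) := by
    intro i j a b
    rw [← transition_mul hgen u hu (i, a) (i, b) (j, b) (V := box (U i ⊓ U j) (V a ⊓ V b))
        (box_mono inf_le_left inf_le_left) (box_mono inf_le_left inf_le_right)
        (box_mono inf_le_right inf_le_right),
      ← add_one_mul_of_mul_eq_zero (hz (hV2 a b) _ _), ← rres_emb_left (inf_le_left : U i ⊓ U j ≤ U i),
      ← rres_emb_right (inf_le_right : V a ⊓ V b ≤ V b), hf, hg]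
    simp only [map_sub, map_one, rres_rres, add_sub_cancel]
  have hrel : ∀ i j a b, (s1 i j).rTensor _ (f i a b) - (s2 i j).rTensor _ (f j a b) =
      (t1 a b).lTensor _ (g i j a) - (t2 a b).lTensor _ (g i j b) := by
    intro i j a b
    refine emb_injective iQ (hU2 i j) (hV2 a b) ?_
    have h1 := hm i j a b
    rw [← transition_mul hgen u hu (i, a) (j, a) (j, b) (V := box (U i ⊓ U j) (V a ⊓ V b))
        (box_mono inf_le_left inf_le_left) (box_mono inf_le_right inf_le_left)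
        (box_mono inf_le_right inf_le_right)] at h1
    have h2 : (1 + emb iQ (U i ⊓ U j) (V a ⊓ V b) ((t1 a b).lTensor _ (g i j a))) *
        (1 + emb iQ (U i ⊓ U j) (V a ⊓ V b) ((s2 i j).rTensor _ (f j a b))) =
        rres (le_inf (box_mono inf_le_left inf_le_left) (box_mono inf_le_right inf_le_left)) (u (i, a) (j, a)) *
          rres (le_inf (box_mono inf_le_right inf_le_left) (box_mono inf_le_right inf_le_right)) (u (j, a) (j, b)) := by
      rw [← rres_emb_left (inf_le_right : U i ⊓ U j ≤ U j),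
        ← rres_emb_right (inf_le_left : V a ⊓ V b ≤ V a), hf, hg]
      simp only [map_sub, map_one, rres_rres, add_sub_cancel]
    rw [← h2, add_one_mul_of_mul_eq_zero (hz (hV2 a b) _ _)] at h1
    have h3 := add_left_cancel h1
    rw [map_sub, map_sub, sub_eq_sub_iff_add_eq_add]
    exact h3.symm
  -- `H⁰(X) = k`
  have hker : ∀ a : ∀ i, Γ(X.left, U i), (∀ i j, s1 i j (a i) = s2 i j (a j)) → ∃ c : k, a = c • fun _ => 1 := by
    intro a ha
    obtain ⟨G, hG⟩ := exists_glue_fun hUcov a fun i j => by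
      have h := ha i j
      simp only [s1, s2, AlgHom.toLinearMap_apply, pull_id] at h
      exact h
    obtain ⟨c, rfl⟩ := hX G
    refine ⟨c, funext fun i => ?_⟩
    rw [← hG i]
    show rres le_top (algebraMap k Γ(X.left, ⊤) c) = c • (1 : Γ(X.left, U i))
    rw [Algebra.smul_def, mul_one, ← (pull (𝟙 X) ⊤ (U i) (le_id le_top)).commutes c]
    exact (pull_id _ _ le_top _).symm
  -- the kernel on all of `Q`
  let inc : ∀ a, K iQ ⊤ →ₗ[k] K iQ (V a) := fun a => kres ⊤ (V a) le_top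
  have hinc : ∀ a b w, t1 a b (inc a w) = t2 a b (inc b w) := fun a b w => Subtype.ext (by
    simp only [t1, t2, inc, kres_val, rres_rres])
  have hkerQ : ∀ q : ∀ a, K iQ (V a), (∀ a b, t1 a b (q a) = t2 a b (q b)) → ∃ w, ∀ a, inc a w = q a := by
    intro q hq
    obtain ⟨G, hG⟩ := exists_glue_fun hVcov (fun a => (q a).1) fun a b => by
      have h := congrArg Subtype.val (hq a b)
      simp only [t1, t2, kres_val] at h
      exact h
    refine ⟨⟨G, ?_⟩, fun a => Subtype.ext ?_⟩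
    · show pull iQ ⊤ (iQ.left ⁻¹ᵁ ⊤) le_rfl G = 0
      refine eq_of_local_fun (U := fun a => iQ.left ⁻¹ᵁ V a) (fun a => iQ.left.preimage_mono le_top)
        (fun x _ => hVcov _) _ _ fun a => ?_
      rw [map_zero, rres_pull, ← pull_rres iQ le_rfl le_top, hG]
      exact (q a).2
    · simp only [inc, kres_val]
      exact hG a
  let ψ : K iQ (V a₀) →ₗ[k] K iQ ⊤ :=
    (kmap hπ ⊤ ⊤ (fun _ _ => trivial)).comp (kmap hσ (V a₀) ⊤ hσV)
  have hψ : ∀ w, ψ (inc a₀ w) = w := fun w => Subtype.ext (by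
    show pull π ⊤ ⊤ _ (pull σ (V a₀) ⊤ hσV (kres ⊤ (V a₀) le_top w).1) = w.1
    rw [kres_val, pull_rres]
    obtain ⟨t, ht⟩ := hπb.2 w.1
    rw [← ht, pull_pull σ π, pull_congr hσπ, pull_id _ _ le_rfl, rres_self])
  -- slices
  obtain ⟨v, hvu, hv⟩ := exists_coboundary_of_iso (lift (toUnit Q ≫ x₀) (𝟙 Q)).left hgen u hu hx
  have hslx := exists_slice_x x₀ iQ hsq iT π π₀ hπ hπ₀b hU₀pt V hV hVcov
    (fun a => rres (le_pre_point x₀ hU₀pt le_rfl) (v (i₀, a)))
    (fun a => (hvu (i₀, a)).map _) (fun a b => f i₀ a b) (fun a b => by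
      have h := congrArg (rres (le_inf (le_pre_point x₀ hU₀pt (inf_le_left : V a ⊓ V b ≤ V a))
        (le_pre_point x₀ hU₀pt (inf_le_right : V a ⊓ V b ≤ V b)))) (hv (i₀, a) (i₀, b))
      erw [map_mul, rres_rres, rres_rres] at h
      rw [← pull_point_emb x₀ hU₀pt (V a ⊓ V b) (f i₀ a b), hf, map_sub, map_one, add_sub_cancel, pull_rres,
        rres_rres, rres_rres]
      exact h)
  have hsqT : ∀ a b, a ∈ K iT ⊤ → b ∈ K iT ⊤ → a * b = 0 := fun a b ha hb => by
    apply hπb.1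
    rw [map_mul, map_zero]
    refine eq_of_local_fun (U := V) (fun _ => le_top) (fun x _ => hVcov x) _ _ fun c => ?_
    rw [map_mul, map_zero]
    exact hsq _ (hV c) _ _ (kres ⊤ (V c) le_top ⟨_, pull_mem hπ _ ha⟩ |>.2 |> fun h => by rwa [kres_val] at h)
      (kres ⊤ (V c) le_top ⟨_, pull_mem hπ _ hb⟩ |>.2 |> fun h => by rwa [kres_val] at h)
  obtain ⟨v', hvu', hv'⟩ := exists_coboundary_of_iso (X ◁ σ).left hgen u hu hy
  have hleσ : ∀ (U' : X.left.Opens), box U' (⊤ : T.left.Opens) ≤ (X ◁ σ).left ⁻¹ᵁ box U' (V a₀) := fun U' =>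
    le_pre_box _ (by rw [whiskerLeft_fst]; exact box_le_fst _ _)
      (by rw [whiskerLeft_snd]; exact fun y _ => hσV (Opens.mem_top ((snd X T).left y)))
  obtain ⟨e, he⟩ := exists_slice_y x₀ iT hsqT U hU hker i₀ hU₀pt
    (fun i => rres (hleσ (U i)) (v' (i, a₀))) (fun i => (hvu' (i, a₀)).map _)
    (fun i j => (kmap hσ (V a₀) ⊤ hσV).lTensor _ (g i j a₀)) (fun i j => by
      have h := congrArg (rres (le_inf ((box_mono inf_le_left le_rfl).trans (hleσ (U i)))
        ((box_mono inf_le_right le_rfl).trans (hleσ (U j))) : box (U i ⊓ U j) (⊤ : T.left.Opens) ≤ _)) (hv' (i, a₀) (j, a₀))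
      erw [map_mul, rres_rres, rres_rres] at h
      have h4 := pull_emb hσ (g := 𝟙 X) (X ◁ σ) (by simp) (by simp) (le_id le_rfl) hσV (hleσ (U i ⊓ U j)) (g i j a₀)
      rw [pull_id_self] at h4
      rw [show (kmap hσ (V a₀) ⊤ hσV).lTensor _ (g i j a₀) =
        TensorProduct.map LinearMap.id (kmap hσ (V a₀) ⊤ hσV) (g i j a₀) from rfl, ← h4, hg, map_sub, map_one,
        add_sub_cancel, pull_rres, rres_rres, rres_rres]
      exact h)
  obtain ⟨h, hh1, hh2⟩ := Alg.exists_potential s1 s2 (fun _ => 1) hker i₀ (evPt x₀ (U i₀) hU₀pt).toLinearMap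
    (by simp) t1 t2 inc hinc hkerQ a₀ ψ hψ f g hrel hslx
    ⟨fun i => (kmap hπ ⊤ ⊤ (fun _ _ => trivial)).lTensor _ (e i), fun i j => by
      simp only [ψ, LinearMap.lTensor_comp_apply, he, map_sub]
      simp only [← LinearMap.comp_apply, LinearMap.lTensor_comp_rTensor, LinearMap.rTensor_comp_lTensor, s1, s2]⟩
  -- conclusion
  let η : ∀ p : ι × κ, Γ((X ⊗ Q).left, Up p) := fun p => emb iQ (U p.1) (V p.2) (h p.1 p.2)
  refine nonempty_iso_of_coboundary (U := Up) (fun x => ?_) hgen u hu (fun p => 1 - η p) (fun p => ?_) ?_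
  · obtain ⟨i, hi⟩ := hUcov ((fst X Q).left x)
    obtain ⟨a, ha⟩ := hVcov ((snd X Q).left x)
    exact ⟨(i, a), hi, ha⟩
  · exact IsUnit.of_mul_eq_one (1 + η p) (by
      calc (1 - η p) * (1 + η p) = 1 - η p * η p := by ring
        _ = 1 := by rw [hz (hV p.2), sub_zero])
  rintro ⟨i, a⟩ ⟨j, b⟩
  have hle : box (U i ⊓ U j) (V a ⊓ V b) ≤ Up (i, a) ⊓ Up (j, b) :=
    le_inf (box_mono inf_le_left inf_le_left) (box_mono inf_le_right inf_le_right)
  refine (rres_bijective_of_eq hle (box_inf _ _ _ _).le).1 ?_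
  rw [map_mul, rres_rres, rres_rres, map_sub, map_sub, hm i j a b]
  simp only [map_one]
  simp only [η]
  rw [rres_emb (inf_le_left : U i ⊓ U j ≤ U i) (inf_le_left : V a ⊓ V b ≤ V a),
    rres_emb (inf_le_right : U i ⊓ U j ≤ U j) (inf_le_right : V a ⊓ V b ≤ V b)]
  have e1 : emb iQ (U i ⊓ U j) (V a ⊓ V b) ((s1 i j).rTensor _ (f i a b)) +
      emb iQ (U i ⊓ U j) (V a ⊓ V b) ((t2 a b).lTensor _ (g i j b)) =
      emb iQ (U i ⊓ U j) (V a ⊓ V b) (TensorProduct.map (s1 i j) (t1 a b) (h i a)) -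
        emb iQ (U i ⊓ U j) (V a ⊓ V b) (TensorProduct.map (s2 i j) (t2 a b) (h j b)) := by
    rw [← map_add, ← map_sub]
    congr 1
    rw [← hh1 i a b, ← hh2 i j b]
    simp only [map_sub, ← LinearMap.comp_apply, LinearMap.rTensor_comp_lTensor, LinearMap.lTensor_comp_rTensor]
    abel
  rw [e1]
  show (1 - emb iQ _ _ (TensorProduct.map (s1 i j) (t1 a b) (h i a))) * _ =
    1 - emb iQ _ _ (TensorProduct.map (s2 i j) (t2 a b) (h j b))
  generalize hA : emb iQ (U i ⊓ U j) (V a ⊓ V b) (TensorProduct.map (s1 i j) (t1 a b) (h i a)) = A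
  generalize hB : emb iQ (U i ⊓ U j) (V a ⊓ V b) (TensorProduct.map (s2 i j) (t2 a b) (h j b)) = B
  have hAA : A * A = 0 := by rw [← hA]; exact hz (hV2 a b) _ _
  have hAB : A * B = 0 := by rw [← hA, ← hB]; exact hz (hV2 a b) _ _
  calc (1 - A) * (1 + (A - B)) = 1 - B - A * A + A * B := by ring
    _ = 1 - B := by rw [hAA, hAB]; ring

end Groth.Agent.Cube
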