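import Groth.Agent.Cube.Func
import Mathlib.AlgebraicGeometry.Morphisms.Flat
import Mathlib.AlgebraicGeometry.Morphisms.Proper
import Mathlib.AlgebraicGeometry.PullbackCarrier
import Mathlib.RingTheory.Flat.Basic
import Mathlib.RingTheory.Ideal.AssociatedPrime.Finiteness
import Mathlib.RingTheory.LocalRing.ResidueField.Basic

/-!
# Schemes over `Spec R`: closed subschemes of the base, regular elements
-/

set_option autoImplicit false
universe u

open CategoryTheory CategoryTheory.Limits MonoidalCategory CartesianMonoidalCategory AlgebraicGeometry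

noncomputable section

namespace Groth.Agent.Cube

variable (k : Type u) [Field k]

/-- `Spec R` as a scheme over `k`. -/
abbrev Sp (R : Type u) [CommRing R] [Algebra k R] : Over (Spec (CommRingCat.of k)) :=
  Over.mk (Spec.map (CommRingCat.ofHom (algebraMap k R)))

instance (R : Type u) [CommRing R] [Algebra k R] : IsAffine (Sp k R).left :=
  inferInstanceAs (IsAffine (Spec (CommRingCat.of R)))

/-- The morphism of spectra of an algebra map. -/
abbrev spMap {R R' : Type u} [CommRing R] [Algebra k R] [CommRing R'] [Algebra k R'] (f : R →ₐ[k] R') :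
    Sp k R' ⟶ Sp k R :=
  Over.homMk (Spec.map (CommRingCat.ofHom f.toRingHom)) (by
    show Spec.map _ ≫ Spec.map _ = Spec.map _
    rw [← Spec.map_comp, ← CommRingCat.ofHom_comp]
    exact congrArg (fun g => Spec.map (CommRingCat.ofHom g)) f.comp_algebraMap)

variable {k}

theorem spMap_comp {R R' R'' : Type u} [CommRing R] [Algebra k R] [CommRing R'] [Algebra k R'] [CommRing R'']
    [Algebra k R''] (f : R →ₐ[k] R') (g : R' →ₐ[k] R'') :
    spMap k g ≫ spMap k f = spMap k (g.comp f) := by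
  refine Over.OverMorphism.ext ?_
  show Spec.map _ ≫ Spec.map _ = Spec.map _
  rw [← Spec.map_comp]
  rfl

variable {R : Type u} [CommRing R] {W : Scheme.{u}}

/-- The functions of the base on an open. -/
def glb (q : W ⟶ Spec (CommRingCat.of R)) (U : W.Opens) : R →+* Γ(W, U) :=
  ((Scheme.ΓSpecIso (CommRingCat.of R)).inv ≫ q.appLE ⊤ U (fun _ _ => trivial)).hom

theorem flat_glb (q : W ⟶ Spec (CommRingCat.of R)) [Flat q] {U : W.Opens} (hU : IsAffineOpen U) :
    (glb q U).Flat := by
  have h1 : (q.appLE ⊤ U (fun _ _ => trivial)).hom.Flat := q.flat_appLE (isAffineOpen_top _) hU _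
  exact RingHom.Flat.comp (RingHom.Flat.of_bijective
    (ConcreteCategory.bijective_of_isIso (Scheme.ΓSpecIso (CommRingCat.of R)).inv)) h1

theorem eq_zero_of_glb_mul_eq_zero (q : W ⟶ Spec (CommRingCat.of R)) [Flat q] {U : W.Opens}
    (hU : IsAffineOpen U) {t : R} (ht : t ∈ nonZeroDivisors R) (a : Γ(W, U)) (h : glb q U t * a = 0) : a = 0 := by
  let := (glb q U).toAlgebra
  have : Module.Flat R Γ(W, U) := flat_glb q hU
  have hreg : IsSMulRegular R t := by
    intro x y hxy
    exact (mul_cancel_left_mem_nonZeroDivisors ht).mp hxy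
  have h2 : IsSMulRegular Γ(W, U) (algebraMap R Γ(W, U) t) := hreg.of_flat
  exact h2 (show algebraMap R Γ(W, U) t • a = algebraMap R Γ(W, U) t • 0 by rw [smul_zero]; exact h)

/-- Functions vanishing on the preimage of a closed subscheme of the base. -/
theorem mem_map_of_app_eq_zero {R' : Type u} [CommRing R'] (φ : R →+* R') (hφ : Function.Surjective φ)
    {W' : Scheme.{u}} {i : W' ⟶ W} {q : W ⟶ Spec (CommRingCat.of R)} {q' : W' ⟶ Spec (CommRingCat.of R')}
    (H : IsPullback i q' q (Spec.map (CommRingCat.ofHom φ))) {U : W.Opens} (hU : IsAffineOpen U)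
    (a : Γ(W, U)) (ha : i.app U a = 0) : a ∈ Ideal.map (glb q U) (RingHom.ker φ) := by
  have hiso := isIso_pushoutSection_of_isAffineOpen H (US := ⊤) (UT := ⊤) (UX := U) (fun _ _ => trivial)
    (fun _ _ => trivial) (UY := i ⁻¹ᵁ U) (by simp) (isAffineOpen_top _) (isAffineOpen_top _) hU
  have h1 := (isIso_pushoutSection_iff ..).mp hiso
  have h2 : IsPushout (CommRingCat.ofHom (glb q U)) (CommRingCat.ofHom φ) (i.app U)
      ((Scheme.ΓSpecIso (CommRingCat.of R')).inv ≫ q'.appLE ⊤ (i ⁻¹ᵁ U) (fun _ _ => trivial)) :=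
    h1.of_iso (Scheme.ΓSpecIso (CommRingCat.of R)) (Iso.refl _) (Scheme.ΓSpecIso (CommRingCat.of R'))
      (Iso.refl _)
      (by simp [glb, ← CommRingCat.hom_comp])
      (by
        have h := Scheme.ΓSpecIso_naturality (CommRingCat.ofHom φ)
        rw [← h, Scheme.Hom.appTop, Scheme.Hom.app_eq_appLE]
        rfl)
      (by simp [Scheme.Hom.app_eq_appLE])
      (by simp)
  let I := Ideal.map (glb q U) (RingHom.ker φ)
  let g' : { g : R →+* Γ(W, U) ⧸ I // RingHom.ker φ ≤ RingHom.ker g } :=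
    ⟨(Ideal.Quotient.mk I).comp (glb q U),
      fun r hr => Ideal.Quotient.eq_zero_iff_mem.mpr (Ideal.mem_map_of_mem _ hr)⟩
  let ψ : R' →+* Γ(W, U) ⧸ I := RingHom.liftOfSurjective φ hφ g'
  have w : CommRingCat.ofHom (glb q U) ≫ CommRingCat.ofHom (Ideal.Quotient.mk I) =
      CommRingCat.ofHom φ ≫ CommRingCat.ofHom ψ :=
    CommRingCat.hom_ext (show (Ideal.Quotient.mk I).comp (glb q U) = ψ.comp φ from (RingHom.liftOfSurjective_comp φ hφ g').symm)
  have h3 := congrArg (fun g => g a) (congrArg CommRingCat.Hom.hom (h2.inl_desc _ _ w))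
  rw [← Ideal.Quotient.eq_zero_iff_mem]
  refine h3.symm.trans ?_
  show (h2.desc _ _ w).hom ((i.app U).hom a) = 0
  rw [ha, map_zero]

/-- The points over the zero locus lie on the preimage of the closed subscheme. -/
theorem mem_range_of_isPullback {R' : Type u} [CommRing R'] (φ : R →+* R') (hφ : Function.Surjective φ)
    {W' : Scheme.{u}} {i : W' ⟶ W} {q : W ⟶ Spec (CommRingCat.of R)} {q' : W' ⟶ Spec (CommRingCat.of R')}
    (H : IsPullback i q' q (Spec.map (CommRingCat.ofHom φ))) (x : W)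
    (hx : RingHom.ker φ ≤ (q x).asIdeal) : ∃ y, i y = x := by
  have h : q x ∈ Set.range (Spec.map (CommRingCat.ofHom φ)) := by
    show q x ∈ Set.range (PrimeSpectrum.comap φ)
    rw [range_comap_of_surjective _ φ hφ]
    exact hx
  have h' : x ∈ Set.range (pullback.fst q (Spec.map (CommRingCat.ofHom φ))) := by
    rw [Scheme.Pullback.range_fst]; exact h
  obtain ⟨y, hy⟩ := h'
  refine ⟨H.isoPullback.inv y, ?_⟩
  rw [← Scheme.Hom.comp_apply, H.isoPullback_inv_fst]
  exact hy

theorem exists_socle [IsNoetherianRing R] [IsLocalRing R] (hf : IsLocalRing.maximalIdeal R ≠ ⊥)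
    (h : ∀ t ∈ IsLocalRing.maximalIdeal R, t ∉ nonZeroDivisors R) :
    ∃ e ∈ IsLocalRing.maximalIdeal R, e ≠ 0 ∧ ∀ r ∈ IsLocalRing.maximalIdeal R, r * e = 0 := by
  have hfin := associatedPrimes.finite R R
  have hsub : (IsLocalRing.maximalIdeal R : Set R) ⊆ ⋃ p ∈ (hfin.toFinset : Set (Ideal R)), (id p : Ideal R) := by
    intro t ht
    rw [hfin.coe_toFinset]
    rw [show (⋃ p ∈ associatedPrimes R R, ((id p : Ideal R) : Set R)) = _ from
      biUnion_associatedPrimes_eq_compl_nonZeroDivisors R]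
    exact h t ht
  obtain ⟨p, hp, hle⟩ := (Ideal.subset_union_prime ⊥ ⊥ (fun p hp _ _ =>
    IsAssociatedPrime.isPrime ((hfin.mem_toFinset).mp hp))).mp hsub
  have hp' : IsAssociatedPrime (p : Ideal R) R := (hfin.mem_toFinset).mp hp
  have hpm : p = IsLocalRing.maximalIdeal R :=
    ((IsLocalRing.maximalIdeal.isMaximal R).eq_of_le hp'.isPrime.ne_top hle).symm
  obtain ⟨-, f, hf'⟩ := (isAssociatedPrime_iff_exists_injective_linearMap p R).mp hp'
  have h1 : ∀ r ∈ p, r * f (Ideal.Quotient.mk p 1) = 0 := fun r hr => by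
    rw [← smul_eq_mul, ← map_smul]
    have : r • Ideal.Quotient.mk p 1 = 0 := by
      rw [← Ideal.Quotient.mk_eq_mk, ← Submodule.Quotient.mk_smul, smul_eq_mul, mul_one,
        Ideal.Quotient.mk_eq_mk, Ideal.Quotient.eq_zero_iff_mem]
      exact hr
    rw [this, map_zero]
  refine ⟨f (Ideal.Quotient.mk p 1), ?_, ?_, hpm ▸ h1⟩
  · by_contra hu
    have hu' : IsUnit (f (Ideal.Quotient.mk p 1)) := IsLocalRing.notMem_maximalIdeal.mp hu
    exact hf (eq_bot_iff.mpr fun r hr => hu'.mul_left_eq_zero.mp (h1 r (hpm ▸ hr)))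
  · intro h0
    rw [← map_zero f] at h0
    have := hf' h0
    rw [map_one] at this
    have : Nontrivial (R ⧸ p) := Ideal.Quotient.nontrivial_iff.mpr hp'.isPrime.ne_top
    exact one_ne_zero ‹(1 : R ⧸ p) = 0›

end Groth.Agent.Cube
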