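import Groth.Agent.Cube.SeesawThm
import Groth.Agent.CBC.Flatness

/-!
# Constant functions, universally

For a proper flat morphism to a locally Noetherian scheme all of whose fibres have one dimensional
`H⁰(O)`, functions on any base change are functions on the base.  The base need not be reduced.
-/

set_option autoImplicit false
universe u

open CategoryTheory CategoryTheory.Limits AlgebraicGeometry TopologicalSpace Opposite Function TensorProduct

noncomputable section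

namespace Groth.Agent.Cube.Universal

open scoped Groth.Agent.PicLaw
open Groth.Agent.QCoh Groth.Agent.Props.GenLocus Groth.Agent.Props.GenTensor Groth.Agent.Props.GenPull

section algebra

variable {A : Type u} [CommRing A] {K : CBC.SCx A} (w : K.Win 0) (c : K.H A 0)

/-- A class generating all fibres of a degree zero window generates universally. -/
theorem bijective_Φ_tmul [Module.Flat A w.G]
    (hrk : ∀ x : PrimeSpectrum A, haveI := w.fp; CBC.kerRank w.u x = 1)
    (hc : ∀ x : PrimeSpectrum A, K.Φ 0 x.asIdeal.ResidueField ((1 : x.asIdeal.ResidueField) ⊗ₜ c) ≠ 0)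
    (B : Type u) [CommRing B] [Algebra A B] : Bijective fun b : B => K.Φ 0 B (b ⊗ₜ c) := by
  have := w.fp
  have hne : ∀ x : PrimeSpectrum A,
      CBC.kerBC w.u x.asIdeal.ResidueField ((1 : x.asIdeal.ResidueField) ⊗ₜ w.e₀ c) ≠ 0 := fun x h => by
    have h1 := w.eAlg_Φ x.asIdeal.ResidueField ((1 : x.asIdeal.ResidueField) ⊗ₜ c)
    rw [LinearMap.lTensor_tmul, LinearEquiv.coe_coe, h] at h1
    exact hc x ((w.eAlg _).injective (h1.trans (map_zero _).symm))
  have hrk' : ∀ x : PrimeSpectrum A, Module.finrank x.asIdeal.ResidueField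
      (LinearMap.ker (w.u.baseChange x.asIdeal.ResidueField)) = 1 := hrk
  have hsurjk : ∀ x : PrimeSpectrum A, Surjective (CBC.kerBC w.u x.asIdeal.ResidueField) := fun x y => by
    obtain ⟨r, hr⟩ := (finrank_eq_one_iff_of_nonzero' _ (hne x)).mp (hrk' x) y
    exact ⟨r • ((1 : x.asIdeal.ResidueField) ⊗ₜ w.e₀ c), by rw [map_smul]; exact hr⟩
  have : Module.Flat A (CBC.Cok w.u) := CBC.flat_cok_of_forall_surjective w.u hsurjk
  have := CBC.finite_ker w.u
  have := CBC.projective_ker w.u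
  let φ : A →ₗ[A] LinearMap.ker w.u := LinearMap.toSpanSingleton _ _ (w.e₀ c)
  have hsurj : Surjective φ := by
    rw [← LinearMap.range_eq_top, ← Submodule.Quotient.subsingleton_iff, ← Module.support_eq_empty_iff (R := A),
      Set.eq_empty_iff_forall_notMem]
    intro x hx
    rw [Module.mem_support_iff_nontrivial_residueField_tensorProduct] at hx
    refine not_subsingleton_iff_nontrivial.mpr hx ?_
    refine subsingleton_of_forall_eq 0 fun t => ?_
    obtain ⟨t, rfl⟩ := LinearMap.lTensor_surjective x.asIdeal.ResidueField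
      (Submodule.mkQ_surjective (LinearMap.range φ)) t
    obtain ⟨r, hr⟩ := (finrank_eq_one_iff_of_nonzero' _ (hne x)).mp (hrk' x) (CBC.kerBC w.u _ t)
    rw [← map_smul] at hr
    rw [← (CBC.kerBC_bijective_of_flat w.u x.asIdeal.ResidueField).1 hr]
    rw [TensorProduct.smul_tmul', LinearMap.lTensor_tmul,
      show Submodule.mkQ (LinearMap.range φ) (w.e₀ c) = 0 from
        (Submodule.Quotient.mk_eq_zero _).mpr ⟨1, one_smul _ _⟩, tmul_zero]
  obtain ⟨s, hs⟩ := Module.projective_lifting_property φ LinearMap.id hsurj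
  have hsv : ∀ y, φ (s y) = y := fun y => LinearMap.congr_fun hs y
  have hunit : IsUnit (s (w.e₀ c)) := by
    by_contra hu
    obtain ⟨m, hm, hsm⟩ := exists_max_ideal_of_mem_nonunits hu
    refine hne ⟨m, hm.isPrime⟩ ?_
    rw [← hsv (w.e₀ c), show φ (s (w.e₀ c)) = s (w.e₀ c) • w.e₀ c from rfl, ← TensorProduct.smul_tmul,
      Algebra.smul_def, show algebraMap A m.ResidueField (s (w.e₀ c)) = 0 from
        (Ideal.algebraMap_residueField_eq_zero).mpr hsm, zero_mul, zero_tmul, map_zero]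
  have hinj : Injective φ := (injective_iff_map_eq_zero φ).mpr fun a ha => by
    have he : a * s (w.e₀ c) = 0 := by
      rw [← smul_eq_mul, ← map_smul, show a • w.e₀ c = 0 from ha, map_zero]
    exact (hunit.mul_left_eq_zero).mp he
  let ε : A ≃ₗ[A] K.H A 0 := LinearEquiv.ofBijective φ ⟨hinj, hsurj⟩ ≪≫ₗ w.e₀.symm
  have hε : ε 1 = c := by
    show w.e₀.symm (φ 1) = c
    rw [show φ 1 = w.e₀ c from one_smul _ _, LinearEquiv.symm_apply_apply]
  let E : B ≃ₗ[A] B ⊗[A] K.H A 0 := (TensorProduct.rid A B).symm ≪≫ₗ ε.lTensor B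
  have hE : ∀ b, E b = b ⊗ₜ c := fun b => by
    show ε.lTensor B ((TensorProduct.rid A B).symm b) = _
    rw [TensorProduct.rid_symm_apply, LinearEquiv.lTensor_tmul, hε]
  have hΦ : Bijective (K.Φ 0 B) := (w.Φ_bijective_iff B).mpr (CBC.kerBC_bijective_of_flat w.u B)
  have := hΦ.comp E.bijective
  rwa [show ((K.Φ 0 B : _ → _) ∘ E) = fun b : B => K.Φ 0 B (b ⊗ₜ c) from funext fun b => congrArg _ (hE b)] at this

end algebra

variable {W Z : Scheme.{u}} (π : W ⟶ Z) [IsProper π] [Flat π] [IsLocallyNoetherian Z]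
  {V : Z.Opens} (hV : IsAffineOpen V) (D : CBC.Model π V)

local notation "O" => Coh.structureModule W

/-- The cochain of the constant function `1`. -/
def oneC : (D.K O).X 0 := ((CBC.secEquiv (π.app V).hom D.hU O D.cov) (one' (π ⁻¹ᵁ V))).1

theorem d_oneC : (D.K O).d 0 (oneC π D) = 0 :=
  ((CBC.secEquiv (π.app V).hom D.hU O D.cov) (one' (π ⁻¹ᵁ V))).2

/-- The class of the constant function `1` with coefficients. -/
def oneCls {M : Type u} [AddCommGroup M] [Module Γ(Z, V) M] (m : M) : (D.K O).H M 0 :=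
  Submodule.Quotient.mk ⟨oneC π D ⊗ₜ m, by
    show ((D.K O).d 0).rTensor M _ = 0
    rw [LinearMap.rTensor_tmul, d_oneC, zero_tmul]⟩

theorem Φ_oneCls {M : Type u} [AddCommGroup M] [Module Γ(Z, V) M] (m : M) :
    (D.K O).Φ 0 M (m ⊗ₜ oneCls π D (1 : Γ(Z, V))) = oneCls π D m := by
  rw [CBC.SCx.Φ_tmul, oneCls, CBC.SCx.Hmap_mk]
  refine congrArg Submodule.Quotient.mk (Subtype.ext ?_)
  show LinearMap.lTensor _ _ (oneC π D ⊗ₜ (1 : Γ(Z, V))) = _
  rw [LinearMap.lTensor_tmul, LinearMap.toSpanSingleton_apply, one_smul]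

theorem mk_eq_mk_zero {M : Type u} [AddCommGroup M] [Module Γ(Z, V) M] (z : (D.K O).Z M 0) :
    (Submodule.Quotient.mk z : (D.K O).H M 0) = 0 ↔ z.1 = 0 := by
  rw [Submodule.Quotient.mk_eq_zero, Submodule.mem_comap]
  exact Iff.rfl

section bc

variable {T X' : Scheme.{u}} [IsAffine T] (g : T ⟶ Z) (p : X' ⟶ W) (q : X' ⟶ T) (H : IsPullback p q π g)
  (hT : ⊤ ≤ g ⁻¹ᵁ V) [Algebra Γ(Z, V) Γ(T, ⊤)] (halg : algebraMap Γ(Z, V) Γ(T, ⊤) = (g.appLE V ⊤ hT).hom)

omit [IsProper π] [Flat π] [IsLocallyNoetherian Z] [IsAffine T] [Algebra Γ(Z, V) Γ(T, ⊤)] in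
include H hT in
theorem top_le_preimage : (⊤ : X'.Opens) ≤ p ⁻¹ᵁ (π ⁻¹ᵁ V) := fun x _ => by
  show π (p x) ∈ V
  rw [← Scheme.Hom.comp_apply, H.w, Scheme.Hom.comp_apply]
  exact hT trivial

/-- The generator of the pulled back structure module. -/
def gen : Γ((Scheme.Modules.pullback p).obj O, q ⁻¹ᵁ (⊤ : T.Opens)) :=
  res _ (le_top.trans (top_le_preimage π g p q H hT)) (pb p (one' (π ⁻¹ᵁ V)))

omit [IsProper π] [Flat π] [IsLocallyNoetherian Z] [IsAffine T] [Algebra Γ(Z, V) Γ(T, ⊤)] in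
theorem isGen_gen : IsGen ((Scheme.Modules.pullback p).obj O) (q ⁻¹ᵁ (⊤ : T.Opens)) (gen π g p q H hT) :=
  (isGen_pb p (isGen_one _)).restrict _

omit [Flat π] [IsLocallyNoetherian Z] [IsAffine T] [Algebra Γ(Z, V) Γ(T, ⊤)] in
include H hT in
theorem cov' : q ⁻¹ᵁ (⊤ : T.Opens) ≤ ⨆ i, CBC.bcCov p q (UT := (⊤ : T.Opens)) D.U i :=
  le_top.trans (CBC.iSup_bcCov g p q D H hT).ge

/-- Cochains of functions on the base change. -/
abbrev sec' : CBC.Sec (q.app ⊤).hom ((Scheme.Modules.pullback p).obj O) (le_refl (q ⁻¹ᵁ (⊤ : T.Opens))) ≃ₗ[Γ(T, ⊤)]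
    (CBC.cxT p q O (UT := (⊤ : T.Opens)) D.U).Z₀ 0 :=
  CBC.secEquiv (q.app ⊤).hom (CBC.bcCov_le p q D.U) ((Scheme.Modules.pullback p).obj O) (cov' π D g p q H hT)

omit [Flat π] [IsLocallyNoetherian Z] [IsAffine T] in
theorem cxBCf_oneC (b : Γ(T, ⊤)) :
    CBC.cxBCf π g p q hT halg O D.U D.hU H.w 0 (b ⊗ₜ oneC π D) =
      (sec' π D g p q H hT (b • (show CBC.Sec (q.app ⊤).hom ((Scheme.Modules.pullback p).obj O)
        (le_refl (q ⁻¹ᵁ (⊤ : T.Opens))) from gen π g p q H hT))).1 := by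
  rw [map_smul]
  funext x
  refine (CBC.cxBCf_tmul π g p q hT halg O D.U D.hU H.w 0 b (oneC π D) x).trans ?_
  refine congrArg (fun t : CBC.Sec (q.app ⊤).hom ((Scheme.Modules.pullback p).obj O)
    (CBC.inter_le' _ x (CBC.bcCov_le p q D.U)) => b • t) ?_
  show LimTop.unitSec p O _ (res O (CBC.inter_le' D.U x D.hU) (one' (π ⁻¹ᵁ V))) = res _ _ (gen π g p q H hT)
  rw [LimTop.unitSec_res, LimTop.unitSec_apply, gen, res_res]
  rfl

omit [IsProper π] [Flat π] [IsLocallyNoetherian Z] [IsAffine T] [Algebra Γ(Z, V) Γ(T, ⊤)] in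
theorem smul_gen (b : Γ(T, ⊤)) :
    (b • (show CBC.Sec (q.app ⊤).hom ((Scheme.Modules.pullback p).obj O) (le_refl (q ⁻¹ᵁ (⊤ : T.Opens))) from
      gen π g p q H hT) : CBC.Sec (q.app ⊤).hom ((Scheme.Modules.pullback p).obj O) (le_refl (q ⁻¹ᵁ (⊤ : T.Opens)))) =
      (show Γ(X', q ⁻¹ᵁ (⊤ : T.Opens)) from q.app ⊤ b) • gen π g p q H hT :=
  congrArg (fun r : Γ(X', q ⁻¹ᵁ (⊤ : T.Opens)) => r • gen π g p q H hT) (rres_self le_rfl _)

omit [Flat π] [IsLocallyNoetherian Z] [IsAffine T] in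
include H halg in
theorem tmul_oneC_ne_zero [Nonempty X'] : (1 : Γ(T, ⊤)) ⊗ₜ[Γ(Z, V)] oneC π D ≠ 0 := by
  intro h
  have h1 := cxBCf_oneC π D g p q H hT halg 1
  rw [h, map_zero, one_smul] at h1
  have h2 : (show CBC.Sec (q.app ⊤).hom ((Scheme.Modules.pullback p).obj O) (le_refl (q ⁻¹ᵁ (⊤ : T.Opens)))
      from gen π g p q H hT) = 0 :=
    (sec' π D g p q H hT).injective (Subtype.ext (h1.symm.trans (congrArg Subtype.val (map_zero (sec' π D g p q H hT))).symm))
  have h3 : (1 : Γ(X', q ⁻¹ᵁ (⊤ : T.Opens))) = 0 := (isGen_gen π g p q H hT).injective le_rfl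
    (by rw [res_self, one_smul, zero_smul]; exact h2)
  obtain ⟨x⟩ := ‹Nonempty X'›
  have h4 := congrArg (X'.presheaf.germ (q ⁻¹ᵁ (⊤ : T.Opens)) x trivial) h3
  rw [map_one, map_zero] at h4
  exact one_ne_zero h4

end bc

variable (hh : ∀ z ∈ V, Module.finrank (Z.residueField z) Γ(π.fiber z, ⊤) = 1)

include hh hV in
theorem oneCls_residueField_ne_zero (x : PrimeSpectrum Γ(Z, V)) :
    oneCls π D (1 : x.asIdeal.ResidueField) ≠ 0 := by
  let κ := x.asIdeal.ResidueField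
  let T := Spec (CommRingCat.of κ)
  let g : T ⟶ Z := Spec.map (CommRingCat.ofHom (algebraMap Γ(Z, V) κ)) ≫ hV.fromSpec
  have hT : ⊤ ≤ g ⁻¹ᵁ V := fun t _ => by
    have : hV.fromSpec (Spec.map (CommRingCat.ofHom (algebraMap Γ(Z, V) κ)) t) ∈ (V : Set Z) :=
      hV.range_fromSpec ▸ Set.mem_range_self _
    exact this
  let : Algebra Γ(Z, V) Γ(T, ⊤) := (g.appLE V ⊤ hT).hom.toAlgebra
  obtain ⟨t⟩ : Nonempty T := inferInstanceAs (Nonempty (PrimeSpectrum κ))
  obtain ⟨y⟩ := Seesaw.nonempty_fiber_of_finrank π (g t) (hh _ (hT (x := t) trivial))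
  have hy : π (π.fiberι (g t) y) = g t := (π.range_fiberι (g t)).subset (Set.mem_range_self y)
  obtain ⟨w, -, -⟩ := Scheme.Pullback.exists_preimage_pullback (f := π) (g := g) _ t hy
  have : Nonempty ↥(pullback π g) := ⟨w⟩
  have hne := tmul_oneC_ne_zero π D g (pullback.fst π g) (pullback.snd π g) (IsPullback.of_hasPullback π g) hT rfl
  intro h
  have h0 : oneC π D ⊗ₜ[Γ(Z, V)] (1 : κ) = 0 := (mk_eq_mk_zero π D _).mp h
  let ρ : κ →ₗ[Γ(Z, V)] Γ(T, ⊤) :=
    { toFun := (Scheme.ΓSpecIso (CommRingCat.of κ)).inv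
      map_add' := map_add _
      map_smul' := fun a c => by
        rw [Algebra.smul_def, map_mul, RingHom.id_apply, Algebra.smul_def]
        refine congrArg (· * _) ?_
        show _ = (g.appLE V ⊤ hT).hom a
        simp only [g, Scheme.Hom.comp_appLE]
        rw [hV.fromSpec_app_self, CategoryTheory.Category.assoc]
        have key := CBC.inv_map_appLE' (CommRingCat.ofHom (algebraMap Γ(Z, V) κ)) (hV.fromSpec ⁻¹ᵁ V) le_top
          (by rw [IsAffineOpen.fromSpec_preimage_self]; exact fun _ _ => trivial) hV.fromSpec_preimage_self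
        exact (ConcreteCategory.congr_hom key a).symm }
  have h1 := congrArg (fun z => TensorProduct.comm Γ(Z, V) _ _ (ρ.lTensor _ z)) h0
  simp only [LinearMap.lTensor_tmul, map_zero, TensorProduct.comm_tmul] at h1
  exact hne (by rw [show (1 : Γ(T, ⊤)) = ρ 1 from (map_one (Scheme.ΓSpecIso (CommRingCat.of κ)).inv.hom).symm]; exact h1)

include hh hV in
theorem kerRank_eq_one (w : (D.K O).Win 0) (x : PrimeSpectrum Γ(Z, V)) :
    haveI := w.fp
    CBC.kerRank w.u x = 1 := by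
  have := w.fp
  have hO := PicLoc.isInvertible_structureModule W
  rw [CBC.kerRank_pt hV D w]
  exact (Seesaw.fiberRank_eq_of_iso π _ ((PicGrp.cls_eq_one_iff (PicLoc.isInvertible_pullback _ hO)).mp
    (by rw [PicLaw.cls_pullback _ hO, PicLaw.cls_one, map_one]))).trans (hh _ (CBC.pt_mem hV x))

section bc

variable {T X' : Scheme.{u}} [IsAffine T] (g : T ⟶ Z) (p : X' ⟶ W) (q : X' ⟶ T)

include hh hV in
/-- Functions on the base change over an affine open. -/
theorem bijective_appTop (H : IsPullback p q π g) (hT : ⊤ ≤ g ⁻¹ᵁ V) : Bijective q.appTop := by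
  let : Algebra Γ(Z, V) Γ(T, ⊤) := (g.appLE V ⊤ hT).hom.toAlgebra
  have hO := PicLoc.isInvertible_structureModule W
  have hC := Seesaw.isCoh_of_invertible hO
  have : (O).IsQuasicoherent := hC.1
  obtain ⟨D, hD⟩ : ∃ D : CBC.Model π V, ∀ i, Nonempty ((D.K O).Win i) :=
    CBC.exists_model_win hC (Seesaw.isFlatOver_of_invertible π hO) Seesaw.finCoh hV
  obtain ⟨w⟩ := hD 0
  have := w.fp
  let B : Type u := Γ(T, ⊤)
  have hG : Module.Flat Γ(Z, V) w.G := w.lExact_iff.1
    (CBC.lExact_zero _ fun n => D.flat_K O hV (Seesaw.isFlatOver_of_invertible π hO) n)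
  have hbij := bijective_Φ_tmul w (oneCls π D (1 : Γ(Z, V))) (fun x => kerRank_eq_one π hV D hh w x)
    (fun x => by rw [Φ_oneCls]; exact oneCls_residueField_ne_zero π hV D hh x) B
  rw [show (fun b : B => (D.K O).Φ 0 B (b ⊗ₜ oneCls π D (1 : Γ(Z, V)))) = oneCls π D from
    funext (Φ_oneCls π D)] at hbij
  have hcx := CBC.cxBC_bijective π g p q hT rfl O D.U D.hU H.w H hV (isAffineOpen_top T) D.aff
  let e := sec' π D g p q H hT
  refine ⟨?_, fun t => ?_⟩
  · rw [injective_iff_map_eq_zero]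
    intro b hb
    have h1 := cxBCf_oneC π D g p q H hT rfl b
    rw [smul_gen, show (q.app ⊤) b = 0 from hb, zero_smul] at h1
    have h2 : b ⊗ₜ[Γ(Z, V)] oneC π D = 0 :=
      (hcx 0).1 ((h1.trans (congrArg Subtype.val (map_zero e))).trans (map_zero _).symm)
    refine hbij.1 (((mk_eq_mk_zero π D _).mpr ?_).trans ((mk_eq_mk_zero π D _).mpr ?_).symm)
    · exact (TensorProduct.comm Γ(Z, V) _ _).injective (by rw [TensorProduct.comm_tmul, map_zero]; exact h2)
    · exact tmul_zero _ _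
  · let c := e ((show Γ(X', q ⁻¹ᵁ (⊤ : T.Opens)) from t) • gen π g p q H hT)
    obtain ⟨z, hz⟩ := (hcx 0).2 c.1
    have hd : ((D.K O).bc B).d 0 z = 0 := (hcx 1).1 (by
      rw [(CBC.cxBC π g p q hT rfl O D.U D.hU H.w).comm, hz, map_zero]; exact c.2)
    obtain ⟨b, hb⟩ := hbij.2 (Submodule.Quotient.mk ⟨TensorProduct.comm Γ(Z, V) _ _ z, by
      show ((D.K O).d 0).rTensor B _ = 0
      rw [show ((D.K O).d 0).rTensor B (TensorProduct.comm Γ(Z, V) B _ z) =
        TensorProduct.comm Γ(Z, V) B _ (((D.K O).d 0).baseChange B z) from ?_]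
      · exact (congrArg (TensorProduct.comm Γ(Z, V) B _) hd).trans (map_zero _)
      clear hd hz
      induction z using TensorProduct.induction_on with
      | zero => simp
      | tmul a x => simp
      | add a a' ha ha' => simp [ha, ha']⟩)
    rw [oneCls, ← sub_eq_zero, ← Submodule.Quotient.mk_sub, mk_eq_mk_zero] at hb
    have hz' : z = b ⊗ₜ oneC π D := (TensorProduct.comm Γ(Z, V) _ _).injective
      ((sub_eq_zero.mp hb).symm.trans (TensorProduct.comm_tmul _ _ _ _ _).symm)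
    have h1 := cxBCf_oneC π D g p q H hT rfl b
    rw [← hz'] at h1
    have h1 := hz.symm.trans h1
    refine ⟨b, ?_⟩
    have h2 := e.injective (Subtype.ext h1)
    exact ((isGen_gen π g p q H hT).injective le_rfl (by
      rw [res_self]; exact h2.trans (smul_gen π g p q H hT b))).symm

end bc

section global

variable {T X' : Scheme.{u}} (g : T ⟶ Z) (p : X' ⟶ W) (q : X' ⟶ T)

/-- **Functions on base changes** over the locus where the fibres have only constant functions. -/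
theorem bijective_app (U₀ : Z.Opens) (hh : ∀ z ∈ U₀, Module.finrank (Z.residueField z) Γ(π.fiber z, ⊤) = 1)
    (H : IsPullback p q π g) (U : T.Opens) (hU : U ≤ g ⁻¹ᵁ U₀) : Bijective (q.app U) := by
  let B := {V : T.Opens // IsAffineOpen V ∧ ∃ US : Z.Opens, IsAffineOpen US ∧ US ≤ U₀ ∧ V ≤ g ⁻¹ᵁ US}
  have hB : ∀ V : B, Bijective (q.app V.1) := fun ⟨UT, hUT, US, hUS, hUS0, hT⟩ => by
    have : IsAffine UT := hUT
    have H' : IsPullback ((q ⁻¹ᵁ UT).ι ≫ p) (q ∣_ UT) π (UT.ι ≫ g) :=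
      (isPullback_morphismRestrict q UT).flip.paste_horiz H
    have h := bijective_appTop π hUS (fun z hz => hh z (hUS0 hz)) (UT.ι ≫ g) ((q ⁻¹ᵁ UT).ι ≫ p) (q ∣_ UT) H'
      (fun y _ => hT y.2)
    rw [Scheme.Hom.appTop, morphismRestrict_app] at h
    have e : UT.ι ''ᵁ ⊤ = UT := UT.ι_image_top
    have h' : Bijective (q.app (UT.ι ''ᵁ ⊤)) := by
      simp only [CommRingCat.comp_apply] at h
      exact (Bijective.of_comp_iff' (ConcreteCategory.bijective_of_isIso (X'.presheaf.map _)) _).mp h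
    have key : ∀ U₁ U₂ : T.Opens, U₁ = U₂ → Bijective (q.app U₁) → Bijective (q.app U₂) := fun U₁ U₂ hUU hb => by
      subst hUU; exact hb
    exact key _ _ e h'
  have hcov : ∀ (O' : T.Opens) (x : T), O' ≤ g ⁻¹ᵁ U₀ → x ∈ O' → ∃ V : B, x ∈ V.1 ∧ V.1 ≤ O' := fun O' x hO' hx => by
    obtain ⟨US, hUS, hxUS, hUS0⟩ := exists_isAffineOpen_mem_and_subset (X := Z) (U := U₀) (hO' hx)
    obtain ⟨V, hV, hxV, hVle⟩ := exists_isAffineOpen_mem_and_subset (X := T) (show x ∈ O' ⊓ g ⁻¹ᵁ US from ⟨hx, hxUS⟩)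
    exact ⟨⟨V, hV, US, hUS, hUS0, fun y hy => (hVle hy).2⟩, hxV, fun y hy => (hVle hy).1⟩
  have hnat : ∀ {V V' : T.Opens} (h : V' ≤ V) (a : Γ(T, V)),
      q.app V' (rres h a) = rres (q.preimage_mono h) (q.app V a) :=
    fun h a => ConcreteCategory.congr_hom (q.naturality (homOfLE h).op) a
  have hinj : ∀ O' : T.Opens, O' ≤ g ⁻¹ᵁ U₀ → Injective (q.app O') := by
    intro O' hO'
    rw [injective_iff_map_eq_zero]
    intro a ha
    choose V hxV hVW using fun x : O' => hcov O' x hO' x.2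
    refine eq_of_local_fun (U := fun x => (V x).1) hVW (fun y hy => ⟨⟨y, hy⟩, hxV _⟩) a 0 fun x => (hB (V x)).1 ?_
    rw [hnat, ha, map_zero, map_zero, map_zero]
  refine ⟨hinj U hU, fun c => ?_⟩
  choose V hxV hVW using fun x : U => hcov U x hU x.2
  choose a ha using fun x : U => (hB (V x)).2 (rres (q.preimage_mono (hVW x)) c)
  obtain ⟨s, hs, -⟩ := T.sheaf.existsUnique_gluing' (fun x => (V x).1) U (fun x => homOfLE (hVW x))
    (fun y hy => Opens.mem_iSup.2 ⟨⟨y, hy⟩, hxV _⟩) a (fun x y => hinj _ ((inf_le_left.trans (hVW x)).trans hU) (by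
      show q.app _ (rres inf_le_left (a x)) = q.app _ (rres inf_le_right (a y))
      rw [hnat, hnat, ha, ha, rres_rres, rres_rres]))
  refine ⟨s, X'.sheaf.eq_of_locally_eq' (fun x => q ⁻¹ᵁ (V x).1) (q ⁻¹ᵁ U)
    (fun x => homOfLE (q.preimage_mono (hVW x)))
    (fun y hy => Opens.mem_iSup.2 ⟨⟨q y, hy⟩, hxV ⟨q y, hy⟩⟩) _ c fun x => ?_⟩
  exact ((hnat (hVW x) s).symm.trans (congrArg (q.app _) (hs x))).trans (ha x)

/-- The base itself. -/
theorem bijective_app_self (U₀ : Z.Opens) (hh : ∀ z ∈ U₀, Module.finrank (Z.residueField z) Γ(π.fiber z, ⊤) = 1)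
    (U : Z.Opens) (hU : U ≤ U₀) : Bijective (π.app U) :=
  bijective_app π (𝟙 Z) (𝟙 W) π U₀ hh (IsPullback.of_horiz_isIso ⟨by rw [Category.id_comp, Category.comp_id]⟩) U hU

end global

end Groth.Agent.Cube.Universal
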