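import Groth.Agent.Cube.Connected
import Groth.Agent.Cube.Seesaw

/-!
# The triviality locus of a family of classes on a product is closed

For `X`, `Y` proper and geometrically integral over a field and any locally Noetherian `Z`, a class on
`X × Y × Z` is trivial on the fibre at `z` iff it and its inverse have nonzero sections there.
-/

set_option autoImplicit false
universe u

open CategoryTheory CategoryTheory.Limits MonoidalCategory CartesianMonoidalCategory AlgebraicGeometry
open TopologicalSpace

noncomputable section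

namespace Groth.Agent.Cube.Global

open scoped Groth.Agent.PicLaw
open PicLaw (pl)
open PicLaw.Mumford (op)

variable {k : Type u} [Field k] {X Y Z : Over (Spec (CommRingCat.of k))}

attribute [local instance] stalkAlg

/-- The triviality locus in terms of the fibres of the projection. -/
theorem mem_trivLocus_iff_fiber (c : PicLoc.PicSet (X ⊗ (Y ⊗ Z)).left) (z : Z.left) :
    z ∈ trivLocus c ↔ pl ((proj X Y Z).fiberι z) c = 1 := by
  have H := isPullback_proj (X := X) (Y := Y) (fibMor z)
  have h : op (X ◁ Y ◁ fibMor z) c = pl H.isoPullback.hom (pl ((proj X Y Z).fiberι z) c) :=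
    (PicLaw.pl_congr H.isoPullback_hom_fst.symm c).trans (PicLaw.pl_comp _ _ c)
  refine ⟨fun hz => ?_, fun hz => ?_⟩
  · have h1 := congrArg (pl H.isoPullback.inv) (h.symm.trans hz)
    rw [← PicLaw.pl_comp, Iso.inv_hom_id, PicLaw.pl_id, map_one] at h1
    exact h1
  · show op (X ◁ Y ◁ fibMor z) c = 1
    rw [h, hz]
    exact map_one _

variable [IsProper X.hom] [IsProper Y.hom] [GeometricallyIntegral X.hom] [GeometricallyIntegral Y.hom]

theorem isIntegral_fiber_proj (z : Z.left) : IsIntegral ((proj X Y Z).fiber z) := by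
  let q : (Y ⊗ Z).left ⟶ Z.left := pullback.snd Y.hom Z.hom
  have : IsIntegral (q.fiber z) := inferInstance
  have : IsLocallyNoetherian (q.fiber z) :=
    LocallyOfFiniteType.isLocallyNoetherian (q.fiberToSpecResidueField z)
  have : IsIntegral (pullback (pullback.snd X.hom (Y ⊗ Z).hom) (q.fiberι z)) := inferInstance
  let e := pullbackRightPullbackFstIso q (Z.left.fromSpecResidueField z) (pullback.snd X.hom (Y ⊗ Z).hom)
  have : Nonempty ((proj X Y Z).fiber z) :=
    ⟨e.hom (Classical.arbitrary (pullback (pullback.snd X.hom (Y ⊗ Z).hom) (q.fiberι z)).carrier)⟩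
  exact @isIntegral_of_isOpenImmersion _ _ e.inv _ _ _

/-- The triviality locus is closed. -/
theorem isClosed_trivLocus [IsLocallyNoetherian Z.left] (c : PicLoc.PicSet (X ⊗ (Y ⊗ Z)).left) :
    IsClosed (trivLocus c) := by
  let π := proj X Y Z
  have : Flat π := show Flat (pullback.snd X.hom (Y ⊗ Z).hom ≫ pullback.snd Y.hom Z.hom) from inferInstance
  obtain ⟨L, hL, rfl⟩ := PicGrp.exists_eq_cls c
  obtain ⟨L', hL', hc'⟩ := PicGrp.exists_eq_cls (PicGrp.cls L hL)⁻¹
  suffices h : trivLocus (PicGrp.cls L hL) =
      {z | 1 ≤ CohIII.fiberRank π L 0 z} ∩ {z | 1 ≤ CohIII.fiberRank π L' 0 z} by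
    rw [h]; exact (Seesaw.isClosed_fiberRank_pos π hL).inter (Seesaw.isClosed_fiberRank_pos π hL')
  ext z
  have := isIntegral_fiber_proj (X := X) (Y := Y) z
  rw [mem_trivLocus_iff_fiber, Set.mem_inter_iff, Set.mem_setOf_eq, Set.mem_setOf_eq,
    Seesaw.one_le_fiberRank_iff π hL, Seesaw.one_le_fiberRank_iff π hL']
  constructor
  · intro h
    refine ⟨Seesaw.nontrivial_of_iso ((PicGrp.cls_eq_one_iff (PicLoc.isInvertible_pullback _ hL)).mp ?_),
      Seesaw.nontrivial_of_iso ((PicGrp.cls_eq_one_iff (PicLoc.isInvertible_pullback _ hL')).mp ?_)⟩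
    · rw [PicLaw.cls_pullback _ hL]; exact h
    · rw [PicLaw.cls_pullback _ hL', ← hc', map_inv, h, inv_one]
  · rintro ⟨h, h'⟩
    have hfield : IsField Γ(π.fiber z, ⊤) := by
      have : UniversallyClosed (π.fiberToSpecResidueField z) :=
        show UniversallyClosed (pullback.snd π (Z.left.fromSpecResidueField z)) from inferInstance
      exact isField_of_universallyClosed (K := Z.left.residueField z) (π.fiberToSpecResidueField z)
    have h1 := Seesaw.iso_of_sections hfield (L := CohIII.fiberMod π L z) (L' := CohIII.fiberMod π L' z)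
      (PicLoc.isInvertible_pullback _ hL) (PicLoc.isInvertible_pullback _ hL')
      ((PicGrp.cls_eq_one_iff (PicLaw.isInvertible_tensor (PicLoc.isInvertible_pullback _ hL)
        (PicLoc.isInvertible_pullback _ hL'))).mp (by
          rw [PicLaw.cls_tensor (PicLoc.isInvertible_pullback _ hL) (PicLoc.isInvertible_pullback _ hL'),
            PicLaw.cls_pullback _ hL, PicLaw.cls_pullback _ hL', ← hc', map_inv, mul_inv_cancel]))
      h h'
    have h2 := (PicGrp.cls_eq_one_iff (PicLoc.isInvertible_pullback _ hL)).mpr h1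
    rwa [PicLaw.cls_pullback _ hL] at h2

end Groth.Agent.Cube.Global
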