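import Mathlib.AlgebraicGeometry.Morphisms.Flat
import Mathlib.CategoryTheory.Monoidal.Cartesian.Over

/-!
# Functions on products of schemes over a field

For schemes `A`, `B` over a field and affine opens `U`, `V` the functions on `U ×ₖ V` are the tensor
product, naturally.
-/

set_option autoImplicit false
universe u

open CategoryTheory CategoryTheory.Limits MonoidalCategory CartesianMonoidalCategory AlgebraicGeometry
open scoped TensorProduct

noncomputable section

namespace Groth.Agent.Cube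

variable {k : Type u} [Field k]

theorem le_pre (A : Over (Spec (CommRingCat.of k))) (U : A.left.Opens) : U ≤ A.hom ⁻¹ᵁ ⊤ := fun _ _ => trivial

/-- The structure map to the functions on an open. -/
def str (A : Over (Spec (CommRingCat.of k))) (U : A.left.Opens) : CommRingCat.of k ⟶ Γ(A.left, U) :=
  (Scheme.ΓSpecIso (CommRingCat.of k)).inv ≫ A.hom.appLE ⊤ U (le_pre A U)

/-- The functions on an open as algebra. -/
@[implicit_reducible]
def alg (A : Over (Spec (CommRingCat.of k))) (U : A.left.Opens) : Algebra k Γ(A.left, U) :=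
  (str A U).hom.toAlgebra

attribute [scoped instance] alg

variable {A B W W' : Over (Spec (CommRingCat.of k))}

theorem appLE_congr' {X Y : Scheme.{u}} {f g : X ⟶ Y} (e : f = g) {U : Y.Opens} {V : X.Opens}
    (h : V ≤ f ⁻¹ᵁ U) : f.appLE U V h = g.appLE U V (e ▸ h) := by subst e; rfl

/-- Pullback of functions along a morphism over `k`. -/
def pull (f : W ⟶ A) (U : A.left.Opens) (V : W.left.Opens) (h : V ≤ f.left ⁻¹ᵁ U) :
    Γ(A.left, U) →ₐ[k] Γ(W.left, V) where
  toRingHom := (f.left.appLE U V h).hom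
  commutes' r := by
    show f.left.appLE U V h (str A U r) = str W V r
    rw [← CommRingCat.comp_apply]
    congr 2
    rw [str, str, Category.assoc, Scheme.Hom.appLE_comp_appLE, appLE_congr' (Over.w f)]

theorem pull_apply (f : W ⟶ A) (U : A.left.Opens) (V : W.left.Opens) (h : V ≤ f.left ⁻¹ᵁ U)
    (x : Γ(A.left, U)) : pull f U V h x = f.left.appLE U V h x := rfl

theorem pull_congr {f g : W ⟶ A} (e : f = g) {U : A.left.Opens} {V : W.left.Opens}
    (h : V ≤ f.left ⁻¹ᵁ U) (x : Γ(A.left, U)) : pull f U V h x = pull g U V (e ▸ h) x := by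
  subst e; rfl

theorem pull_pull (g : W' ⟶ W) (f : W ⟶ A) {U : A.left.Opens} {V : W.left.Opens} {V' : W'.left.Opens}
    (h : V ≤ f.left ⁻¹ᵁ U) (h' : V' ≤ g.left ⁻¹ᵁ V) (x : Γ(A.left, U)) :
    pull g V V' h' (pull f U V h x) = pull (g ≫ f) U V' (h'.trans (g.left.preimage_mono h)) x := by
  simp only [pull_apply, ← CommRingCat.comp_apply, Scheme.Hom.appLE_comp_appLE]
  rfl

/-- The open `U × V` of a product. -/
def box (U : A.left.Opens) (V : B.left.Opens) : (A ⊗ B).left.Opens :=
  (fst A B).left ⁻¹ᵁ U ⊓ (snd A B).left ⁻¹ᵁ V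

theorem box_le_fst (U : A.left.Opens) (V : B.left.Opens) : box U V ≤ (fst A B).left ⁻¹ᵁ U := inf_le_left

theorem box_le_snd (U : A.left.Opens) (V : B.left.Opens) : box U V ≤ (snd A B).left ⁻¹ᵁ V := inf_le_right

theorem box_mono {U U' : A.left.Opens} {V V' : B.left.Opens} (hU : U ≤ U') (hV : V ≤ V') :
    box U V ≤ box U' V' :=
  inf_le_inf (Scheme.Hom.preimage_mono _ hU) (Scheme.Hom.preimage_mono _ hV)

theorem box_inf (U U' : A.left.Opens) (V V' : B.left.Opens) :
    box U V ⊓ box U' V' = box (U ⊓ U') (V ⊓ V') :=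
  inf_inf_inf_comm _ _ _ _

/-- The map from the tensor product to functions on the product. -/
def mulMap (U : A.left.Opens) (V : B.left.Opens) :
    Γ(A.left, U) ⊗[k] Γ(B.left, V) →ₐ[k] Γ((A ⊗ B).left, box U V) :=
  Algebra.TensorProduct.lift (pull (fst A B) U _ (box_le_fst U V)) (pull (snd A B) V _ (box_le_snd U V))
    (fun _ _ => Commute.all _ _)

theorem mulMap_tmul (U : A.left.Opens) (V : B.left.Opens) (a : Γ(A.left, U)) (b : Γ(B.left, V)) :
    mulMap U V (a ⊗ₜ b) =
      pull (fst A B) U _ (box_le_fst U V) a * pull (snd A B) V _ (box_le_snd U V) b := rfl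

theorem bijective_mulMap {U : A.left.Opens} {V : B.left.Opens} (hU : IsAffineOpen U) (hV : IsAffineOpen V) :
    Function.Bijective (mulMap U V) := by
  have H : IsPullback (fst A B).left (snd A B).left A.hom B.hom := IsPullback.of_hasPullback A.hom B.hom
  have hiso := isIso_pushoutSection_of_isAffineOpen H (US := ⊤) (UT := V) (UX := U) (le_of_eq_of_le rfl le_top)
    le_top (UY := box U V) rfl (isAffineOpen_top _) hV hU
  have h1 := (isIso_pushoutSection_iff ..).mp hiso
  have h2 : IsPushout (CommRingCat.ofHom (algebraMap k Γ(A.left, U)))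
      (CommRingCat.ofHom (algebraMap k Γ(B.left, V)))
      ((fst A B).left.appLE U (box U V) (box_le_fst U V)) ((snd A B).left.appLE V (box U V) (box_le_snd U V)) :=
    h1.of_iso (Scheme.ΓSpecIso (CommRingCat.of k)) (Iso.refl _) (Iso.refl _) (Iso.refl _)
      (by simp [← cancel_epi (Scheme.ΓSpecIso (CommRingCat.of k)).inv, str, RingHom.algebraMap_toAlgebra])
      (by simp [← cancel_epi (Scheme.ΓSpecIso (CommRingCat.of k)).inv, str, RingHom.algebraMap_toAlgebra])
      (by simp) (by simp)
  let e := (CommRingCat.isPushout_tensorProduct k Γ(A.left, U) Γ(B.left, V)).isoIsPushout _ _ h2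
  have he : e.hom = CommRingCat.ofHom (mulMap (A := A) (B := B) U V).toRingHom := by
    apply (CommRingCat.isPushout_tensorProduct k Γ(A.left, U) Γ(B.left, V)).hom_ext
    · rw [IsPushout.inl_isoIsPushout_hom]
      ext a
      show _ = mulMap U V (a ⊗ₜ (1 : Γ(B.left, V)))
      rw [mulMap_tmul, map_one, mul_one]
      rfl
    · rw [IsPushout.inr_isoIsPushout_hom]
      ext b
      show _ = mulMap U V ((1 : Γ(A.left, U)) ⊗ₜ b)
      rw [mulMap_tmul, map_one, one_mul]
      rfl
  have hb := ConcreteCategory.bijective_of_isIso e.hom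
  rw [he] at hb
  exact hb

theorem pull_mulMap_tmul (h : W ⟶ A ⊗ B) {U : A.left.Opens} {V : B.left.Opens} {W₀ : W.left.Opens}
    (hle : W₀ ≤ h.left ⁻¹ᵁ box U V) (a : Γ(A.left, U)) (b : Γ(B.left, V)) :
    pull h (box U V) W₀ hle (mulMap U V (a ⊗ₜ b)) =
      pull (h ≫ fst A B) U W₀ (hle.trans (h.left.preimage_mono (box_le_fst U V))) a *
        pull (h ≫ snd A B) V W₀ (hle.trans (h.left.preimage_mono (box_le_snd U V))) b := by
  rw [mulMap_tmul, map_mul, pull_pull, pull_pull]

/-- Naturality of `mulMap`. -/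
theorem pull_mulMap {A' B' : Over (Spec (CommRingCat.of k))} (f : A' ⟶ A) (g : B' ⟶ B)
    (h : A' ⊗ B' ⟶ A ⊗ B) (hf : h ≫ fst A B = fst A' B' ≫ f) (hg : h ≫ snd A B = snd A' B' ≫ g)
    {U : A.left.Opens} {V : B.left.Opens} {U' : A'.left.Opens} {V' : B'.left.Opens}
    (hU : U' ≤ f.left ⁻¹ᵁ U) (hV : V' ≤ g.left ⁻¹ᵁ V) (hle : box U' V' ≤ h.left ⁻¹ᵁ box U V)
    (x : Γ(A.left, U) ⊗[k] Γ(B.left, V)) :
    pull h _ _ hle (mulMap U V x) =
      mulMap U' V' (Algebra.TensorProduct.map (pull f U U' hU) (pull g V V' hV) x) := by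
  induction x using TensorProduct.induction_on with
  | zero => simp only [map_zero]
  | add x y hx hy => simp only [map_add, hx, hy]
  | tmul a b =>
    rw [pull_mulMap_tmul, Algebra.TensorProduct.map_tmul, mulMap_tmul, pull_pull, pull_pull,
      pull_congr hf, pull_congr hg]

end Groth.Agent.Cube
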