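import Groth.Agent.Cube.Func
import Mathlib.RingTheory.Flat.Basic
import Mathlib.AlgebraicGeometry.Morphisms.Separated

/-!
# Functions vanishing on a closed subscheme of the second factor
-/

set_option autoImplicit false
universe u

open CategoryTheory CategoryTheory.Limits MonoidalCategory CartesianMonoidalCategory AlgebraicGeometry
open scoped TensorProduct

noncomputable section

namespace Groth.Agent.Cube

variable {k : Type u} [Field k] {A B B₀ A' B' B₀' : Over (Spec (CommRingCat.of k))}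

theorem isAffineOpen_box {U : A.left.Opens} {V : B.left.Opens} (hU : IsAffineOpen U) (hV : IsAffineOpen V) :
    IsAffineOpen (box U V) := by
  have H : IsPullback (fst A B).left (snd A B).left A.hom B.hom := IsPullback.of_hasPullback A.hom B.hom
  have : IsAffine (U : Scheme.{u}) := hU
  have : IsAffine (V : Scheme.{u}) := hV
  have : IsAffine ((⊤ : (Spec (CommRingCat.of k)).Opens) : Scheme.{u}) := isAffineOpen_top _
  exact .of_isIso (Scheme.Hom.isPullback_resLE H (US := ⊤) (UT := V) (UX := U)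
    (le_pre B V) (le_pre A U) (UY := box U V) rfl).isoPullback.hom

theorem isPullback_whiskerLeft' (A : Over (Spec (CommRingCat.of k))) (f : B₀ ⟶ B) :
    IsPullback (snd A B₀).left (A ◁ f).left f.left (snd A B).left := by
  refine (IsPullback.of_right (h₁₂ := (fst A B).left) (v₁₃ := A.hom) (h₂₂ := B.hom) ?_ ?_
    (IsPullback.of_hasPullback A.hom B.hom)).flip
  · rw [← Over.comp_left, whiskerLeft_fst, Over.w]
    exact IsPullback.of_hasPullback A.hom B₀.hom
  · exact congrArg CommaMorphism.left (whiskerLeft_snd A f)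

instance isClosedImmersion_whiskerLeft (A : Over (Spec (CommRingCat.of k))) (f : B₀ ⟶ B)
    [IsClosedImmersion f.left] : IsClosedImmersion (A ◁ f).left :=
  MorphismProperty.of_isPullback (isPullback_whiskerLeft' A f) ‹_›

instance surjective_whiskerLeft (A : Over (Spec (CommRingCat.of k))) (f : B₀ ⟶ B)
    [Surjective f.left] : Surjective (A ◁ f).left :=
  MorphismProperty.of_isPullback (isPullback_whiskerLeft' A f) ‹_›

theorem isSeparated_left (A : Over (Spec (CommRingCat.of k))) [IsSeparated A.hom] : A.left.IsSeparated := by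
  constructor
  rw [terminal.hom_ext (terminal.from A.left) (A.hom ≫ terminal.from _)]
  infer_instance

theorem isAffineOpen_inf (A : Over (Spec (CommRingCat.of k))) [IsSeparated A.hom] {U V : A.left.Opens}
    (hU : IsAffineOpen U) (hV : IsAffineOpen V) : IsAffineOpen (U ⊓ V) :=
  have := isSeparated_left A
  hU.inf hV

theorem le_id {U U' : A.left.Opens} (h : U' ≤ U) : U' ≤ (𝟙 A : A ⟶ A).left ⁻¹ᵁ U := h

theorem pull_id (U U' : A.left.Opens) (h : U' ≤ U) (x : Γ(A.left, U)) :
    pull (𝟙 A) U U' (le_id h) x = A.left.presheaf.map (homOfLE h).op x := by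
  rw [pull_apply]
  show Scheme.Hom.appLE (𝟙 A.left) U U' h x = _
  simp [Scheme.Hom.appLE]
  rfl

variable (i : B₀ ⟶ B)

/-- Functions on `V` vanishing on `B₀`. -/
abbrev K (V : B.left.Opens) : Submodule k Γ(B.left, V) :=
  LinearMap.ker (pull i V (i.left ⁻¹ᵁ V) le_rfl).toLinearMap

variable {i} {i' : B₀' ⟶ B'}

theorem pull_mem {f : B' ⟶ B} {f₀ : B₀' ⟶ B₀} (h : i' ≫ f = f₀ ≫ i) {V : B.left.Opens} {V' : B'.left.Opens}
    (hle : V' ≤ f.left ⁻¹ᵁ V) {x : Γ(B.left, V)} (hx : x ∈ K i V) : pull f V V' hle x ∈ K i' V' := by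
  have hx' : pull i V (i.left ⁻¹ᵁ V) le_rfl x = 0 := hx
  have hle₀ : i'.left ⁻¹ᵁ V' ≤ f₀.left ⁻¹ᵁ (i.left ⁻¹ᵁ V) := fun y hy => by
    have h1 : (i' ≫ f).left y ∈ V := hle hy
    rw [h] at h1
    exact h1
  show pull i' V' _ le_rfl (pull f V V' hle x) = 0
  rw [pull_pull, pull_congr h]
  exact ((pull_pull f₀ i le_rfl hle₀ x).symm.trans (congrArg _ hx')).trans (map_zero _)

/-- Functoriality of the kernel. -/
def kmap {f : B' ⟶ B} {f₀ : B₀' ⟶ B₀} (h : i' ≫ f = f₀ ≫ i) (V : B.left.Opens) (V' : B'.left.Opens)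
    (hle : V' ≤ f.left ⁻¹ᵁ V) : K i V →ₗ[k] K i' V' :=
  ((pull f V V' hle).toLinearMap.domRestrict _).codRestrict _ fun x => pull_mem h hle x.2

/-- Restriction of the kernel. -/
def kres (V V' : B.left.Opens) (hle : V' ≤ V) : K i V →ₗ[k] K i V' :=
  kmap (f := 𝟙 B) (f₀ := 𝟙 B₀) (by simp) V V' (le_id hle)

theorem kres_val (V V' : B.left.Opens) (hle : V' ≤ V) (x : K i V) :
    (kres (i := i) V V' hle x).1 = B.left.presheaf.map (homOfLE hle).op x.1 :=
  pull_id V V' hle x.1

variable (i)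

/-- Tensors of functions on `U` and kernel elements on `V` as functions on `U × V`. -/
def emb (U : A.left.Opens) (V : B.left.Opens) :
    Γ(A.left, U) ⊗[k] K i V →ₗ[k] Γ((A ⊗ B).left, box U V) :=
  (mulMap U V).toLinearMap ∘ₗ (K i V).subtype.lTensor _

theorem emb_tmul (U : A.left.Opens) (V : B.left.Opens) (a : Γ(A.left, U)) (x : K i V) :
    emb i U V (a ⊗ₜ x) = mulMap U V (a ⊗ₜ x.1) := rfl

theorem emb_injective {U : A.left.Opens} {V : B.left.Opens} (hU : IsAffineOpen U) (hV : IsAffineOpen V) :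
    Function.Injective (emb (A := A) i U V) :=
  (bijective_mulMap hU hV).1.comp
    (Module.Flat.lTensor_preserves_injective_linearMap _ (K i V).subtype_injective)

theorem preimage_box (U : A.left.Opens) (V : B.left.Opens) :
    (A ◁ i).left ⁻¹ᵁ box U V = box U (i.left ⁻¹ᵁ V) := by
  simp only [box, Scheme.Hom.preimage_inf, ← Scheme.Hom.comp_preimage, ← Over.comp_left, whiskerLeft_fst,
    whiskerLeft_snd]

theorem exists_emb_eq [IsAffineHom i.left] {U : A.left.Opens} {V : B.left.Opens} (hU : IsAffineOpen U)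
    (hV : IsAffineOpen V) (x : Γ((A ⊗ B).left, box U V))
    (hx : (A ◁ i).left.app _ x = 0) : ∃ z, emb i U V z = x := by
  obtain ⟨y, rfl⟩ := (bijective_mulMap hU hV).2 x
  have hle : box U (i.left ⁻¹ᵁ V) ≤ (A ◁ i).left ⁻¹ᵁ box U V := (preimage_box i U V).ge
  have hx' : pull (A ◁ i) (box U V) _ hle (mulMap U V y) = 0 := by
    rw [pull_apply, Scheme.Hom.appLE, CommRingCat.comp_apply, hx, map_zero]
  rw [pull_mulMap (𝟙 A) i (A ◁ i) (by simp) (by simp) (le_id le_rfl) le_rfl hle] at hx'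
  have h1 : Algebra.TensorProduct.map (pull (𝟙 A) U U (le_id le_rfl)) (pull i V (i.left ⁻¹ᵁ V) le_rfl) y = 0 :=
    (bijective_mulMap hU (hV.preimage i.left)).1 (hx'.trans (map_zero _).symm)
  have h2 : (pull i V (i.left ⁻¹ᵁ V) le_rfl).toLinearMap.lTensor Γ(A.left, U) y = 0 := by
    rw [← h1]
    clear hx hx' h1
    induction y using TensorProduct.induction_on with
    | zero => simp only [map_zero]
    | add y z hy hz => simp only [map_add, hy, hz]
    | tmul a b =>
      simp only [LinearMap.lTensor_tmul, AlgHom.toLinearMap_apply, Algebra.TensorProduct.map_tmul]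
      congr 1
      exact ((pull_id U U le_rfl a).trans (by simp)).symm
  obtain ⟨z, rfl⟩ := (Module.Flat.lTensor_exact Γ(A.left, U)
    (LinearMap.exact_subtype_ker_map (pull i V (i.left ⁻¹ᵁ V) le_rfl).toLinearMap) y).mp h2
  exact ⟨z, rfl⟩

variable {i}

theorem pull_emb {g : A' ⟶ A} {f : B' ⟶ B} {f₀ : B₀' ⟶ B₀} (h : i' ≫ f = f₀ ≫ i)
    (m : A' ⊗ B' ⟶ A ⊗ B) (hm₁ : m ≫ fst A B = fst A' B' ≫ g) (hm₂ : m ≫ snd A B = snd A' B' ≫ f)
    {U : A.left.Opens} {V : B.left.Opens} {U' : A'.left.Opens} {V' : B'.left.Opens}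
    (hU : U' ≤ g.left ⁻¹ᵁ U) (hV : V' ≤ f.left ⁻¹ᵁ V) (hle : box U' V' ≤ m.left ⁻¹ᵁ box U V)
    (z : Γ(A.left, U) ⊗[k] K i V) :
    pull m _ _ hle (emb i U V z) =
      emb i' U' V' (TensorProduct.map (pull g U U' hU).toLinearMap (kmap h V V' hV) z) := by
  induction z using TensorProduct.induction_on with
  | zero => simp only [map_zero]
  | add y z hy hz => simp only [map_add, hy, hz]
  | tmul a x =>
    rw [emb_tmul, pull_mulMap g f m hm₁ hm₂ hU hV hle, Algebra.TensorProduct.map_tmul,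
      TensorProduct.map_tmul, emb_tmul]
    rfl

theorem rres_emb {U U' : A.left.Opens} {V V' : B.left.Opens} (hU : U' ≤ U) (hV : V' ≤ V)
    (z : Γ(A.left, U) ⊗[k] K i V) :
    (A ⊗ B).left.presheaf.map (homOfLE (box_mono hU hV)).op (emb i U V z) =
      emb i U' V' (TensorProduct.map (pull (𝟙 A) U U' (le_id hU)).toLinearMap (kres V V' hV) z) := by
  rw [← pull_id]
  exact pull_emb (g := 𝟙 A) (f := 𝟙 B) (f₀ := 𝟙 B₀) (by simp) (𝟙 (A ⊗ B)) (by simp) (by simp) (le_id hU) (le_id hV)
    (le_id (box_mono hU hV)) z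

theorem emb_mul_emb {U : A.left.Opens} {V : B.left.Opens}
    (hsq : ∀ a b : Γ(B.left, V), a ∈ K i V → b ∈ K i V → a * b = 0)
    (y z : Γ(A.left, U) ⊗[k] K i V) : emb i U V y * emb i U V z = 0 := by
  induction y using TensorProduct.induction_on with
  | zero => simp only [map_zero, zero_mul]
  | add y y' hy hy' => simp only [map_add, add_mul, hy, hy', add_zero]
  | tmul a x =>
    induction z using TensorProduct.induction_on with
    | zero => simp only [map_zero, mul_zero]
    | add z z' hz hz' => simp only [map_add, mul_add, hz, hz', add_zero]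
    | tmul b x' =>
      rw [emb_tmul, emb_tmul, ← map_mul, Algebra.TensorProduct.tmul_mul_tmul, hsq _ _ x.2 x'.2,
        TensorProduct.tmul_zero, map_zero]

end Groth.Agent.Cube
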