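import Groth.Agent.Cube.Sec
import Groth.Agent.CohAff.CechH
import Groth.Agent.CohAff.AffineCech
import Mathlib.AlgebraicGeometry.Morphisms.Proper
import Mathlib.AlgebraicGeometry.Morphisms.Separated

/-!
# From formal triviality to triviality

An invertible module on a scheme proper over a Noetherian local ring `R`, whose restrictions to the
thickenings by powers of a nonzerodivisor `t` in the maximal ideal are trivial and whose `H¹` is
finite, is trivial.
-/

set_option autoImplicit false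
universe u

open CategoryTheory AlgebraicGeometry TopologicalSpace Opposite

noncomputable section

namespace Groth.Agent.Cube.Lift

open Groth.Agent.QCoh Groth.Agent.Props.GenLocus Groth.Agent.Props.GenPull Groth.Agent.Props.GenTensor
open Groth.Agent.CohAff (inter inter_le le_inter Cochain cd cmap toH toH_cd toH_map toH_congr aug exists_aug_eq
  exists_cd_eq_of_toH_eq_zero affCov good_affCov cd_zero_apply cd_cd cd_cmap cmap_apply inter_comp_le)

/-- A torsion exponent for a Noetherian module. -/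
theorem exists_pow_kills {R : Type*} [CommRing R] [IsNoetherianRing R] (M : Type*) [AddCommGroup M]
    [Module R M] [Module.Finite R M] (t : R) :
    ∃ N : ℕ, ∀ (x : M) (m : ℕ), t ^ m • x = 0 → t ^ N • x = 0 := by
  let f : ℕ →o Submodule R M :=
    ⟨fun m => LinearMap.ker (LinearMap.lsmul R M (t ^ m)), fun a b hab x hx => by
      simp only [LinearMap.mem_ker, LinearMap.lsmul_apply] at hx ⊢
      rw [← Nat.add_sub_cancel' hab, pow_add, mul_comm, mul_smul, hx, smul_zero]⟩
  obtain ⟨N, hN⟩ := monotone_stabilizes_iff_noetherian.mpr (inferInstance : IsNoetherian R M) f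
  refine ⟨N, fun x m hx => ?_⟩
  rcases le_total m N with h | h
  · rw [← Nat.add_sub_cancel' h, pow_add, mul_comm, mul_smul, hx, smul_zero]
  · have : x ∈ f m := by simpa [f] using hx
    rw [← hN m h] at this
    simpa [f] using this

variable {R : Type u} [CommRing R] {W : Scheme.{u}}

/-- The functions of the base on an open. -/
def gl (q : W ⟶ Spec (CommRingCat.of R)) (U : W.Opens) : R →+* Γ(W, U) :=
  (rres (le_top : U ≤ ⊤)).hom.comp (Coh.toGlobal q)

/-- A section of the underlying abelian sheaf as a section of the module. -/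
def tS {L : W.Modules} {V : W.Opens} (x : (Coh.toAb L).obj.obj (op V)) : Γ(L, V) := x

theorem rres_gl (q : W ⟶ Spec (CommRingCat.of R)) {U V : W.Opens} (h : V ≤ U) (r : R) :
    rres h (gl q U r) = gl q V r :=
  rres_rres _ _ _

theorem not_isUnit_germ_gl [IsLocalRing R] (q : W ⟶ Spec (CommRingCat.of R)) {t : R}
    (ht : t ∈ IsLocalRing.maximalIdeal R) {U : W.Opens} {x : W} (hx : x ∈ U)
    (hqx : q x = IsLocalRing.closedPoint R) : ¬ IsUnit (W.presheaf.germ U x hx (gl q U t)) := by
  intro h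
  have h1 : IsUnit (W.presheaf.germ ⊤ x trivial (Coh.toGlobal q t)) := by
    rwa [show W.presheaf.germ U x hx (gl q U t) = W.presheaf.germ ⊤ x trivial (Coh.toGlobal q t) from
      W.presheaf.germ_res_apply (homOfLE le_top) x hx _] at h
  have h2 : x ∈ W.basicOpen (q.appTop ((Scheme.ΓSpecIso (CommRingCat.of R)).inv t)) :=
    (W.mem_basicOpen _ x (Opens.mem_top x)).mpr h1
  have h2' : q x ∈ (Spec (CommRingCat.of R)).basicOpen ((Scheme.ΓSpecIso (CommRingCat.of R)).inv t) :=
    ((Scheme.preimage_basicOpen q _).symm ▸ h2 :)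
  simp only [basicOpen_eq_of_affine] at h2'
  simp at h2'
  rw [hqx] at h2'
  exact h2' ht

theorem exists_frame_cover [CompactSpace W] {L : W.Modules} (hL : PicF.IsInvertible L) :
    ∃ (ι : Type u) (_ : Finite ι) (U : ι → W.Opens) (e : ∀ p, Γ(L, U p)),
      (∀ p, IsAffineOpen (U p)) ∧ (∀ p, IsGen L (U p) (e p)) ∧ ∀ x, ∃ p, x ∈ U p := by
  have h : ∀ x : W, ∃ (U : W.Opens) (e : Γ(L, U)), x ∈ U ∧ IsAffineOpen U ∧ IsGen L U e := fun x => by
    obtain ⟨V, e, hxV, he⟩ := exists_isGen hL x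
    obtain ⟨U, hU, hxU, hUV⟩ := exists_isAffineOpen_mem_and_subset hxV
    exact ⟨U, res L hUV e, hxU, hU, he.restrict _⟩
  choose U e hx hU he using h
  obtain ⟨s, hs⟩ := isCompact_univ.elim_finite_subcover (fun x => ((U x : W.Opens) : Set W))
    (fun x => (U x).2) (fun x _ => Set.mem_iUnion.mpr ⟨x, hx x⟩)
  refine ⟨s, inferInstance, fun p => U p.1, fun p => e p.1, fun p => hU p.1, fun p => he p.1, fun x => ?_⟩
  obtain ⟨p, hp, hxp⟩ := Set.mem_iUnion₂.mp (hs (Set.mem_univ x))
  exact ⟨⟨p, hp⟩, hxp⟩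

variable [IsNoetherianRing R] [IsLocalRing R]

/-- **Triviality from formal triviality.** -/
theorem trivial_of_formal (q : W ⟶ Spec (CommRingCat.of R)) [IsProper q] {L : W.Modules}
    (hL : PicF.IsInvertible L) {t : R} (ht : t ∈ IsLocalRing.maximalIdeal R)
    (hreg : ∀ U : W.Opens, IsAffineOpen U → ∀ a : Γ(W, U), gl q U t * a = 0 → a = 0)
    (hfin : letI : W.Over (Spec (CommRingCat.of R)) := ⟨q⟩; Module.Finite R (Coh.HH W L 1))
    (Z : ℕ → Scheme.{u}) (i : ∀ n, Z n ⟶ W) [∀ n, IsClosedImmersion (i n)]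
    (hker : ∀ n (U : W.Opens), IsAffineOpen U → ∀ a : Γ(W, U), (i n).app U a = 0 →
      ∃ b, a = gl q U (t ^ n) * b)
    (hrange : ∀ n, n ≠ 0 → ∀ x, q x = IsLocalRing.closedPoint R → ∃ y, i n y = x)
    (htriv : ∀ n, Nonempty ((Scheme.Modules.pullback (i n)).obj L ≅ Coh.structureModule (Z n))) :
    Nonempty (L ≅ Coh.structureModule W) := by
  let : W.Over (Spec (CommRingCat.of R)) := ⟨q⟩
  have := hfin
  haveI : L.IsQuasicoherent := ProjTwist.isQCoh_of_isInvertible hL
  have : CompactSpace W := QuasiCompact.compactSpace_of_compactSpace q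
  have : W.IsSeparated := by
    constructor
    rw [Limits.terminal.hom_ext (Limits.terminal.from W) (q ≫ Limits.terminal.from _)]
    infer_instance
  obtain ⟨ι, _, U, e, hU, he, hcov⟩ := exists_frame_cover hL
  have hUtop : ⨆ p, U p = ⊤ := top_le_iff.mp fun x _ => Opens.mem_iSup.mpr (hcov x)
  have hmem : ∀ {n : ℕ} (x : Fin (n + 1) → ι), (affCov W).mem (inter U x) := fun x =>
    IsAffineOpen.iInf fun a => hU (x a)
  obtain ⟨N, hN⟩ := exists_pow_kills (R := R) (Coh.HH W L 1) t
  set n := N + 1 with hn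
  obtain ⟨g, hg⟩ := exists_gen_of_iso (htriv n)
  -- local lifts of the trivialisation
  have hlift : ∀ p, ∃ c : Γ(W, U p), IsUnit ((i n).app _ c) ∧
      pb (i n) (c • e p) = res _ (le_top : i n ⁻¹ᵁ U p ≤ ⊤) g := by
    intro p
    obtain ⟨v, hv, -⟩ := hg.exists_eq (le_top : i n ⁻¹ᵁ U p ≤ ⊤) (pb (i n) (e p))
    obtain ⟨a, ha, -⟩ := (isGen_pb (i n) (he p)).exists_eq le_rfl (res _ (le_top : i n ⁻¹ᵁ U p ≤ ⊤) g)
    rw [res_self] at ha
    obtain ⟨c, hc⟩ := (i n).app_surjective (U p) (hU p) a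
    refine ⟨c, hc ▸ ?_, by rw [pb_smul, hc, ← ha]⟩
    have h1 : (1 : Γ(Z n, i n ⁻¹ᵁ U p)) • res _ (le_top : i n ⁻¹ᵁ U p ≤ ⊤) g =
        (a * v) • res _ (le_top : i n ⁻¹ᵁ U p ≤ ⊤) g := by
      rw [one_smul, ← smul_smul, ← hv, ← ha]
    exact IsUnit.of_mul_eq_one v (hg.injective _ h1).symm
  choose c hcu hc using hlift
  let F := Coh.toAb L
  let s : Cochain F.obj U 0 := fun x => res L (inter_le U x 0) (c (x 0) • e (x 0))
  let m : ∀ (r : R), Cochain F.obj U 1 →+ Cochain F.obj U 1 := fun r =>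
    cmap (Coh.smulAb L (Coh.toGlobal q r)).hom U 1
  have hsmul : ∀ (r : R) (V : W.Opens) (x : Γ(L, V)),
      tS ((Coh.smulAb L (Coh.toGlobal q r)).hom.app (op V) x) = gl q V r • x := fun r V x => rfl
  have hd : ∀ x : Fin 2 → ι, ∃ w : Γ(L, inter U x), tS (cd F.obj U 0 s x) = gl q (inter U x) (t ^ n) • w := by
    intro x
    obtain ⟨a, ha, -⟩ := (he (x 0)).exists_eq (inter_le U x 0) (tS (cd F.obj U 0 s x))
    have hcd : tS (cd F.obj U 0 s x) =
        res L ((inter_comp_le U x (0 : Fin 2).succAbove).trans (inter_le U _ 0)) (c (x ((0 : Fin 2).succAbove 0)) • e (x ((0 : Fin 2).succAbove 0))) -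
        res L ((inter_comp_le U x (1 : Fin 2).succAbove).trans (inter_le U _ 0)) (c (x ((1 : Fin 2).succAbove 0)) • e (x ((1 : Fin 2).succAbove 0))) := by
      rw [cd_zero_apply, ← res_res L (inter_le U (x ∘ (0 : Fin 2).succAbove) 0) (inter_comp_le U x (0 : Fin 2).succAbove),
        ← res_res L (inter_le U (x ∘ (1 : Fin 2).succAbove) 0) (inter_comp_le U x (1 : Fin 2).succAbove)]
      rfl
    have h0 : pb (i n) (tS (cd F.obj U 0 s x)) = 0 := by
      rw [hcd]
      refine (map_sub (LFFrame.unitSec (i n) L (inter U x)) _ _).trans (sub_eq_zero.mpr ?_)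
      show pb (i n) (res L _ _) = pb (i n) (res L _ _)
      rw [pb_res, pb_res, hc, hc, res_res, res_res]
    have h1 : (i n).app (inter U x) a = 0 := by
      rw [ha, pb_smul, pb_res] at h0
      refine (isGen_pb (i n) (he (x 0))).injective ((i n).preimage_mono (inter_le U x 0)) (h0.trans ?_)
      rw [zero_smul]
    obtain ⟨b, rfl⟩ := hker n _ (hmem x) a h1
    exact ⟨b • res L (inter_le U x 0) (e (x 0)), by rw [ha, smul_smul]⟩
  choose w hw using hd
  have hreg' : ∀ (r : ℕ) (V : W.Opens), IsAffineOpen V → ∀ a : Γ(W, V), gl q V (t ^ r) * a = 0 → a = 0 := by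
    intro r V hV
    induction r with
    | zero => intro a ha; simpa using ha
    | succ r ih =>
      intro a ha
      rw [pow_succ, map_mul, mul_assoc] at ha
      exact hreg V hV a (ih _ ha)
  have hmw : m (t ^ n) w = cd F.obj U 0 s := funext fun x => ((hsmul _ _ _).trans (hw x).symm)
  have hwc : cd F.obj U 1 w = 0 := by
    funext y
    obtain ⟨a, ha, -⟩ := (he (y 0)).exists_eq (inter_le U y 0) (tS (cd F.obj U 1 w y))
    have h0 : cmap (Coh.smulAb L (Coh.toGlobal q (t ^ n))).hom U 2 (cd F.obj U 1 w) = 0 := by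
      rw [← cd_cmap]
      show cd F.obj U 1 (m (t ^ n) w) = 0
      rw [hmw, cd_cd]
    have h1 : gl q (inter U y) (t ^ n) • (tS (cd F.obj U 1 w y)) = 0 :=
      (hsmul _ _ _).symm.trans (congrFun h0 y)
    rw [ha, smul_smul] at h1
    have h2 := hreg' n _ (hmem y) a ((he (y 0)).injective (inter_le U y 0) (h1.trans (zero_smul _ _).symm))
    show (tS (cd F.obj U 1 w y)) = 0
    rw [ha, h2, zero_smul]
  let ξ : Coh.HH W L 1 := toH hUtop 1 F w hwc
  have hξ : ∀ r, r • ξ = toH hUtop 1 F (m r w)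
      ((cd_cmap _ U 1 w).trans ((congrArg _ hwc).trans (map_zero _))) := fun r =>
    (toH_map hUtop (Coh.smulAb L (Coh.toGlobal q r)) w hwc).symm
  have hNξ : t ^ N • ξ = 0 := hN ξ n (by
    rw [hξ, toH_congr hUtop hmw _ (cd_cd _ _ _ _)]
    exact toH_cd hUtop F s)
  rw [hξ] at hNξ
  obtain ⟨b, hb⟩ := exists_cd_eq_of_toH_eq_zero hUtop (fun x => hmem x) (good_affCov (M := L)) _ hNξ
  let s' : Cochain F.obj U 0 := s - cmap (Coh.smulAb L (Coh.toGlobal q t)).hom U 0 b
  have hs' : cd F.obj U 0 s' = 0 := by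
    rw [map_sub, sub_eq_zero, cd_cmap, hb, ← hmw]
    funext x
    refine (hsmul _ _ _).trans (Eq.trans ?_ (hsmul _ _ _).symm)
    show _ = gl q (inter U x) t • tS ((Coh.smulAb L (Coh.toGlobal q (t ^ N))).hom.app (op (inter U x)) (w x))
    rw [hsmul, smul_smul, ← map_mul, ← pow_succ']
  obtain ⟨σ, hσ⟩ := exists_aug_eq F hUtop hs'
  let φ := homOfSec (L := L) (σ : Γ(L, ⊤))
  have hfib : ∀ x, q x = IsLocalRing.closedPoint R → x ∈ CohB1.genLocus L φ := by
    intro x hx
    obtain ⟨p, hp⟩ := hcov x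
    let z : Fin 1 → ι := fun _ => p
    have hz : inter U z ≤ U p := inter_le U z 0
    have hxz : x ∈ inter U z := Groth.Agent.CohAff.mem_inter.mpr fun _ => hp
    obtain ⟨β, hβ, -⟩ := (he p).exists_eq hz (tS (b z))
    let a := rres hz (c p) - gl q (inter U z) t * β
    have hsec : sec φ (inter U z) = a • res L hz (e p) := by
      rw [sec_homOfSec]
      refine (congrFun hσ z).trans ?_
      show res L hz (c p • e p) - tS ((Coh.smulAb L (Coh.toGlobal q t)).hom.app (op (inter U z)) (b z)) = _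
      rw [hsmul, res_smul]
      change _ - gl q (inter U z) t • tS (b z) = _
      rw [hβ, smul_smul, ← sub_smul]
    obtain ⟨y, rfl⟩ := hrange n (Nat.succ_ne_zero N) x hx
    have hcy : IsUnit (W.presheaf.germ (U p) (i n y) hp (c p)) := by
      have h5 := (hcu p).map ((Z n).presheaf.germ (i n ⁻¹ᵁ U p) y hp).hom
      have h6 : IsUnit (((i n).stalkMap y).hom (W.presheaf.germ (U p) (i n y) hp (c p))) :=
        (Scheme.Hom.germ_stalkMap_apply (i n) (U p) y hp (c p)).symm ▸ h5
      exact (isUnit_map_iff ((i n).stalkMap y).hom _).mp h6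
    have ha : IsUnit (W.presheaf.germ (inter U z) (i n y) hxz a) := by
      have hsum : IsUnit (W.presheaf.germ (inter U z) (i n y) hxz a +
          W.presheaf.germ (inter U z) (i n y) hxz (gl q (inter U z) t * β)) := by
        rw [← map_add, sub_add_cancel]
        rwa [W.presheaf.germ_res_apply]
      refine (IsLocalRing.isUnit_or_isUnit_of_isUnit_add hsum).resolve_right fun h => ?_
      rw [map_mul] at h
      exact not_isUnit_germ_gl q ht hxz hx (IsUnit.mul_iff.mp h).1
    have hmem' : i n y ∈ CohB1.genLocus L φ ⊓ inter U z := by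
      rw [genLocus_inf ((he p).restrict hz) φ hsec]
      exact (W.mem_basicOpen a (i n y) hxz).mpr ha
    exact hmem'.1
  have hall : ∀ x, x ∈ CohB1.genLocus L φ := by
    by_contra hne
    push Not at hne
    obtain ⟨x, hx⟩ := hne
    have hcl : IsClosed (q '' (CohB1.genLocus L φ : Set W)ᶜ) :=
      q.isClosedMap _ (CohB1.genLocus L φ).2.isClosed_compl
    obtain ⟨y, hy, hy'⟩ := (IsLocalRing.specializes_closedPoint (q x)).mem_closed hcl ⟨x, hx, rfl⟩
    exact hy (hfib y hy')
  have hgen : IsGen L ⊤ (sec φ ⊤) := IsGen.of_local fun x _ =>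
    ⟨_, le_top, hall x, by rw [sec_res]; exact isGen_genLocus φ⟩
  exact PicLaw.nonempty_iso_of_transition (fun _ : PUnit.{1} => (⊤ : W.Opens)) (fun x => ⟨⟨⟩, trivial⟩)
    (fun _ => sec φ ⊤) (fun _ => hgen) (fun _ => one' ⊤) (fun _ => isGen_one _)
    (fun _ _ V _ _ => ⟨1, (one_smul _ _).symm, (one_smul _ _).symm⟩)

end Groth.Agent.Cube.Lift
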