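import Groth.Agent.Cube.Deform
import Groth.Agent.Cube.Lift
import Groth.Agent.Cube.Base
import Groth.Agent.PicLaw.Mumford
import Groth.Agent.AbVarLib.Rigidity
import Groth.Agent.S0002
import Groth.Agent.ProjTwist.Tensor
import Groth.Agent.ProperFin.Supp

/-!
# The theorem of the cube over a Noetherian local base

`X`, `Y` proper over a field with rational points and only constant functions, `R` a Noetherian local
algebra: a class on `X × Y × Spec R` trivial on both slices and on the closed fibre is trivial.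
-/

set_option autoImplicit false
universe u

open CategoryTheory CategoryTheory.Limits MonoidalCategory CartesianMonoidalCategory AlgebraicGeometry

noncomputable section

namespace Groth.Agent.Cube.Local

open scoped Groth.Agent.PicLaw
open PicLaw.Mumford (op op_comp)

variable {k : Type u} [Field k]

theorem eq_one_of_isEmpty {S : Scheme.{u}} [IsEmpty S] (c : PicLoc.PicSet S) : c = 1 := by
  obtain ⟨L, hL, rfl⟩ := PicGrp.exists_eq_cls c
  exact (PicGrp.cls_eq_one_iff _).mpr (PicLaw.nonempty_iso_of_transition (M := L)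
    (N := Coh.structureModule S) (ι := PEmpty.{1}) (fun p => p.elim) (fun x => isEmptyElim x)
    (fun p => p.elim) (fun p => p.elim) (fun p => p.elim) (fun p => p.elim) (fun p => p.elim))

theorem cls_op_eq_one {S T : Over (Spec (CommRingCat.of k))} (f : S ⟶ T) {L : T.left.Modules}
    (hL : PicF.IsInvertible L) :
    op f (PicGrp.cls L hL) = 1 ↔
      Nonempty ((Scheme.Modules.pullback f.left).obj L ≅ Coh.structureModule S.left) := by
  rw [← PicLaw.cls_pullback f.left hL]
  exact PicGrp.cls_eq_one_iff _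

instance isProper_snd (A B : Over (Spec (CommRingCat.of k))) [IsProper A.hom] : IsProper (snd A B).left :=
  show IsProper (pullback.snd A.hom B.hom) from inferInstance

instance flat_snd (A B : Over (Spec (CommRingCat.of k))) : Flat (snd A B).left :=
  show Flat (pullback.snd A.hom B.hom) from inferInstance

theorem bijective_pull_snd (Y T : Over (Spec (CommRingCat.of k))) [IsProper Y.hom] [IsIso Y.hom.appTop]
    [IsAffine T.left] : Function.Bijective (pull (snd Y T) ⊤ ⊤ (fun _ _ => trivial)) := by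
  have : IsIso (pullback.snd Y.hom T.hom).appTop :=
    (AbVarLib.Rigidity.isPushout_appTop Y.hom T.hom).isIso_inr_of_isIso
  have h := ConcreteCategory.bijective_of_isIso (pullback.snd Y.hom T.hom).appTop
  rw [Scheme.Hom.appTop, Scheme.Hom.app_eq_appLE] at h
  exact h

theorem surjective_str (X : Over (Spec (CommRingCat.of k))) [IsIso X.hom.appTop] :
    Function.Surjective (str X ⊤) := by
  have h := ConcreteCategory.bijective_of_isIso X.hom.appTop
  rw [Scheme.Hom.appTop, Scheme.Hom.app_eq_appLE] at h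
  exact h.2.comp (ConcreteCategory.bijective_of_isIso (Scheme.ΓSpecIso (CommRingCat.of k)).inv).2

theorem gl_eq_glb {R : Type u} [CommRing R] {W : Scheme.{u}} (q : W ⟶ Spec (CommRingCat.of R)) (U : W.Opens)
    (r : R) : Lift.gl q U r = glb q U r := rfl

variable (X Y : Over (Spec (CommRingCat.of k))) (x₀ : 𝟙_ (Over (Spec (CommRingCat.of k))) ⟶ X)
  (y₀ : 𝟙_ (Over (Spec (CommRingCat.of k))) ⟶ Y)

/-- The slice `x₀ × Y × T`. -/
abbrev slX (T : Over (Spec (CommRingCat.of k))) : Y ⊗ T ⟶ X ⊗ (Y ⊗ T) := lift (toUnit (Y ⊗ T) ≫ x₀) (𝟙 (Y ⊗ T))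

/-- The slice `X × y₀ × T`. -/
abbrev slY (T : Over (Spec (CommRingCat.of k))) : X ⊗ T ⟶ X ⊗ (Y ⊗ T) := X ◁ lift (toUnit T ≫ y₀) (𝟙 T)

theorem slX_nat {T T' : Over (Spec (CommRingCat.of k))} (f : T' ⟶ T) :
    slX X Y x₀ T' ≫ X ◁ Y ◁ f = Y ◁ f ≫ slX X Y x₀ T := by
  apply CartesianMonoidalCategory.hom_ext <;> simp

theorem slY_nat {T T' : Over (Spec (CommRingCat.of k))} (f : T' ⟶ T) :
    slY X Y y₀ T' ≫ X ◁ Y ◁ f = X ◁ f ≫ slY X Y y₀ T := by
  rw [slY, slY, ← MonoidalCategory.whiskerLeft_comp, ← MonoidalCategory.whiskerLeft_comp]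
  congr 1
  apply CartesianMonoidalCategory.hom_ext <;> simp

variable [IsProper X.hom] [IsProper Y.hom] [IsIso X.hom.appTop] [IsIso Y.hom.appTop]

variable {X Y}

omit [IsProper X.hom] [IsProper Y.hom] [IsIso X.hom.appTop] [IsIso Y.hom.appTop] in
theorem isPullback_top {R R' : Type u} [CommRing R] [Algebra k R] [CommRing R'] [Algebra k R'] (f : R →ₐ[k] R') :
    IsPullback (X ◁ Y ◁ spMap k f).left (snd X (Y ⊗ Sp k R') ≫ snd Y (Sp k R')).left
      (snd X (Y ⊗ Sp k R) ≫ snd Y (Sp k R)).left (Spec.map (CommRingCat.ofHom f.toRingHom)) :=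
  (isPullback_whiskerLeft' X (Y ◁ spMap k f)).flip.paste_vert (isPullback_whiskerLeft' Y (spMap k f)).flip

theorem step {R : Type u} [CommRing R] [Algebra k R] [IsNoetherianRing R] [IsLocalRing R]
    (hm : IsLocalRing.maximalIdeal R ≠ ⊥) (c : PicLoc.PicSet (X ⊗ (Y ⊗ Sp k R)).left)
    (hx : op (slX X Y x₀ (Sp k R)) c = 1) (hy : op (slY X Y y₀ (Sp k R)) c = 1)
    (h : ∀ I : Ideal R, I ≠ ⊥ → op (X ◁ Y ◁ spMap k (Ideal.Quotient.mkₐ k I)) c = 1) : c = 1 := by
  obtain ⟨L, hL, rfl⟩ := PicGrp.exists_eq_cls c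
  refine (PicGrp.cls_eq_one_iff _).mpr ?_
  rw [cls_op_eq_one] at hx hy
  simp only [cls_op_eq_one] at h
  let T := Sp k R
  let q : (X ⊗ (Y ⊗ T)).left ⟶ Spec (CommRingCat.of R) := (snd X (Y ⊗ T) ≫ snd Y T).left
  have hqp : IsProper q := show IsProper ((snd X (Y ⊗ T)).left ≫ (snd Y T).left) from inferInstance
  have hqf : Flat q := show Flat ((snd X (Y ⊗ T)).left ≫ (snd Y T).left) from inferInstance
  have hclosed : ∀ I : Ideal R, IsClosedImmersion (spMap k (Ideal.Quotient.mkₐ k I)).left := fun I =>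
    IsClosedImmersion.spec_of_surjective _ Ideal.Quotient.mk_surjective
  by_cases hreg : ∃ t ∈ IsLocalRing.maximalIdeal R, t ∈ nonZeroDivisors R
  · obtain ⟨t, ht, htreg⟩ := hreg
    let J : ℕ → Ideal R := fun n => Ideal.span {t ^ n}
    have := fun n => hclosed (J n)
    refine Lift.trivial_of_formal q hL ht
      (fun U hU a ha => eq_zero_of_glb_mul_eq_zero q hU htreg a ((gl_eq_glb q U t).symm ▸ ha)) ?_
      (fun n => (X ⊗ (Y ⊗ Sp k (R ⧸ J n))).left) (fun n => (X ◁ Y ◁ spMap k (Ideal.Quotient.mkₐ k (J n))).left)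
      (fun n U hU a ha => ?_) (fun n hn x hxq => ?_) (fun n => h (J n) ?_)
    · let : (X ⊗ (Y ⊗ T)).left.Over (Spec (CommRingCat.of R)) := ⟨q⟩
      have : IsLocallyNoetherian (X ⊗ (Y ⊗ T)).left := LocallyOfFiniteType.isLocallyNoetherian q
      have : CompactSpace (X ⊗ (Y ⊗ T)).left := QuasiCompact.compactSpace_of_compactSpace q
      have : IsNoetherian (X ⊗ (Y ⊗ T)).left := ⟨⟩
      have hcoh : Coh.IsCoh L := CohDev.isCoh_of_iso
        ((PicLaw.tensor_comm (PicLoc.isInvertible_structureModule _) hL).some ≪≫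
          (PicLaw.tensor_structureModule hL).some)
        (ProjTwist.isCoh_tensor hL (ProperFin.isCoh_structureModule _))
      have : IsProper ((X ⊗ (Y ⊗ T)).left ↘ Spec (CommRingCat.of R)) := hqp
      exact Groth.Agent.S0002.result R _ L hcoh 1
    · have h1 := mem_map_of_app_eq_zero (Ideal.Quotient.mkₐ k (J n)).toRingHom Ideal.Quotient.mk_surjective
        (isPullback_top (Ideal.Quotient.mkₐ k (J n))) hU a ha
      rw [show RingHom.ker (Ideal.Quotient.mkₐ k (J n)).toRingHom = J n from Ideal.mk_ker,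
        Ideal.map_span, Set.image_singleton, Ideal.mem_span_singleton] at h1
      obtain ⟨b, hb⟩ := h1
      exact ⟨b, hb⟩
    · refine mem_range_of_isPullback (Ideal.Quotient.mkₐ k (J n)).toRingHom Ideal.Quotient.mk_surjective
        (isPullback_top (Ideal.Quotient.mkₐ k (J n))) x ?_
      rw [show RingHom.ker (Ideal.Quotient.mkₐ k (J n)).toRingHom = J n from Ideal.mk_ker, hxq]
      exact (Ideal.span_singleton_le_iff_mem _).mpr (Ideal.pow_mem_of_mem _ ht n (Nat.pos_of_ne_zero hn))
    · rw [Ne, Ideal.span_singleton_eq_bot]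
      exact nonZeroDivisors.ne_zero (pow_mem htreg n)
  · push Not at hreg
    obtain ⟨e, hem, he0, hme⟩ := exists_socle hm hreg
    let I : Ideal R := Ideal.span {e}
    have := hclosed I
    have hII : I * I = ⊥ := by
      rw [Ideal.span_singleton_mul_span_singleton, Ideal.span_singleton_eq_bot]
      exact hme e hem
    have : Surjective (spMap k (Ideal.Quotient.mkₐ k I)).left := by
      refine ⟨fun p => ?_⟩
      have hp : p ∈ Set.range (PrimeSpectrum.comap (Ideal.Quotient.mk I)) := by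
        rw [range_comap_of_surjective _ _ Ideal.Quotient.mk_surjective, Ideal.mk_ker]
        have h2 : I * I ≤ p.asIdeal := hII ▸ bot_le
        exact (or_self_iff.mp (p.2.mul_le.mp h2) :)
      exact hp
    let iT := spMap k (Ideal.Quotient.mkₐ k I)
    have : IsSeparated (Y ⊗ T).hom := by
      rw [← Over.w (snd Y T)]
      infer_instance
    have : CompactSpace (Y ⊗ T).left := QuasiCompact.compactSpace_of_compactSpace (snd Y T).left
    have hpt : ∃ V : Y.left.Opens, IsAffineOpen V ∧ ⊤ ≤ y₀.left ⁻¹ᵁ V := by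
      have : Subsingleton ↥(𝟙_ (Over (Spec (CommRingCat.of k)))).left :=
        inferInstanceAs (Subsingleton (PrimeSpectrum k))
      obtain ⟨p⟩ : Nonempty ↥(𝟙_ (Over (Spec (CommRingCat.of k)))).left :=
        inferInstanceAs (Nonempty (PrimeSpectrum k))
      obtain ⟨U, hU, hxU, -⟩ := exists_isAffineOpen_mem_and_subset (U := (⊤ : Y.left.Opens))
        (TopologicalSpace.Opens.mem_top (y₀.left p))
      exact ⟨U, hU, fun q _ => (Subsingleton.elim p q ▸ hxU : y₀.left q ∈ U)⟩
    obtain ⟨V₀, hV₀, hV₀pt⟩ := hpt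
    refine trivial_of_deformation (X := X) (Q := Y ⊗ T) (T := T) x₀ (surjective_str X) (Y ◁ iT) ?_ iT
      (lift (toUnit T ≫ y₀) (𝟙 T)) (snd Y T) (lift (toUnit _ ≫ y₀) (𝟙 _)) (snd Y (Sp k (R ⧸ I)))
      (lift_snd _ _) ?_ (whiskerLeft_snd Y iT) (bijective_pull_snd Y T) (bijective_pull_snd Y _).2
      (Va := box V₀ (⊤ : T.left.Opens)) (isAffineOpen_box hV₀ (isAffineOpen_top _))
      (le_pre_point y₀ hV₀pt le_rfl) L hL (h I ?_) hx hy
    · intro V hV a b ha hb
      have hmem : ∀ a, a ∈ K (Y ◁ iT) V → a ∈ Ideal.map (glb (snd Y T).left V) I := fun a ha => by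
        have h1 := mem_map_of_app_eq_zero (Ideal.Quotient.mkₐ k I).toRingHom Ideal.Quotient.mk_surjective
          (isPullback_whiskerLeft' Y iT).flip hV a (by
            rw [← Scheme.Hom.appLE_eq_app]
            exact ha)
        rwa [show RingHom.ker (Ideal.Quotient.mkₐ k I).toRingHom = I from Ideal.mk_ker] at h1
      have h2 := Ideal.mul_mem_mul (hmem a ha) (hmem b hb)
      rwa [← Ideal.map_mul, hII, Ideal.map_bot, Ideal.mem_bot] at h2
    · apply CartesianMonoidalCategory.hom_ext <;> simp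
    · rw [Ne, Ideal.span_singleton_eq_bot]
      exact he0

/-- **The theorem of the cube over a local base.** -/
theorem eq_one_of_local {R : Type u} [CommRing R] [Algebra k R] [IsNoetherianRing R] [IsLocalRing R]
    (c : PicLoc.PicSet (X ⊗ (Y ⊗ Sp k R)).left)
    (hx : op (slX X Y x₀ (Sp k R)) c = 1) (hy : op (slY X Y y₀ (Sp k R)) c = 1)
    (h0 : op (X ◁ Y ◁ spMap k (Ideal.Quotient.mkₐ k (IsLocalRing.maximalIdeal R))) c = 1) : c = 1 := by
  have key : ∀ J : Ideal R, op (X ◁ Y ◁ spMap k (Ideal.Quotient.mkₐ k J)) c = 1 := by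
    intro J
    induction J using WellFoundedGT.induction with
    | _ J IH =>
    by_cases hJ : J = ⊤
    · have : Subsingleton (R ⧸ J) := Ideal.Quotient.subsingleton_iff.mpr hJ
      have : IsEmpty (Sp k (R ⧸ J)).left := inferInstanceAs (IsEmpty (PrimeSpectrum (R ⧸ J)))
      have : IsEmpty (X ⊗ (Y ⊗ Sp k (R ⧸ J))).left :=
        Function.isEmpty (fun z => (snd X (Y ⊗ Sp k (R ⧸ J)) ≫ snd Y (Sp k (R ⧸ J))).left z)
      exact eq_one_of_isEmpty _
    by_cases hJm : J = IsLocalRing.maximalIdeal R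
    · rw [hJm]; exact h0
    have : Nontrivial (R ⧸ J) := Ideal.Quotient.nontrivial_iff.mpr hJ
    have : IsLocalRing (R ⧸ J) := IsLocalRing.of_surjective' _ Ideal.Quotient.mk_surjective
    have hm : IsLocalRing.maximalIdeal (R ⧸ J) ≠ ⊥ := fun hb => hJm <| by
      have hfield : IsField (R ⧸ J) := IsLocalRing.isField_iff_maximalIdeal_eq.mpr hb
      have hmax : J.IsMaximal := Ideal.Quotient.maximal_of_isField J hfield
      exact IsLocalRing.eq_maximalIdeal hmax
    refine step x₀ y₀ hm _ ?_ ?_ fun I hI => ?_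
    · rw [← op_comp, slX_nat, op_comp, hx, map_one]
    · rw [← op_comp, slY_nat, op_comp, hy, map_one]
    · let J' : Ideal R := Ideal.comap (Ideal.Quotient.mk J) I
      have hle : J ≤ J' := fun r hr => by
        show Ideal.Quotient.mk J r ∈ I
        rw [Ideal.Quotient.eq_zero_iff_mem.mpr hr]
        exact I.zero_mem
      have hlt : J < J' := lt_of_le_of_ne hle fun hJJ => hI <| by
        rw [← Ideal.map_comap_of_surjective _ Ideal.Quotient.mk_surjective I]
        change Ideal.map _ J' = ⊥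
        rw [← hJJ, Ideal.map_quotient_self]
      let g : R ⧸ J' →ₐ[k] (R ⧸ J) ⧸ I := Ideal.Quotient.liftₐ J'
        ((Ideal.Quotient.mkₐ k I).comp (Ideal.Quotient.mkₐ k J))
        (fun r hr => Ideal.Quotient.eq_zero_iff_mem.mpr hr)
      have hfac : spMap k (Ideal.Quotient.mkₐ k I) ≫ spMap k (Ideal.Quotient.mkₐ k J) =
          spMap k g ≫ spMap k (Ideal.Quotient.mkₐ k J') := by
        rw [spMap_comp, spMap_comp]
        rfl
      rw [← op_comp, ← MonoidalCategory.whiskerLeft_comp, ← MonoidalCategory.whiskerLeft_comp, hfac,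
        MonoidalCategory.whiskerLeft_comp, MonoidalCategory.whiskerLeft_comp, op_comp, IH J' hlt, map_one]
  let g : R ⧸ (⊥ : Ideal R) →ₐ[k] R := Ideal.Quotient.liftₐ ⊥ (AlgHom.id k R) (fun r hr => by simpa using hr)
  have hfac : spMap k g ≫ spMap k (Ideal.Quotient.mkₐ k (⊥ : Ideal R)) = 𝟙 (Sp k R) := by
    rw [spMap_comp, show g.comp (Ideal.Quotient.mkₐ k ⊥) = AlgHom.id k R from AlgHom.ext fun r => rfl]
    refine Over.OverMorphism.ext ?_
    exact Spec.map_id _
  have h1 := congrArg (op (X ◁ Y ◁ spMap k g)) (key ⊥)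
  rw [← op_comp, ← MonoidalCategory.whiskerLeft_comp, ← MonoidalCategory.whiskerLeft_comp, hfac,
    MonoidalCategory.whiskerLeft_id, MonoidalCategory.whiskerLeft_id, map_one] at h1
  exact (PicLaw.pl_id c).symm.trans h1

end Groth.Agent.Cube.Local
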